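import Mathlib

/-!
# Binary linear groups: fixed spaces and moved spaces

`H` acts linearly and irreducibly on `V`, and pairs of moved vectors are glued as in a binary affine group.
-/

set_option autoImplicit false
set_option linter.unusedSectionVars false

namespace Cfsg.Lib.Binary

variable {H V : Type*} [Group H] [AddCommGroup V] [DistribMulAction H V]

/-- The vectors fixed by an element. -/
def Fx (g : H) : AddSubgroup V where
  carrier := {v | g • v = v}
  add_mem' {a b} ha hb := by show g • (a + b) = a + b; rw [smul_add, ha, hb]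
  zero_mem' := smul_zero g
  neg_mem' {a} ha := by show g • -a = -a; rw [smul_neg, ha]

theorem mem_Fx {g : H} {v : V} : v ∈ Fx (V := V) g ↔ g • v = v := Iff.rfl

/-- The difference of an element and the identity. -/
def df (g : H) : V →+ V := AddMonoidHom.mk' (fun v => g • v - v) fun a b => by rw [smul_add]; abel

/-- The moved space. -/
def Mv (g : H) : AddSubgroup V := (df g).range

theorem mem_Mv {g : H} {d : V} : d ∈ Mv (V := V) g ↔ ∃ v, g • v - v = d := Iff.rfl

theorem sub_mem_Mv (g : H) (v : V) : g • v - v ∈ Mv g := ⟨v, rfl⟩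

theorem Fx_eq_ker (g : H) : Fx (V := V) g = (df g).ker :=
  SetLike.ext fun v => by rw [AddMonoidHom.mem_ker, mem_Fx]; exact sub_eq_zero.symm

theorem card_Fx_mul [Finite V] (g : H) : Nat.card (Fx (V := V) g) * Nat.card (Mv (V := V) g) = Nat.card V := by
  have h := (df (V := V) g).ker.card_mul_index
  rwa [AddSubgroup.index_ker, ← Fx_eq_ker] at h

variable (H V) in
/-- The hypotheses: torsion by a prime, irreducibility and the gluing of a binary affine group. -/
structure Hyp (p : ℕ) : Prop where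
  prime : p.Prime
  torsion : ∀ v : V, p • v = 0
  faith : ∀ g : H, (∀ v : V, g • v = v) → g = 1
  irr : ∀ M : AddSubgroup V, (∀ g : H, ∀ v ∈ M, g • v ∈ M) → M = ⊥ ∨ M = ⊤
  star : ∀ (g b : H) (z y : V), g • z - z = b • y - y →
    ∃ h : H, (∀ v : V, g • v = v → h • v = v) ∧ (∀ v : V, b • v = v → h • v = v) ∧
      h • (z - y) = z - y ∧ h • z = g • z

/-- The nontrivial elements with maximal fixed space. -/
def InR (V : Type*) [AddCommGroup V] [DistribMulAction H V] (a : H) : Prop :=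
  a ≠ 1 ∧ ∀ b : H, b ≠ 1 → Fx (V := V) a ≤ Fx b → Fx (V := V) b ≤ Fx a

variable {p : ℕ} (P : Hyp H V p)
include P

theorem Hyp.swap (g : H) (z : V) : ∃ h : H, (∀ v : V, g • v = v → h • v = v) ∧ h • (z + g • z) = z + g • z ∧
    h • z = g • z ∧ h • (g • z) = z := by
  obtain ⟨h, h1, -, h3, h4⟩ := P.star g g⁻¹ z (-(g • z)) (by rw [smul_neg, inv_smul_smul]; abel)
  rw [sub_neg_eq_add] at h3
  refine ⟨h, h1, h3, h4, ?_⟩
  rw [smul_add, h4, add_comm z] at h3
  exact add_left_cancel h3

theorem Hyp.two_zero (hp : p = 2) (v : V) : v + v = 0 := by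
  rw [← two_nsmul, ← hp]; exact P.torsion v

theorem Hyp.eq_zero_of_two (hp : p ≠ 2) {v : V} (h : v + v = 0) : v = 0 := by
  obtain ⟨k, hk⟩ := P.prime.odd_of_ne_two hp
  have := P.torsion v
  rw [hk, add_nsmul, one_nsmul, mul_nsmul, two_nsmul, h, smul_zero, zero_add] at this
  exact this

theorem Hyp.quad (hp : p ≠ 2) {g : H} {t u : V} (ht : g • t = t) (hu : g • u = u + t) : t = 0 := by
  obtain ⟨h, -, h2, h3, h4⟩ := P.star (g * g) g u (u + u)
    (by rw [mul_smul, hu, smul_add, hu, ht, smul_add, hu]; abel)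
  rw [show u - (u + u) = -u by abel, smul_neg, neg_inj] at h3
  rw [h3, mul_smul, hu, smul_add, hu, ht] at h4
  refine P.eq_zero_of_two hp (add_left_cancel (a := u) ?_)
  rw [add_zero, ← add_assoc]
  exact h4.symm

theorem Hyp.ext {a b : H} (h : ∀ v : V, a • v = b • v) : a = b :=
  inv_mul_eq_one.1 (P.faith (b⁻¹ * a) fun v => by rw [mul_smul, h, inv_smul_smul]) |>.symm

theorem Hyp.exists_inR [Finite V] {g : H} (hg : g ≠ 1) : ∃ a : H, InR V a ∧ Fx (V := V) g ≤ Fx a := by
  obtain ⟨W, hW⟩ := Set.Finite.exists_maximal (s := {W : AddSubgroup V | ∃ a : H, a ≠ 1 ∧ W = Fx a ∧ Fx g ≤ W})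
    (Set.toFinite _) ⟨_, g, hg, rfl, le_rfl⟩
  obtain ⟨⟨a, ha, rfl, hga⟩, hmax⟩ := hW
  exact ⟨a, ⟨ha, fun b hb hab => hmax ⟨b, hb, rfl, hga.trans hab⟩ hab⟩, hga⟩

theorem Hyp.Mv_ne {a : H} (ha : a ≠ 1) : ∃ d ∈ Mv (V := V) a, d ≠ 0 := by
  by_contra h
  push Not at h
  exact ha (P.faith a fun v => sub_eq_zero.1 (h _ (sub_mem_Mv a v)))

theorem Hyp.two_le_Mv [Finite V] {a : H} (ha : a ≠ 1) : 2 ≤ Nat.card (Mv (V := V) a) := by
  obtain ⟨d, hd, hd0⟩ := P.Mv_ne ha
  have : Nontrivial (Mv (V := V) a) := ⟨⟨⟨d, hd⟩, 0, fun e => hd0 (congrArg Subtype.val e)⟩⟩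
  exact Finite.one_lt_card

/-- Members are determined by any nonzero moved vector. -/
theorem Hyp.eq_of_Mv {a b : H} (ha : InR V a) (hb : InR V b) {d : V} (hd : d ≠ 0) (hda : d ∈ Mv a)
    (hdb : d ∈ Mv b) : a = b := by
  obtain ⟨z, hz⟩ := mem_Mv.1 hda
  obtain ⟨y, hy⟩ := mem_Mv.1 hdb
  obtain ⟨h, h1, h2, h3, h4⟩ := P.star a b z y (hz.trans hy.symm)
  have hh : h ≠ 1 := fun e => hd (by rw [← hz, ← h4, e, one_smul, sub_self])
  have hle : Fx (V := V) h ≤ Fx a := ha.2 h hh fun v hv => h1 v hv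
  have hba : Fx (V := V) b ≤ Fx a := fun v hv => hle (h2 v hv)
  have hab : Fx (V := V) a ≤ Fx b := hb.2 a ha.1 hba
  have hw : b • (z - y) = z - y := hab (hle h3)
  have hbz : b • z = a • z := by
    have e : b • z = b • (z - y) + b • y := by rw [← smul_add, sub_add_cancel]
    rw [e, hw, show b • y = d + y by rw [← hy]; abel, show a • z = d + z by rw [← hz]; abel]
    abel
  by_contra hne
  have hab' : a⁻¹ * b ≠ 1 := fun e => hne (inv_mul_eq_one.1 e)
  have h5 : Fx (V := V) a ≤ Fx (a⁻¹ * b) := fun v hv => by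
    show (a⁻¹ * b) • v = v
    rw [mul_smul, show b • v = v from hab hv, ← show a • v = v from hv, inv_smul_smul, hv]
  have h6 : z ∈ Fx (V := V) a := ha.2 _ hab' h5 (show (a⁻¹ * b) • z = z by rw [mul_smul, hbz, inv_smul_smul])
  exact hd (by rw [← hz, show a • z = z from h6, sub_self])

theorem Hyp.sq {a : H} (ha : InR V a) : a * a = 1 := by
  refine P.faith _ fun z => ?_
  rw [mul_smul]
  by_cases hz : a • z = z
  · rw [hz, hz]
  obtain ⟨h, h1, -, h3, h4⟩ := P.swap a z
  have hh : h ≠ 1 := fun e => hz (by rw [← h3, e, one_smul])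
  have hR : InR V h :=
    ⟨hh, fun b hb hle => (ha.2 b hb (le_trans (fun v hv => h1 v hv) hle)).trans fun v hv => h1 v hv⟩
  have e : a = h := P.eq_of_Mv ha hR (sub_ne_zero.2 hz) (sub_mem_Mv a z) (by rw [← h3]; exact sub_mem_Mv h z)
  rw [e] at hz h4 ⊢
  exact h4

theorem Hyp.inv_eq {a : H} (ha : InR V a) : a⁻¹ = a := inv_eq_of_mul_eq_one_right (P.sq ha)

theorem Hyp.smul_smul_self {a : H} (ha : InR V a) (v : V) : a • (a • v) = v := by
  rw [← mul_smul, P.sq ha, one_smul]

/-- A member negates its moved space. -/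
theorem Hyp.smul_Mv {a : H} (ha : InR V a) {d : V} (hd : d ∈ Mv a) : a • d = -d := by
  obtain ⟨z, rfl⟩ := mem_Mv.1 hd
  rw [smul_sub, P.smul_smul_self ha]; abel

theorem Hyp.Mv_le_Fx (hp : p = 2) {a : H} (ha : InR V a) : Mv (V := V) a ≤ Fx a := fun d hd => by
  show a • d = d
  rw [P.smul_Mv ha hd]
  exact neg_eq_of_add_eq_zero_left (P.two_zero hp d)

theorem Hyp.Mv_inf_Fx (hp : p ≠ 2) {a : H} (ha : InR V a) {d : V} (hd : d ∈ Mv a) (hf : a • d = d) : d = 0 := by
  refine P.eq_zero_of_two hp ?_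
  rw [P.smul_Mv ha hd] at hf
  nth_rewrite 1 [← hf]
  exact neg_add_cancel d

/-- An element moving a vector into the moved space of a member agrees with it there. -/
theorem Hyp.agree {g a : H} (ha : InR V a) {z : V} (he : g • z - z ∈ Mv a) (hz : g • z ≠ z) :
    g • z = a • z ∧ Fx (V := V) g ≤ Fx a := by
  obtain ⟨y, hy⟩ := mem_Mv.1 he
  obtain ⟨h, h1, h2, -, h4⟩ := P.star g a z y hy.symm
  have hh : h ≠ 1 := fun e => hz (by rw [← h4, e, one_smul])
  have hle : Fx (V := V) h ≤ Fx a := ha.2 h hh fun v hv => h2 v hv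
  have hR : InR V h :=
    ⟨hh, fun b hb hle' => (ha.2 b hb (le_trans (fun v hv => h2 v hv) hle')).trans fun v hv => h2 v hv⟩
  have e : h = a := P.eq_of_Mv hR ha (sub_ne_zero.2 hz) (by rw [← h4]; exact sub_mem_Mv h z) he
  exact ⟨e ▸ h4.symm, fun v hv => hle (h1 v hv)⟩

theorem Hyp.inR_conj (g : H) {a : H} (ha : InR V a) : InR V (g * a * g⁻¹) := by
  refine ⟨fun e => ha.1 (by simpa using e), fun b hb hle v hv => ?_⟩
  have h1 : Fx (V := V) a ≤ Fx (g⁻¹ * b * g) := fun w hw => by
    have := hle (show g • w ∈ Fx (V := V) (g * a * g⁻¹) by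
      show (g * a * g⁻¹) • g • w = g • w
      rw [mul_smul, inv_smul_smul, mul_smul, show a • w = w from hw])
    show (g⁻¹ * b * g) • w = w
    rw [mul_smul, mul_smul, show b • g • w = g • w from this, inv_smul_smul]
  have h2 : a • (g⁻¹ • v) = g⁻¹ • v := ha.2 (g⁻¹ * b * g) (fun e => hb (by
      have := congrArg (fun x => g * x * g⁻¹) e; simpa [mul_assoc] using this)) h1
    (show (g⁻¹ * b * g) • g⁻¹ • v = g⁻¹ • v by rw [mul_smul, smul_inv_smul, mul_smul, show b • v = v from hv])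
  show (g * a * g⁻¹) • v = v
  rw [mul_smul, mul_smul, h2, smul_inv_smul]

theorem Hyp.Mv_conj (g a : H) {d : V} (hd : d ∈ Mv a) : g • d ∈ Mv (V := V) (g * a * g⁻¹) := by
  obtain ⟨z, rfl⟩ := mem_Mv.1 hd
  exact ⟨g • z, by show (g * a * g⁻¹) • g • z - g • z = _; rw [mul_smul, inv_smul_smul, mul_smul, smul_sub]⟩

theorem Hyp.card_Mv_conj [Finite V] (g a : H) : Nat.card (Mv (V := V) (g * a * g⁻¹)) = Nat.card (Mv (V := V) a) := by
  refine (Nat.card_eq_of_bijective (fun d : Mv (V := V) a => (⟨g • (d : V), P.Mv_conj g a d.2⟩ : Mv (V := V) (g * a * g⁻¹)))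
    ⟨fun d e h => Subtype.ext (MulAction.injective g (congrArg Subtype.val h)), fun d => ?_⟩).symm
  refine ⟨⟨g⁻¹ • (d : V), ?_⟩, Subtype.ext (smul_inv_smul g _)⟩
  have := P.Mv_conj g⁻¹ (g * a * g⁻¹) d.2
  rwa [show g⁻¹ * (g * a * g⁻¹) * g⁻¹⁻¹ = a by group] at this

/-- Commuting members: the moved space of one is fixed by the other. -/
theorem Hyp.le_of_comm {a c : H} (ha : InR V a) (hc : InR V c) (hne : a ≠ c) (h : a * c = c * a) :
    Mv (V := V) c ≤ Fx a := by
  intro e he
  by_contra hf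
  have h1 : a • e ∈ Mv (V := V) c := by
    have := P.Mv_conj a c he
    rwa [h, mul_inv_cancel_right] at this
  exact hne (P.eq_of_Mv ha hc (sub_ne_zero.2 hf) (sub_mem_Mv a e) (sub_mem h1 he))

theorem Hyp.comm_of_mem {a c : H} (ha : InR V a) (hc : InR V c) {e : V} (he : e ∈ Mv c) (he0 : e ≠ 0)
    (hf : a • e = e) : a * c = c * a := by
  have h := P.eq_of_Mv (P.inR_conj a hc) hc he0 (by have := P.Mv_conj a c he; rwa [hf] at this) he
  calc a * c = a * c * a⁻¹ * a := by group
    _ = c * a := by rw [h]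

/-- Non-commuting members fix nothing of the other moved space. -/
theorem Hyp.not_fix {a c : H} (ha : InR V a) (hc : InR V c) (h : a * c ≠ c * a) {e : V} (he : e ∈ Mv c)
    (hf : a • e = e) : e = 0 := by
  by_contra he0
  exact h (P.comm_of_mem ha hc he he0 hf)

theorem Hyp.card_le_of_noncomm [Finite V] {a c : H} (ha : InR V a) (hc : InR V c) (h : a * c ≠ c * a) :
    Nat.card (Mv (V := V) c) ≤ Nat.card (Mv (V := V) a) := by
  refine Nat.card_le_card_of_injective (fun e => (⟨a • (e : V) - e, sub_mem_Mv a _⟩ : Mv (V := V) a)) fun e f hef => ?_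
  have h1 : a • ((e : V) - f) = e - f := by
    have : a • (e : V) - e = a • (f : V) - f := congrArg Subtype.val hef
    rw [smul_sub, sub_eq_sub_iff_add_eq_add]
    calc a • (e : V) + f = (a • (e : V) - e) + (e + f) := by abel
      _ = _ := by rw [this]; abel
  exact Subtype.ext (sub_eq_zero.1 (P.not_fix ha hc h (sub_mem e.2 f.2) h1))

theorem Hyp.card_eq_of_noncomm [Finite V] {a c : H} (ha : InR V a) (hc : InR V c) (h : a * c ≠ c * a) :
    Nat.card (Mv (V := V) c) = Nat.card (Mv (V := V) a) :=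
  le_antisymm (P.card_le_of_noncomm ha hc h) (P.card_le_of_noncomm hc ha (Ne.symm h))

/-- An element with the fixed points of a set and moving a vector freely is an involution. -/
theorem Hyp.sq_of_free {S : Set V} {k : H} (hk : ∀ v ∈ S, k • v = v) {z : V}
    (hfree : ∀ g : H, (∀ v ∈ S, g • v = v) → g • z = z → g = 1) : k * k = 1 := by
  obtain ⟨h, h1, -, h3, h4⟩ := P.swap k z
  have hS : ∀ v ∈ S, h • v = v := fun v hv => h1 v (hk v hv)
  have e : h = k := by
    have := hfree (h⁻¹ * k) (fun v hv => by rw [mul_smul, hk v hv]; exact inv_smul_eq_iff.2 (hS v hv).symm)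
      (by rw [mul_smul, ← h3, inv_smul_smul])
    exact inv_mul_eq_one.1 this
  rw [e] at h4
  exact hfree (k * k) (fun v hv => by rw [mul_smul, hk v hv, hk v hv]) (by rw [mul_smul, h4])

theorem Hyp.comm_of_free {S : Set V} {k l : H} (hk : ∀ v ∈ S, k • v = v) (hl : ∀ v ∈ S, l • v = v) {z : V}
    (hfree : ∀ g : H, (∀ v ∈ S, g • v = v) → g • z = z → g = 1) : k * l = l * k := by
  have hkl := P.sq_of_free (k := k * l) (fun v hv => by rw [mul_smul, hl v hv, hk v hv]) hfree
  have e : k * l = (k * l)⁻¹ := (inv_eq_of_mul_eq_one_right hkl).symm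
  rw [mul_inv_rev, inv_eq_of_mul_eq_one_right (P.sq_of_free hk hfree),
    inv_eq_of_mul_eq_one_right (P.sq_of_free hl hfree)] at e
  exact e

/-- A regular vector gives the trivial case. -/
theorem Hyp.regular_case [Finite V] [Finite H] [Nontrivial V] {z : V} (hfree : ∀ g : H, g • z = z → g = 1) :
    (Nat.card V).Prime ∧ Nat.card H ≤ 2 := by
  have hfree' : ∀ g : H, (∀ v ∈ (∅ : Set V), g • v = v) → g • z = z → g = 1 := fun g _ h => hfree g h
  have hcomm : ∀ k l : H, k * l = l * k := fun k l => P.comm_of_free (by simp) (by simp) hfree'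
  have hneg : ∀ k : H, k ≠ 1 → ∀ v : V, k • v = -v := by
    intro k hk v
    have hinv : ∀ g : H, ∀ v ∈ Fx (V := V) k, g • v ∈ Fx (V := V) k := fun g v hv => by
      show k • g • v = g • v
      rw [← mul_smul, hcomm, mul_smul, show k • v = v from hv]
    rcases P.irr _ hinv with h | h
    · have hsq : k * k = 1 := P.sq_of_free (by simp) hfree'
      have : k • v + v ∈ Fx (V := V) k := by
        show k • (k • v + v) = _
        rw [smul_add, ← mul_smul, hsq, one_smul, add_comm]
      rw [h, AddSubgroup.mem_bot] at this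
      exact eq_neg_of_add_eq_zero_left this
    · exact absurd (P.faith k fun v => show v ∈ Fx (V := V) k from h ▸ AddSubgroup.mem_top v) hk
  have hH : Nat.card H ≤ 2 := by
    classical
    refine (Nat.card_le_card_of_injective (fun k : H => decide (k = 1)) fun k l e => ?_).trans_eq (by simp)
    have hiff : k = 1 ↔ l = 1 := by simpa using e
    by_cases hk : k = 1
    · rw [hk, hiff.1 hk]
    · exact P.ext fun v => by rw [hneg k hk, hneg l fun h => hk (hiff.2 h)]
  refine ⟨?_, hH⟩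
  obtain ⟨v, hv⟩ := exists_ne (0 : V)
  rcases P.irr (AddSubgroup.zmultiples v) (fun g w hw => by
    by_cases hg : g = 1
    · rwa [hg, one_smul]
    · rw [hneg g hg]; exact neg_mem hw) with h | h
  · exact absurd (AddSubgroup.zmultiples_eq_bot.1 h) hv
  · have : Fact p.Prime := ⟨P.prime⟩
    rw [← AddSubgroup.card_top (G := V), ← h, Nat.card_zmultiples, addOrderOf_eq_prime (P.torsion v) hv]
    exact P.prime

end Cfsg.Lib.Binary
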