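import Cfsg.Agent.Lib.Binary.Plane

/-!
# Binary linear groups: components of the non-commuting graph on the members
-/

set_option autoImplicit false
set_option linter.unusedSectionVars false

namespace Cfsg.Lib.Binary

variable {H V : Type*} [Group H] [AddCommGroup V] [DistribMulAction H V]

/-- Distance at most two in the non-commuting graph on the members. -/
def Near (V : Type*) [AddCommGroup V] [DistribMulAction H V] (a c : H) : Prop :=
  a = c ∨ a * c ≠ c * a ∨ ∃ b, InR V b ∧ a * b ≠ b * a ∧ b * c ≠ c * b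

/-- A vector moved by a member near `a`. -/
def InC (a : H) (d : V) : Prop := ∃ f : H, InR V f ∧ Near V a f ∧ d ∈ Mv f

theorem exists_notMem₂ {A B : AddSubgroup V} (hA : ∃ x, x ∉ A) (hB : ∃ x, x ∉ B) : ∃ x, x ∉ A ∧ x ∉ B := by
  obtain ⟨x, hx⟩ := hA
  obtain ⟨y, hy⟩ := hB
  by_cases hxB : x ∈ B
  · by_cases hyA : y ∈ A
    · exact ⟨x + y, fun h => hx (by simpa using sub_mem h hyA), fun h => hy (by simpa using sub_mem h hxB)⟩
    · exact ⟨y, hyA, hy⟩
  · exact ⟨x, hx, hxB⟩

variable [Finite V] {p : ℕ} (P : Hyp H V p)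
include P

theorem Hyp.exists_move {a : H} (ha : InR V a) : ∃ z : V, z ∉ Fx (V := V) a := by
  by_contra h
  push Not at h
  exact ha.1 (P.faith a h)

theorem Hyp.near_symm {a c : H} (h : Near V a c) : Near V c a := by
  rcases h with h | h | ⟨b, hb, h1, h2⟩
  · exact Or.inl h.symm
  · exact Or.inr (Or.inl h.symm)
  · exact Or.inr (Or.inr ⟨b, hb, h2.symm, h1.symm⟩)

theorem Hyp.near_step {a c e : H} (ha : InR V a) (hc : InR V c) (he : InR V e) (h : Near V a c)
    (hce : c * e ≠ e * c) : Near V a e := by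
  rcases h with rfl | h | ⟨b, hb, hab, hbc⟩
  · exact Or.inr (Or.inl hce)
  · exact Or.inr (Or.inr ⟨c, hc, h, hce⟩)
  obtain ⟨u, hu, hu0⟩ := P.Mv_ne (V := V) hb.1
  obtain ⟨v, hv, hv0⟩ := P.Mv_ne (V := V) hc.1
  have hua : u ∉ Fx (V := V) a := fun h => hu0 (P.not_fix ha hb hab hu h)
  have hve : v ∉ Fx (V := V) e := fun h => hv0 (P.not_fix he hc hce.symm hv h)
  obtain ⟨d, hd, hda, hde⟩ : ∃ d ∈ Mv (V := V) b ⊔ Mv c, d ∉ Fx (V := V) a ∧ d ∉ Fx (V := V) e := by
    by_cases h1 : u ∈ Fx (V := V) e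
    · by_cases h2 : v ∈ Fx (V := V) a
      · exact ⟨u + v, add_mem (AddSubgroup.mem_sup_left hu) (AddSubgroup.mem_sup_right hv),
          fun h => hua (by simpa using sub_mem h h2), fun h => hve (by simpa using sub_mem h h1)⟩
      · exact ⟨v, AddSubgroup.mem_sup_right hv, h2, hve⟩
    · exact ⟨u, AddSubgroup.mem_sup_left hu, hua, h1⟩
  obtain ⟨f, hf, -, hdf, -⟩ := P.plane_good hb hc hbc hd fun h => hda (h ▸ zero_mem _)
  by_cases hfa : f = a
  · subst hfa
    by_cases hfe : f = e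
    · exact Or.inl hfe
    · exact Or.inr (Or.inl fun h => hde (P.le_of_comm he hf (Ne.symm hfe) h.symm hdf))
  have h1 : a * f ≠ f * a := fun h => hda (P.le_of_comm ha hf (Ne.symm hfa) h hdf)
  by_cases hfe : f = e
  · exact Or.inr (Or.inl (hfe ▸ h1))
  · exact Or.inr (Or.inr ⟨f, hf, h1, fun h => hde (P.le_of_comm he hf (Ne.symm hfe) h.symm hdf)⟩)

theorem Hyp.near_trans {a c e : H} (ha : InR V a) (hc : InR V c) (he : InR V e) (h : Near V a c)
    (h' : Near V c e) : Near V a e := by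
  rcases h' with rfl | h' | ⟨b, hb, h1, h2⟩
  · exact h
  · exact P.near_step ha hc he h h'
  · exact P.near_step ha hb he (P.near_step ha hc hb h h1) h2

theorem Hyp.near_of_or {a b c h : H} (ha : InR V a) (hb : InR V b) (hc : InR V c) (hh : InR V h)
    (hab : Near V a b) (hac : Near V a c) (h' : h * b ≠ b * h ∨ h * c ≠ c * h) : Near V a h := by
  rcases h' with h' | h'
  · exact P.near_step ha hb hh hab h'.symm
  · exact P.near_step ha hc hh hac h'.symm

theorem Hyp.near_card {a c : H} (ha : InR V a) (hc : InR V c) (h : Near V a c) :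
    Nat.card (Mv (V := V) c) = Nat.card (Mv (V := V) a) := by
  rcases h with rfl | h | ⟨b, hb, h1, h2⟩
  · rfl
  · exact P.card_eq_of_noncomm ha hc h
  · exact (P.card_eq_of_noncomm hb hc h2).trans (P.card_eq_of_noncomm ha hb h1)

theorem Hyp.near_conj (g : H) {a c : H} (h : Near V a c) : Near V (g * a * g⁻¹) (g * c * g⁻¹) := by
  have key : ∀ x y : H, x * y ≠ y * x → g * x * g⁻¹ * (g * y * g⁻¹) ≠ g * y * g⁻¹ * (g * x * g⁻¹) := by
    intro x y hxy e
    refine hxy ((MulAut.conj g).injective ?_)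
    simpa only [map_mul, MulAut.conj_apply] using e
  rcases h with h | h | ⟨b, hb, h1, h2⟩
  · exact Or.inl (by rw [h])
  · exact Or.inr (Or.inl (key _ _ h))
  · exact Or.inr (Or.inr ⟨_, P.inR_conj g hb, key _ _ h1, key _ _ h2⟩)

/-- A member that is not near another fixes its moved space. -/
theorem Hyp.fix_far {a f g : H} (ha : InR V a) (hf : InR V f) (hg : InR V g) (haf : Near V a f)
    (hag : ¬ Near V a g) {d : V} (hd : d ∈ Mv f) : g • d = d := by
  have hne : g ≠ f := fun e => hag (e ▸ haf)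
  by_cases hc : g * f = f * g
  · exact P.le_of_comm hg hf hne hc hd
  · exact absurd (P.near_step ha hf hg haf (Ne.symm hc)) hag

theorem Hyp.fix_all_zero {a : H} (ha : InR V a) {d : V} (h : ∀ f : H, InR V f → f • d = d) : d = 0 := by
  let M : AddSubgroup V :=
    { carrier := {d | ∀ f : H, InR V f → f • d = d}
      add_mem' := fun {x y} hx hy f hf => by rw [smul_add, hx f hf, hy f hf]
      zero_mem' := fun f _ => smul_zero f
      neg_mem' := fun {x} hx f hf => by rw [smul_neg, hx f hf] }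
  rcases P.irr M (fun g v hv f hf => by
    have h1 := hv _ (P.inR_conj g⁻¹ hf)
    rw [inv_inv, mul_smul, mul_smul, inv_smul_eq_iff] at h1
    exact h1) with hM | hM
  · have : d ∈ M := h
    rwa [hM, AddSubgroup.mem_bot] at this
  · obtain ⟨z, hz⟩ := P.exists_move ha
    exact absurd ((hM.symm ▸ AddSubgroup.mem_top z : z ∈ M) a ha) hz

theorem Hyp.span_top {a : H} (ha : InR V a) {S : AddSubgroup V} (h : ∀ f : H, InR V f → Mv (V := V) f ≤ S)
    (d : V) : d ∈ S := by
  let T := AddSubgroup.closure {d : V | ∃ f : H, InR V f ∧ d ∈ Mv f}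
  have hT : ∀ g : H, ∀ v ∈ T, g • v ∈ T := by
    intro g v hv
    induction hv using AddSubgroup.closure_induction with
    | mem x hx =>
      obtain ⟨f, hf, hx⟩ := hx
      exact AddSubgroup.subset_closure ⟨_, P.inR_conj g hf, P.Mv_conj g f hx⟩
    | zero => rw [smul_zero]; exact zero_mem _
    | add x y _ _ hx hy => rw [smul_add]; exact add_mem hx hy
    | neg x _ hx => rw [smul_neg]; exact neg_mem hx
  rcases P.irr T hT with hT | hT
  · obtain ⟨x, hx, hx0⟩ := P.Mv_ne (V := V) ha.1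
    exact absurd ((AddSubgroup.eq_bot_iff_forall _).1 hT x (AddSubgroup.subset_closure ⟨a, ha, hx⟩)) hx0
  · exact (AddSubgroup.closure_le S).2 (fun x hx => by obtain ⟨f, hf, hx⟩ := hx; exact h f hf hx)
      (show d ∈ T from hT ▸ AddSubgroup.mem_top d)

theorem Hyp.inC_easy {a f g : H} (ha : InR V a) (hf : InR V f) (hg : InR V g) (haf : Near V a f)
    (hag : Near V a g) (h : f * g ≠ g * f ∨ f = g) {x y : V} (hx : x ∈ Mv f) (hy : y ∈ Mv g) :
    InC a (x + y) := by
  rcases h with h | rfl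
  · by_cases h0 : x + y = 0
    · exact ⟨a, ha, Or.inl rfl, h0 ▸ zero_mem _⟩
    · obtain ⟨k, hk, -, hd, hor⟩ := P.plane_good hf hg h
        (add_mem (AddSubgroup.mem_sup_left hx) (AddSubgroup.mem_sup_right hy)) h0
      exact ⟨k, hk, P.near_of_or ha hf hg hk haf hag hor, hd⟩
  · exact ⟨f, hf, haf, add_mem hx hy⟩

/-- The auxiliary member through the sum of vectors of two neighbours. -/
theorem Hyp.aux {a f g : H} (ha : InR V a) (hf : InR V f) (hg : InR V g) (haf : Near V a f)
    (hag : Near V a g) (h : f * g ≠ g * f) {x y : V} (hx : x ∈ Mv f) (hy : y ∈ Mv g) (hy0 : y ≠ 0) :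
    x + y ≠ 0 ∧ ∃ k, InR V k ∧ Fx (V := V) f ⊓ Fx g ≤ Fx k ∧ Near V a k ∧ x + y ∈ Mv k := by
  have h0 : x + y ≠ 0 := fun e => h (by
    rw [P.eq_of_Mv hf hg hy0 (by rw [eq_neg_of_add_eq_zero_right e]; exact neg_mem hx) hy])
  obtain ⟨k, hk, hkW, hd, hor⟩ := P.plane_good hf hg h
    (add_mem (AddSubgroup.mem_sup_left hx) (AddSubgroup.mem_sup_right hy)) h0
  exact ⟨h0, k, hk, hkW, P.near_of_or ha hf hg hk haf hag hor, hd⟩

section
variable {a c b : H} (ha : InR V a) (hc : InR V c) (hb : InR V b) (hne : a ≠ c) (hac : a * c = c * a)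
  (hab : a * b ≠ b * a) (hbc : b * c ≠ c * b) {u v : V} (hu : u ∈ Mv a) (hv : v ∈ Mv c) (hu0 : u ≠ 0)
  (hv0 : v ≠ 0)
include ha hc hb hne hac hab hbc hu hv hu0 hv0

theorem Hyp.sum_odd (hp : p ≠ 2) : InC a (u + v) := by
  have hNb : Near V a b := Or.inr (Or.inl hab)
  have hNc : Near V a c := P.near_step ha hb hc hNb hbc
  have hba : b ≠ c := fun e => hbc (by rw [e])
  obtain ⟨x, hx, hx0, hx2⟩ : ∃ x ∈ Mv (V := V) b, x ≠ 0 ∧ x + x ≠ b • v - v := by
    obtain ⟨x, hx, hx0⟩ := P.Mv_ne (V := V) hb.1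
    by_cases h : x + x = b • v - v
    · refine ⟨-x, neg_mem hx, neg_ne_zero.2 hx0, fun h' => hx0 (P.eq_zero_of_two hp (P.eq_zero_of_two hp ?_))⟩
      calc x + x + (x + x) = (x + x) - (-x + -x) := by abel
        _ = 0 := by rw [h', h, sub_self]
    · exact ⟨x, hx, hx0, h⟩
  obtain ⟨-, k, hk, -, hNk, hxk⟩ := P.aux ha hc hb hNc hNb (Ne.symm hbc) hv hx hx0
  have hav : a • v = v := P.le_of_comm ha hc hne hac hv
  by_cases hka : k = a
  · subst hka
    have e := P.inC_easy hk hk hb (Or.inl rfl) hNb (Or.inl hab) (add_mem hu hxk) (neg_mem hx)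
    rwa [show u + (v + x) + -x = u + v by abel] at e
  have hak : a * k ≠ k * a := fun h => by
    have hfix : a • (v + x) = v + x := P.le_of_comm ha hk (Ne.symm hka) h hxk
    rw [smul_add, hav, add_right_inj] at hfix
    exact hx0 (P.not_fix ha hb hab hx hfix)
  have hku : ∀ s : V, s ∈ Mv a → k • s = s → s = 0 := fun s hs h => P.not_fix hk ha (Ne.symm hak) hs h
  obtain ⟨w, hw, hwv, hmove⟩ : ∃ w ∈ Mv (V := V) a, (w = u ∨ w = -u) ∧ k • (w + -x) ≠ w + -x := by
    by_contra hcon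
    push Not at hcon
    have h1 := hcon u hu (Or.inl rfl)
    have h2 := hcon (-u) (neg_mem hu) (Or.inr rfl)
    refine hu0 (P.eq_zero_of_two hp (hku _ (add_mem hu hu) ?_))
    rw [show u + u = (u + -x) - (-u + -x) by abel, smul_sub, h1, h2]
  obtain ⟨-, l, hl, -, hNl, hwl⟩ := P.aux ha ha hb (Or.inl rfl) hNb hab hw (neg_mem hx) (neg_ne_zero.2 hx0)
  have hlk : l * k ≠ k * l ∨ l = k := by
    by_cases e : l = k
    · exact Or.inr e
    · exact Or.inl fun h => hmove (P.le_of_comm hk hl (Ne.symm e) h.symm hwl)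
  have e := P.inC_easy ha hl hk hNl hNk hlk hwl hxk
  rw [show w + -x + (v + x) = w + v by abel] at e
  rcases hwv with rfl | rfl
  · exact e
  obtain ⟨f, hf, hNf, hdf⟩ := e
  refine ⟨a * f * a⁻¹, P.inR_conj a hf, ?_, ?_⟩
  · simpa using P.near_conj a hNf
  · have := P.Mv_conj a f hdf
    rwa [smul_add, smul_neg, P.smul_Mv ha hu, neg_neg, hav] at this

theorem Hyp.sum_q2 (hp : p = 2) (hq : Nat.card (Mv (V := V) a) = 2) :
    InC a (u + v) ∨ ∃ h : H, InR V h ∧ u + v ∈ Mv (V := V) h := by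
  have hNb : Near V a b := Or.inr (Or.inl hab)
  have hNc : Near V a c := P.near_step ha hb hc hNb hbc
  obtain ⟨x, hx, hx0⟩ := P.Mv_ne (V := V) hb.1
  obtain ⟨hk0, k, hk, -, hNk, hxk⟩ := P.aux ha ha hb (Or.inl rfl) hNb hab hu hx hx0
  obtain ⟨hl0, l, hl, -, hNl, hxl⟩ := P.aux ha hc hb hNc hNb (Ne.symm hbc) hv hx hx0
  have hxx : u + x + (v + x) = u + v := by rw [add_add_add_comm, P.two_zero hp, add_zero]
  by_cases hkl : k * l ≠ l * k ∨ k = l
  · exact Or.inl (hxx ▸ P.inC_easy ha hk hl hNk hNl hkl hxk hxl)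
  push Not at hkl
  -- a commuting pair realises the sum
  have key : ∀ {f g : H}, InR V f → InR V g → f ≠ g → f * g = g * f → Near V a f → Near V a g →
      ∀ {s t : V}, s ∈ Mv f → t ∈ Mv g → s ≠ 0 → t ≠ 0 → ∃ z : V, (f * g) • z - z = s + t := by
    intro f g hf hg hfg hc' hNf hNg s t hs ht hs0 ht0
    obtain ⟨z, hz1, hz2⟩ := exists_notMem₂ (P.exists_move hf) (P.exists_move hg)
    have uniq : ∀ {f : H}, InR V f → Near V a f → ∀ {s : V}, s ∈ Mv f → s ≠ 0 → ¬ f • z = z → f • z - z = s := by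
      intro f hf hNf s hs hs0 hz
      have h2 := (P.near_card ha hf hNf).trans hq
      obtain ⟨y, -, hy⟩ := (Nat.card_eq_two_iff' (0 : Mv (V := V) f)).1 h2
      have e1 := hy ⟨s, hs⟩ fun e => hs0 (congrArg Subtype.val e)
      have e2 := hy ⟨f • z - z, sub_mem_Mv f z⟩ fun e => hz (sub_eq_zero.1 (congrArg Subtype.val e))
      exact congrArg Subtype.val (e2.trans e1.symm)
    refine ⟨z, ?_⟩
    have h1 := uniq hf hNf hs hs0 hz1
    have h2 := uniq hg hNg ht ht0 hz2
    rw [mul_smul, show g • z = t + z by rw [← h2]; abel, smul_add,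
      show f • t = t from P.le_of_comm hf hg hfg hc' ht, ← h1]
    abel
  obtain ⟨z, hz⟩ := key ha hc hne hac (Or.inl rfl) hNc hu hv hu0 hv0
  obtain ⟨y, hy⟩ := key hk hl hkl.2 hkl.1 hNk hNl hxk hxl hk0 hl0
  rw [hxx] at hy
  obtain ⟨h, h1, h2, -, h4⟩ := P.star (a * c) (k * l) z y (hz.trans hy.symm)
  by_cases hd : u + v = 0
  · exact Or.inl (hd ▸ ⟨a, ha, Or.inl rfl, zero_mem _⟩)
  have hh : h ≠ 1 := fun e => hd (by rw [← hz, ← h4, e, one_smul, sub_self])
  have hle : Fx (V := V) a ⊓ Fx c ≤ Fx h :=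
    fun w hw => h1 w (by rw [mul_smul, show c • w = w from hw.2, show a • w = w from hw.1])
  have hu1 : u ∈ Fx (V := V) a ⊓ Fx c := ⟨P.Mv_le_Fx hp ha hu, P.le_of_comm hc ha hne.symm hac.symm hu⟩
  have hux : h • (u + x) = u + x :=
    h2 _ (by rw [mul_smul, show l • (u + x) = u + x from P.le_of_comm hl hk hkl.2.symm hkl.1.symm hxk,
      show k • (u + x) = u + x from P.Mv_le_Fx hp hk hxk])
  have hxh : x ∈ Fx (V := V) h := by
    simpa using sub_mem (show u + x ∈ Fx (V := V) h from hux) (hle hu1)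
  have hlt : Fx (V := V) a ⊓ Fx c < Fx h :=
    lt_of_le_of_ne hle fun e => hx0 (P.not_fix ha hb hab hx (show x ∈ Fx (V := V) a from (e.symm ▸ hxh).1))
  have hidx : ∀ g : H, InR V g → Near V a g → (Fx (V := V) g).index = 2 := fun g hg hNg => by
    rw [Fx_eq_ker, AddSubgroup.index_ker]; exact (P.near_card ha hg hNg).trans hq
  have h4' : (Fx (V := V) a ⊓ Fx c).index ≤ 4 :=
    AddSubgroup.index_inf_le.trans (by rw [hidx a ha (Or.inl rfl), hidx c hc hNc])
  have hlt' : (Fx (V := V) h).index < (Fx (V := V) a ⊓ Fx c).index := AddSubgroup.index_strictAnti hlt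
  have hpow : ∀ g : H, g ≠ 1 → 2 ∣ (Fx (V := V) g).index := fun g hg => by
    obtain ⟨i, hi⟩ := P.two_pow_card hp (Mv (V := V) g)
    rw [Fx_eq_ker, AddSubgroup.index_ker, show Nat.card (df (V := V) g).range = 2 ^ i from hi]
    rcases i with _ | i
    · have := P.two_le_Mv hg; omega
    · exact dvd_pow_self _ (Nat.succ_ne_zero i)
  have hih : (Fx (V := V) h).index = 2 := by
    obtain ⟨r, hr⟩ := hpow h hh
    have : (Fx (V := V) h).index ≠ 0 := AddSubgroup.index_ne_zero_of_finite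
    omega
  refine Or.inr ⟨h, ⟨hh, fun g hg hhg => ?_⟩, z, by rw [← hz, ← h4]; rfl⟩
  refine ((eq_or_lt_of_le hhg).resolve_right fun hlt2 => ?_).ge
  have h5 := AddSubgroup.index_strictAnti hlt2
  obtain ⟨r, hr⟩ := hpow g hg
  have : (Fx (V := V) g).index ≠ 0 := AddSubgroup.index_ne_zero_of_finite
  omega

theorem Hyp.sum_two [Finite H] (hp : p = 2) : InC a (u + v) ∨ b • (u + v) = u + v := by
  have hNb : Near V a b := Or.inr (Or.inl hab)
  have hNc : Near V a c := P.near_step ha hb hc hNb hbc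
  obtain ⟨x, hx, hx0⟩ := P.Mv_ne (V := V) hb.1
  obtain ⟨-, k, hk, hkW, hNk, hxk⟩ := P.aux ha ha hb (Or.inl rfl) hNb hab hu hx hx0
  obtain ⟨-, l, hl, -, hNl, hxl⟩ := P.aux ha hc hb hNc hNb (Ne.symm hbc) hv hx hx0
  have hxx : u + x + (v + x) = u + v := by rw [add_add_add_comm, P.two_zero hp, add_zero]
  by_cases hkl : k * l ≠ l * k ∨ k = l
  · exact Or.inl (hxx ▸ P.inC_easy ha hk hl hNk hNl hkl hxk hxl)
  push Not at hkl
  refine Or.inr ?_
  obtain ⟨r, hr, w, hwa, hwb, e⟩ := P.plane_Fx ha hb hab hp ha inf_le_left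
    (show a • v = v from P.le_of_comm ha hc hne hac hv)
  have h1 : k • (r + x) = r + x := by
    have h2 : k • (v + x) = v + x := P.le_of_comm hk hl hkl.2 hkl.1 hxl
    rw [show r + x = v + x - w by rw [e]; abel, smul_sub, h2, show k • w = w from hkW ⟨hwa, hwb⟩]
  obtain ⟨s, hs, t, hta, htb, e2⟩ := P.plane_Fx ha hb hab hp hk hkW h1
  have ht : t = 0 := by
    have htP : t ∈ Mv (V := V) a ⊔ Mv b := by
      rw [show t = r + x - s by rw [e2]; abel]
      exact sub_mem (add_mem (AddSubgroup.mem_sup_left hr) (AddSubgroup.mem_sup_right hx))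
        ((P.plane_unique ha hb hab hp hk hkW).2 hs)
    obtain ⟨u', hu', v', hv', rfl⟩ := AddSubgroup.mem_sup.1 htP
    obtain ⟨rfl, rfl⟩ := P.plane_inf ha hb hab hu' hv' hta htb
    exact add_zero 0
  rw [ht, add_zero] at e2
  have hru : r = u := by
    by_contra hne'
    have hka : k = a := P.eq_of_Mv hk ha (sub_ne_zero.2 hne')
      (by rw [show r - u = r + x - (u + x) by abel, e2]; exact sub_mem hs hxk) (sub_mem hr hu)
    rw [hka] at hxk
    exact hab (by rw [P.eq_of_Mv ha hb hx0 (by simpa using sub_mem hxk hu) hx])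
  rw [e, hru, ← add_assoc, P.two_zero hp, zero_add]
  exact hwb

theorem Hyp.sum_two_end [Finite H] (hp : p = 2) (hq : Nat.card (Mv (V := V) a) ≠ 2) {e : H} (he : InR V e)
    (hea : e * a ≠ a * e) (hed : e • (u + v) ≠ u + v) : InC a (u + v) := by
  by_cases hec : e * c = c * e
  swap
  · exact (P.sum_two ha hc he hne hac (Ne.symm hea) hec hu hv hu0 hv0 hp).resolve_right hed
  have hNa : Near V a a := Or.inl rfl
  by_contra hbad
  have hfix : ∀ {f : H}, InR V f → a * f ≠ f * a → f * c ≠ c * f → f • (u + v) = u + v := fun hf h1 h2 =>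
    (P.sum_two ha hc hf hne hac h1 h2 hu hv hu0 hv0 hp).resolve_left hbad
  have hec' : c ≠ e := by
    rintro rfl
    exact hea hac.symm
  have hfxe : ∀ s : V, s ∈ Mv e → c • s = s := fun s hs => P.le_of_comm hc he hec' hec.symm hs
  obtain ⟨g, hg, hag, hgc, hge⟩ : ∃ g, InR V g ∧ a * g ≠ g * a ∧ g * c ≠ c * g ∧ g * e ≠ e * g := by
    by_cases hbe : b * e = e * b
    swap
    · exact ⟨b, hb, hab, hbc, hbe⟩
    obtain ⟨x, hx, hx0⟩ := P.Mv_ne (V := V) hb.1
    obtain ⟨-, g, hg, hgW, -, hxg⟩ := P.aux ha ha hb hNa (Or.inr (Or.inl hab)) hab hu hx hx0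
    have heb : e ≠ b := fun h => hed (h ▸ hfix hb hab hbc)
    have hga : a • (u + x) ≠ u + x := fun h => hx0 (P.not_fix ha hb hab hx (by
      rwa [smul_add, show a • u = u from P.Mv_le_Fx hp ha hu, add_right_inj] at h))
    have hgc : c • (u + x) ≠ u + x := fun h => hx0 (P.not_fix hc hb (Ne.symm hbc) hx (by
      rwa [smul_add, show c • u = u from P.le_of_comm hc ha hne.symm hac.symm hu, add_right_inj] at h))
    have hge : e • (u + x) ≠ u + x := fun h => hu0 (P.not_fix he ha hea hu (by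
      rwa [smul_add, show e • x = x from P.le_of_comm he hb heb hbe.symm hx, add_left_inj] at h))
    have key : ∀ {f : H}, InR V f → f • (u + x) ≠ u + x → g * f ≠ f * g := by
      intro f hf h hc'
      by_cases hfg : f = g
      · exact h (hfg ▸ P.Mv_le_Fx hp hg hxg)
      · exact h (P.le_of_comm hf hg hfg hc'.symm hxg)
    exact ⟨g, hg, (key ha hga).symm, key hc hgc, key he hge⟩
  obtain ⟨x, hx, hx0⟩ := P.Mv_ne (V := V) hg.1
  obtain ⟨y, hy, hy0, hay⟩ : ∃ y ∈ Mv (V := V) e, y ≠ 0 ∧ a • (x + y) ≠ x + y := by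
    by_contra hcon
    push Not at hcon
    have hle : Nat.card (Mv (V := V) e) ≤ 2 := by
      classical
      refine (Nat.card_le_card_of_injective (fun y : Mv (V := V) e => decide ((y : V) = 0)) ?_).trans_eq (by simp)
      intro y y' h
      have h' : (y : V) = 0 ↔ (y' : V) = 0 := by simpa using h
      by_cases h0 : (y : V) = 0
      · exact Subtype.ext (h0.trans (h'.1 h0).symm)
      · refine Subtype.ext (sub_eq_zero.1 (P.not_fix ha he (Ne.symm hea) (sub_mem y.2 y'.2) ?_))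
        have h1 := hcon y y.2 h0
        have h2 := hcon y' y'.2 (fun h2 => h0 (h'.2 h2))
        rw [show (y : V) - y' = x + y - (x + y') by abel, smul_sub, h1, h2]
    have := P.card_eq_of_noncomm he ha hea
    have := P.two_le_Mv (V := V) ha.1
    omega
  obtain ⟨-, f, hf, hfW, -, hxf⟩ :=
    P.aux ha hg he (Or.inr (Or.inl hag)) (Or.inr (Or.inl (Ne.symm hea))) hge hx hy hy0
  have hcf : f * c ≠ c * f := by
    intro h
    have h1 : c • (x + y) = x + y := by
      by_cases hcf : c = f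
      · exact hcf ▸ P.Mv_le_Fx hp hf hxf
      · exact P.le_of_comm hc hf hcf h.symm hxf
    rw [smul_add, hfxe y hy, add_left_inj] at h1
    exact hx0 (P.not_fix hc hg (Ne.symm hgc) hx h1)
  have haf : a * f ≠ f * a := by
    intro h
    by_cases h' : a = f
    · exact hay (h' ▸ P.Mv_le_Fx hp hf hxf)
    · exact hay (P.le_of_comm ha hf h' h hxf)
  -- both fix the sum
  obtain ⟨s, hs, w, hwg, hwe, e1⟩ := P.plane_Fx hg he hge hp hf hfW (hfix hf haf hcf)
  obtain ⟨s', hs', w', hwg', hwe', e2⟩ := P.plane_Fx hg he hge hp hg inf_le_left (hfix hg hag hgc)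
  have hss : s - s' = w' - w := by
    calc s - s' = (s + w) - (s' + w) := by abel
      _ = (s' + w') - (s' + w) := by rw [← e1, ← e2]
      _ = _ := by abel
  have hss0 : s - s' = 0 := by
    have hm : s - s' ∈ Mv (V := V) g ⊔ Mv e :=
      sub_mem ((P.plane_unique hg he hge hp hf hfW).2 hs) (AddSubgroup.mem_sup_left hs')
    obtain ⟨u', hu', v', hv', h'⟩ := AddSubgroup.mem_sup.1 hm
    obtain ⟨rfl, rfl⟩ := P.plane_inf hg he hge hu' hv' (by rw [h', hss, smul_sub, hwg', hwg])
      (by rw [h', hss, smul_sub, hwe', hwe])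
    rw [← h', add_zero]
  have hs0 : s = 0 := by
    by_contra h
    have hfg := P.eq_of_Mv hf hg h hs (sub_eq_zero.1 hss0 ▸ hs')
    rw [hfg] at hxf
    exact hge (by rw [P.eq_of_Mv hg he hy0 (by simpa using sub_mem hxf hx) hy])
  exact hed (by rw [e1, hs0, zero_add]; exact hwe)

end

/-- The vectors moved inside a component are closed under addition. -/
theorem Hyp.sum [Finite H] {a c : H} (ha : InR V a) (hc : InR V c) (hN : Near V a c) {u v : V} (hu : u ∈ Mv a)
    (hv : v ∈ Mv c) : InC a (u + v) := by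
  by_cases hu0 : u = 0
  · exact ⟨c, hc, hN, by rwa [hu0, zero_add]⟩
  by_cases hv0 : v = 0
  · exact ⟨a, ha, Or.inl rfl, by rwa [hv0, add_zero]⟩
  rcases hN with rfl | hN | ⟨b, hb, hab, hbc⟩
  · exact ⟨a, ha, Or.inl rfl, add_mem hu hv⟩
  · exact P.inC_easy ha ha hc (Or.inl rfl) (Or.inr (Or.inl hN)) (Or.inl hN) hu hv
  by_cases hne : a = c
  · subst hne; exact ⟨a, ha, Or.inl rfl, add_mem hu hv⟩
  by_cases hac : a * c = c * a
  swap
  · exact P.inC_easy ha ha hc (Or.inl rfl) (Or.inr (Or.inl hac)) (Or.inl hac) hu hv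
  by_cases hp : p = 2
  swap
  · exact P.sum_odd ha hc hb hne hac hab hbc hu hv hu0 hv0 hp
  have hNc : Near V a c := Or.inr (Or.inr ⟨b, hb, hab, hbc⟩)
  by_cases hall : ∀ e : H, InR V e → Near V a e → e • (u + v) = u + v
  · have h0 : u + v = 0 := P.fix_all_zero ha fun f hf => by
      by_cases hNf : Near V a f
      · exact hall f hf hNf
      · rw [smul_add, P.fix_far ha ha hf (Or.inl rfl) hNf hu, P.fix_far ha hc hf hNc hNf hv]
    exact ⟨a, ha, Or.inl rfl, h0 ▸ zero_mem _⟩
  push Not at hall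
  obtain ⟨e, he, hNe, hed⟩ := hall
  by_cases hq : Nat.card (Mv (V := V) a) = 2
  · rcases P.sum_q2 ha hc hb hne hac hab hbc hu hv hu0 hv0 hp hq with h | ⟨h, hh, hdh⟩
    · exact h
    refine ⟨h, hh, ?_, hdh⟩
    by_cases heh : e = h
    · exact heh ▸ hNe
    · exact P.near_step ha he hh hNe fun h' => hed (P.le_of_comm he hh heh h' hdh)
  by_cases hea : e * a = a * e
  swap
  · exact P.sum_two_end ha hc hb hne hac hab hbc hu hv hu0 hv0 hp hq he hea hed
  have hec : e * c ≠ c * e := by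
    intro hec
    have key : ∀ {f : H}, InR V f → e * f = f * e → ∀ {s : V}, s ∈ Mv f → e • s = s := by
      intro f hf h s hs
      by_cases hef : e = f
      · exact hef ▸ P.Mv_le_Fx hp hf hs
      · exact P.le_of_comm he hf hef h hs
    exact hed (by rw [smul_add, key ha hea hu, key hc hec hv])
  obtain ⟨f, hf, hNf, hd⟩ := P.sum_two_end hc ha hb (Ne.symm hne) hac.symm hbc.symm hab.symm hv hu hv0 hu0 hp
    (by rwa [P.near_card ha hc hNc]) he hec (by rwa [add_comm v u])
  exact ⟨f, hf, P.near_trans ha hc hf hNc hNf, by rwa [add_comm u v]⟩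

/-- The vectors moved inside the component of `a`. -/
def Hyp.comp [Finite H] {a : H} (ha : InR V a) : AddSubgroup V where
  carrier := {d | InC a d}
  add_mem' := fun {u v} ⟨f, hf, hNf, hu⟩ ⟨g, hg, hNg, hv⟩ => by
    obtain ⟨k, hk, hNk, hd⟩ := P.sum hf hg (P.near_trans hf ha hg (P.near_symm hNf) hNg) hu hv
    exact ⟨k, hk, P.near_trans ha hf hk hNf hNk, hd⟩
  zero_mem' := ⟨a, ha, Or.inl rfl, zero_mem _⟩
  neg_mem' := fun {u} ⟨f, hf, hNf, hu⟩ => ⟨f, hf, hNf, neg_mem hu⟩

theorem Hyp.comp_lift [Finite H] {a : H} (ha : InR V a) {u : V} (hu : u ∈ Mv a) :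
    ∃ s, InC a s ∧ a • s - s = u := by
  obtain ⟨z, rfl⟩ := mem_Mv.1 hu
  let S : AddSubgroup V := (P.comp ha).map (df (V := V) a)
  have := P.span_top ha (S := S.comap (df (V := V) a)) (fun f hf d hd => by
    by_cases hN : Near V a f
    · exact AddSubgroup.mem_map_of_mem _ (show InC a d from ⟨f, hf, hN, hd⟩)
    · have e : a • d = d := P.fix_far hf hf ha (Or.inl rfl) (fun h => hN (P.near_symm h)) hd
      show df (V := V) a d ∈ S
      rw [show df (V := V) a d = 0 from sub_eq_zero.2 e]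
      exact zero_mem _) z
  obtain ⟨s, hs, e⟩ := this
  exact ⟨s, hs, e⟩

/-- There is only one component: every vector is moved by a member of the component. -/
theorem Hyp.comp_top [Finite H] {a : H} (ha : InR V a)
    (hmin : ∀ f : H, InR V f → Nat.card (Mv (V := V) a) ≤ Nat.card (Mv (V := V) f)) (d : V) : InC a d := by
  suffices hinv : ∀ g : H, ∀ v ∈ P.comp ha, g • v ∈ P.comp ha by
    rcases P.irr _ hinv with h | h
    · obtain ⟨x, hx, hx0⟩ := P.Mv_ne (V := V) ha.1
      exact absurd ((AddSubgroup.eq_bot_iff_forall _).1 h x ⟨a, ha, Or.inl rfl, hx⟩) hx0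
    · exact (h.symm ▸ AddSubgroup.mem_top d : d ∈ P.comp ha)
  by_contra hcon
  push Not at hcon
  obtain ⟨g, u, ⟨au, hau, hNu, hu⟩, hgu⟩ := hcon
  have hminu : ∀ f : H, InR V f → Nat.card (Mv (V := V) au) ≤ Nat.card (Mv (V := V) f) :=
    fun f hf => (P.near_card ha hau hNu).trans_le (hmin f hf)
  obtain ⟨av, hav, hv⟩ : ∃ av, InR V av ∧ g • u ∈ Mv (V := V) av := ⟨_, P.inR_conj g hau, P.Mv_conj g au hu⟩
  have hNv : ¬ Near V au av := fun h => hgu ⟨av, hav, P.near_trans ha hau hav hNu h, hv⟩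
  have hu0 : u ≠ 0 := fun e => hgu (by rw [e, smul_zero]; exact ⟨a, ha, Or.inl rfl, zero_mem _⟩)
  have hv0 : g • u ≠ 0 := fun e => hu0 ((smul_eq_zero_iff_eq g).1 e)
  obtain ⟨s1, hs1, e1⟩ := P.comp_lift hau (neg_mem hu)
  obtain ⟨s2, hs2, e2⟩ := P.comp_lift hav hv
  have hfix2 : ∀ {s : V}, InC au s → av • s = s := fun ⟨f, hf, hNf, hs⟩ => P.fix_far hau hf hav hNf hNv hs
  have hfix1 : ∀ {s : V}, InC av s → au • s = s :=
    fun ⟨f, hf, hNf, hs⟩ => P.fix_far hav hf hau hNf (fun h => hNv (P.near_symm h)) hs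
  have hy : g • u - u = (au * av) • (s1 + s2) - (s1 + s2) := by
    rw [mul_smul, smul_add, hfix2 hs1, smul_add, show av • s2 = g • u + s2 by rw [← e2]; abel, smul_add,
      hfix1 hs2, hfix1 ⟨av, hav, Or.inl rfl, hv⟩]
    calc g • u - u = -u + g • u := by abel
      _ = _ := by rw [← e1]; abel
  obtain ⟨h, -, h2, h3, h4⟩ := P.star g (au * av) u (s1 + s2) hy
  have hconj : h * au * h⁻¹ = av :=
    P.eq_of_Mv (P.inR_conj h hau) hav hv0 (by rw [← h4]; exact P.Mv_conj h au hu) hv
  -- the fixed space meets the component trivially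
  have hW : ∀ w : V, InC au w → au • w = w → w = 0 := by
    intro w hw hfix
    have hhw : h • w = w := h2 w (by rw [mul_smul, hfix2 hw, hfix])
    obtain ⟨f, hf, hNf, hwf⟩ := hw
    by_contra hw0
    have e : h * f * h⁻¹ = f :=
      P.eq_of_Mv (P.inR_conj h hf) hf hw0 (by have := P.Mv_conj h f hwf; rwa [hhw] at this) hwf
    have := P.near_conj h hNf
    rw [hconj, e] at this
    exact hNv (P.near_trans hau hf hav hNf (P.near_symm this))
  have hV1 : ∀ w : V, InC au w → w ∈ Mv (V := V) au := by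
    let φ : P.comp hau → Mv (V := V) au := fun w => ⟨au • (w : V) - w, sub_mem_Mv au _⟩
    have hinj : Function.Injective φ := fun w w' e => by
      have e' : au • (w : V) - w = au • (w' : V) - w' := congrArg Subtype.val e
      refine Subtype.ext (sub_eq_zero.1 (hW _ (sub_mem w.2 w'.2) ?_))
      rw [smul_sub]
      calc au • (w : V) - au • (w' : V) = (au • (w : V) - w) - (au • (w' : V) - w') + ((w : V) - w') := by abel
        _ = _ := by rw [e']; abel
    have hle : Mv (V := V) au ≤ P.comp hau := fun w hw => ⟨au, hau, Or.inl rfl, hw⟩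
    have hh := AddSubgroup.eq_of_le_of_card_ge hle (Nat.card_le_card_of_injective φ hinj)
    exact fun w hw => hh.symm ▸ (show w ∈ P.comp hau from hw)
  have hsu : ∀ f : H, InR V f → au * f = f * au := by
    intro f hf
    by_contra hne
    obtain ⟨x, hx, hx0⟩ := P.Mv_ne (V := V) hf.1
    exact hne (by rw [P.eq_of_Mv hau hf hx0 (hV1 x ⟨f, hf, Or.inr (Or.inl hne), hx⟩) hx])
  have hp : p ≠ 2 := fun hp => hu0 (hW u ⟨au, hau, Or.inl rfl, hu⟩ (P.Mv_le_Fx hp hau hu))
  have hsv : ∀ f : H, InR V f → av * f = f * av := by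
    intro f hf
    have := congrArg (fun k => h * k * h⁻¹) (hsu _ (P.inR_conj h⁻¹ hf))
    simp only [inv_inv] at this
    rw [← hconj]
    convert this using 1 <;> group
  have hs1' : s1 ∈ Mv (V := V) au := hV1 s1 hs1
  have hs2' : s2 ∈ Mv (V := V) av := by
    obtain ⟨f, hf, hNf, hs⟩ := hs2
    rcases hNf with rfl | hNf | ⟨b, hb, hb1, -⟩
    · exact hs
    · exact absurd (hsv f hf) hNf
    · exact absurd (hsv b hb) hb1
  rw [P.smul_Mv hau hs1'] at e1
  rw [P.smul_Mv hav hs2'] at e2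
  -- the element exchanges the two lines
  have hswap : h • (g • u) = u := by
    have hk : h • (u + g • u) = u + g • u := by
      have : u + g • u = (u - (s1 + s2)) + (u - (s1 + s2)) := by
        calc u + g • u = u + u + (-(u) + g • u) := by abel
          _ = _ := by rw [← e1, ← e2]; abel
      rw [this, smul_add, h3]
    rw [smul_add, h4, add_comm (g • u)] at hk
    exact add_right_cancel hk
  have hconj' : h * av * h⁻¹ = au :=
    P.eq_of_Mv (P.inR_conj h hav) hau hu0 (by have := P.Mv_conj h av hv; rwa [hswap] at this) hu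
  have hsqu : ∀ w ∈ Mv (V := V) au, (h * h) • w = w := by
    have hpres : ∀ w ∈ Mv (V := V) au, (h * h) • w ∈ Mv (V := V) au := fun w hw => by
      have := P.Mv_conj (h * h) au hw
      rwa [show h * h * au * (h * h)⁻¹ = h * (h * au * h⁻¹) * h⁻¹ by group, hconj, hconj'] at this
    have hpm : ∀ w ∈ Mv (V := V) au, (h * h) • w = w ∨ (h * h) • w = -w := fun w hw => by
      by_cases e : (h * h) • w = w
      · exact Or.inl e
      · exact Or.inr ((P.agree hau (sub_mem (hpres w hw) hw) e).1.trans (P.smul_Mv hau hw))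
    have hhu : (h * h) • u = u := by rw [mul_smul, h4, hswap]
    intro w hw
    rcases hpm w hw with e | e
    · exact e
    rcases hpm (u + w) (add_mem hu hw) with e' | e' <;> rw [smul_add, hhu, e] at e'
    · exact e.trans (add_left_cancel e')
    · exact absurd (P.eq_zero_of_two hp (show u + u = 0 by
        calc u + u = (u + -w) + (u + w) := by abel
          _ = 0 := by rw [e']; abel)) hu0
  let I : AddSubgroup V := (Mv (V := V) au).map (df (V := V) h)
  have hI : Mv (V := V) h ≤ I := by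
    rintro _ ⟨z, rfl⟩
    refine P.span_top ha (S := I.comap (df (V := V) h)) (fun f hf x hx => ?_) z
    show df (V := V) h x ∈ I
    by_cases h1 : f = au
    · exact AddSubgroup.mem_map_of_mem _ (h1 ▸ hx)
    by_cases h2' : f = av
    · subst h2'
      have hw : h • x ∈ Mv (V := V) au := by
        have := P.Mv_conj h f hx
        rwa [hconj'] at this
      have e : df (V := V) h x = -df (V := V) h (h • x) := by
        show h • x - x = -(h • h • x - h • x)
        have e3 : h • h • x = x := by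
          have := hsqu _ hw
          rw [mul_smul] at this
          exact MulAction.injective h this
        rw [e3, neg_sub]
      rw [e]
      exact neg_mem (AddSubgroup.mem_map_of_mem _ hw)
    · have e1' : au • x = x := P.le_of_comm hau hf (Ne.symm h1) (hsu f hf) hx
      have e2' : av • x = x := P.le_of_comm hav hf (Ne.symm h2') (hsv f hf) hx
      rw [show df (V := V) h x = 0 from sub_eq_zero.2 (h2 x (by rw [mul_smul, e2', e1']))]
      exact zero_mem _
  have hh1 : h ≠ 1 := fun e => by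
    rw [e, one_mul, inv_one, mul_one] at hconj
    exact hNv (Or.inl hconj)
  obtain ⟨f, hf, hfh⟩ := P.exists_inR hh1
  have hcard : Nat.card (Mv (V := V) h) ≤ Nat.card (Mv (V := V) f) := by
    refine le_trans ?_ (hminu f hf)
    refine le_trans (Nat.card_le_card_of_injective (AddSubgroup.inclusion hI) (AddSubgroup.inclusion_injective hI)) ?_
    exact Nat.card_le_card_of_surjective (fun w : Mv (V := V) au => (⟨df (V := V) h w, AddSubgroup.mem_map_of_mem _ w.2⟩ : I))
      fun ⟨y, hy⟩ => by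
        obtain ⟨w, hw, rfl⟩ := AddSubgroup.mem_map.1 hy
        exact ⟨⟨w, hw⟩, rfl⟩
  have hWeq : Fx (V := V) h = Fx f := by
    refine AddSubgroup.eq_of_le_of_card_ge hfh (Nat.le_of_mul_le_mul_right ?_ (Nat.card_pos (α := Mv (V := V) f)))
    rw [card_Fx_mul, ← card_Fx_mul h]
    exact Nat.mul_le_mul_left _ hcard
  have hR : InR V h := ⟨hh1, fun k hk hle => (hf.2 k hk (hWeq ▸ hle)).trans_eq hWeq.symm⟩
  have hc := hsu h hR
  rw [← hc, mul_inv_cancel_right] at hconj
  exact hNv (Or.inl hconj)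

/-- Every nonzero vector is moved by exactly one member and all moved spaces have one order. -/
theorem Hyp.cover [Finite H] {a0 : H} (ha0 : InR V a0) :
    ∃ q, 2 ≤ q ∧ (∀ a : H, InR V a → Nat.card (Mv (V := V) a) = q) ∧
      ∀ d : V, d ≠ 0 → ∃ a : H, InR V a ∧ d ∈ Mv a := by
  obtain ⟨a, ha, hmin⟩ := Set.exists_min_image {a : H | InR V a} (fun a => Nat.card (Mv (V := V) a))
    (Set.toFinite _) ⟨a0, ha0⟩
  refine ⟨_, P.two_le_Mv (V := V) (show InR V a from ha).1, fun f hf => ?_, fun d _ => ?_⟩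
  · obtain ⟨d, hd, hd0⟩ := P.Mv_ne (V := V) hf.1
    obtain ⟨g, hg, hN, hdg⟩ := P.comp_top ha hmin d
    rw [P.eq_of_Mv hf hg hd0 hd hdg]
    exact P.near_card ha hg hN
  · obtain ⟨g, hg, -, hdg⟩ := P.comp_top ha hmin d
    exact ⟨g, hg, hdg⟩

end Cfsg.Lib.Binary
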