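import Mathlib

/-!
# Binary primitive affine groups: recognition of the norm-one group

A group of automorphisms of a group of order `q ^ 2` containing `q + 1` involutions, each fixing `q` elements, such
that every move is that of one of these involutions, is the group generated by the norm-one elements and the
involutory automorphism of a field with `q ^ 2` elements.
-/

set_option autoImplicit false
set_option linter.unusedSectionVars false
set_option linter.style.haveILetI false

namespace Cfsg.Lib.Binary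

open MulAction

universe u w

/-- The reflections of a binary group on a plane with `q ^ 2` points. -/
structure PlaneRefl (H : Type w) [Group H] (V : Type u) [AddCommGroup V] [DistribMulAction H V] where
  /-- The order of a line. -/
  q : ℕ
  two_le : 2 ≤ q
  card_V : Nat.card V = q ^ 2
  /-- The reflections. -/
  R : Set H
  card_R : R.ncard = q + 1
  ne_one : ∀ a ∈ R, a ≠ 1
  sq_one : ∀ a ∈ R, a * a = 1
  card_fix : ∀ a ∈ R, {v : V | a • v = v}.ncard = q
  disj : ∀ a ∈ R, ∀ c ∈ R, a ≠ c → ∀ z : V, a • z = c • z → z = 0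
  cover : ∀ (g : H) (z : V), g • z ≠ z → ∃ a ∈ R, g • z = a • z ∧ ∀ f : V, g • f = f → a • f = f

namespace PlaneRefl

variable {H : Type w} [Group H] [Finite H] {V : Type u} [AddCommGroup V] [Finite V] [DistribMulAction H V]
  [FaithfulSMul H V] (P : PlaneRefl H V)

theorem exists_fix {z : V} (hz : z ≠ 0) : ∃ a ∈ P.R, a • z = z := by
  classical
  letI := Fintype.ofFinite V
  letI := Fintype.ofFinite H
  let S : H → Finset V := fun a => Finset.univ.filter fun v => a • v = v ∧ v ≠ 0
  have hdis : Set.PairwiseDisjoint (↑P.R.toFinset : Set H) S := by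
    intro a ha c hc hac
    rw [Function.onFun, Finset.disjoint_left]
    intro v hva hvc
    simp only [S, Finset.mem_filter, Finset.mem_univ, true_and] at hva hvc
    exact hva.2 (P.disj a (Set.mem_toFinset.1 ha) c (Set.mem_toFinset.1 hc) hac v (hva.1.trans hvc.1.symm))
  have hS : ∀ a ∈ P.R.toFinset, (S a).card = P.q - 1 := by
    intro a ha
    have e : S a = {v : V | a • v = v}.toFinset.erase 0 := by
      ext v; simp [S, and_comm]
    rw [e, Finset.card_erase_of_mem (by simp), ← Set.ncard_eq_toFinset_card', P.card_fix a (Set.mem_toFinset.1 ha)]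
  have hU : P.R.toFinset.biUnion S = (Finset.univ : Finset V).erase 0 := by
    refine Finset.eq_of_subset_of_card_le (fun v hv => ?_) (le_of_eq ?_)
    · simp only [S, Finset.mem_biUnion, Finset.mem_filter] at hv
      obtain ⟨a, -, -, -, hv⟩ := hv
      exact Finset.mem_erase.2 ⟨hv, Finset.mem_univ _⟩
    · rw [Finset.card_erase_of_mem (Finset.mem_univ _), Finset.card_univ, ← Nat.card_eq_fintype_card, P.card_V,
        Finset.card_biUnion hdis, Finset.sum_congr rfl hS, Finset.sum_const, smul_eq_mul,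
        ← Set.ncard_eq_toFinset_card', P.card_R]
      have := P.two_le
      obtain ⟨r, hr⟩ : ∃ r, P.q = r + 1 := ⟨P.q - 1, by omega⟩
      rw [hr, Nat.add_sub_cancel]
      have : (r + 1) ^ 2 = (r + 1 + 1) * r + 1 := by ring
      omega
  have hz' : z ∈ P.R.toFinset.biUnion S := by rw [hU]; exact Finset.mem_erase.2 ⟨hz, Finset.mem_univ _⟩
  simp only [S, Finset.mem_biUnion, Set.mem_toFinset, Finset.mem_filter] at hz'
  obtain ⟨a, ha, -, hv, -⟩ := hz'
  exact ⟨a, ha, hv⟩

theorem eq_of_fix {a : H} (ha : a ∈ P.R) {z : V} (hz : z ≠ 0) (haz : a • z = z) {g : H} (hg : g ≠ 1)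
    (hgz : g • z = z) : g = a := by
  refine eq_of_smul_eq_smul (α := V) fun x => ?_
  have key : ∀ x : V, g • x ≠ x → g • x = a • x ∧ ∀ f : V, g • f = f → a • f = f := by
    intro x hx
    obtain ⟨c, hc, h1, h2⟩ := P.cover g x hx
    obtain rfl : c = a := by
      by_contra hne
      exact hz (P.disj c hc a ha hne z (by rw [h2 z hgz, haz]))
    exact ⟨h1, h2⟩
  by_cases hx : g • x = x
  · obtain ⟨x0, hx0⟩ : ∃ x0 : V, g • x0 ≠ x0 := by
      by_contra h
      exact hg (eq_of_smul_eq_smul (α := V) fun v => by rw [one_smul]; exact not_not.1 fun e => h ⟨v, e⟩)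
    rw [hx, (key x0 hx0).2 x hx]
  · exact (key x hx).1

theorem exists_fixed_ne_zero {a : H} (ha : a ∈ P.R) : ∃ z : V, z ≠ 0 ∧ a • z = z := by
  have h : 1 < {v : V | a • v = v}.ncard := by rw [P.card_fix a ha]; exact P.two_le
  obtain ⟨z, hz, hne⟩ := Set.exists_ne_of_one_lt_ncard h 0
  exact ⟨z, hne, hz⟩

theorem mem_R_of_fix {g : H} {z : V} (hz : z ≠ 0) (hg : g ≠ 1) (hgz : g • z = z) : g ∈ P.R := by
  obtain ⟨a, ha, haz⟩ := P.exists_fix hz
  rw [P.eq_of_fix ha hz haz hg hgz]; exact ha

theorem exists_mem : ∃ a, a ∈ P.R := Set.nonempty_of_ncard_ne_zero (by rw [P.card_R]; omega)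

theorem card_H : Nat.card H = 2 * (P.q + 1) := by
  obtain ⟨b, hb⟩ := P.exists_mem
  obtain ⟨z, hz, hbz⟩ := P.exists_fixed_ne_zero hb
  have horb : orbit H z = (fun c : H => c • z) '' P.R := by
    refine Set.Subset.antisymm ?_ ?_
    · rintro x ⟨g, rfl⟩
      show g • z ∈ _
      by_cases hgz : g • z = z
      · exact ⟨b, hb, hbz.trans hgz.symm⟩
      · obtain ⟨c, hc, h1, -⟩ := P.cover g z hgz
        exact ⟨c, hc, h1.symm⟩
    · rintro x ⟨c, -, rfl⟩
      exact ⟨c, rfl⟩
  have hinj : Set.InjOn (fun c : H => c • z) P.R := fun c hc d hd e => by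
    by_contra hne
    exact hz (P.disj c hc d hd hne z e)
  have hst : Nat.card (stabilizer H z) = 2 := by
    have : ((stabilizer H z : Subgroup H) : Set H) = {1, b} := by
      ext g
      simp only [SetLike.mem_coe, mem_stabilizer_iff, Set.mem_insert_iff, Set.mem_singleton_iff]
      refine ⟨fun hg => or_iff_not_imp_left.2 fun h1 => P.eq_of_fix hb hz hbz h1 hg, ?_⟩
      rintro (rfl | rfl)
      · exact one_smul _ _
      · exact hbz
    rw [show Nat.card (stabilizer H z) = Nat.card ↥((stabilizer H z : Subgroup H) : Set H) from rfl,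
      Nat.card_coe_set_eq, this, Set.ncard_pair (Ne.symm (P.ne_one b hb))]
  rw [← (stabilizer H z).card_mul_index, hst, index_stabilizer, horb, hinj.ncard_image, P.card_R]

theorem one_notMem : (1 : H) ∉ P.R := fun h => P.ne_one 1 h rfl

theorem mul_notMem {a c : H} (ha : a ∈ P.R) (hc : c ∈ P.R) : a * c ∉ P.R := by
  by_cases hac : a = c
  · rw [← hac, P.sq_one a ha]; exact P.one_notMem
  · intro h
    obtain ⟨z, hz, hfz⟩ := P.exists_fixed_ne_zero h
    refine hz (P.disj a ha c hc hac z ?_)
    conv_lhs => rw [← hfz, ← mul_smul, ← mul_assoc, P.sq_one a ha, one_mul]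

theorem mul_self_cancel {a : H} (ha : a ∈ P.R) (x : H) : a * (a * x) = x := by
  rw [← mul_assoc, P.sq_one a ha, one_mul]

theorem exists_eq_mul {a g : H} (ha : a ∈ P.R) (hg : g ∉ P.R) : ∃ c ∈ P.R, g = a * c := by
  classical
  letI := Fintype.ofFinite H
  have h : (fun c => a * c) '' P.R = (P.Rᶜ : Set H) := by
    refine Set.eq_of_subset_of_ncard_le (by rintro x ⟨c, hc, rfl⟩; exact P.mul_notMem ha hc) ?_ (Set.toFinite _)
    rw [Set.ncard_image_of_injective _ (mul_right_injective a), Set.ncard_compl, P.card_R, P.card_H]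
    omega
  have hg' : g ∈ (fun c => a * c) '' P.R := by rw [h]; exact hg
  obtain ⟨c, hc, e⟩ := hg'
  exact ⟨c, hc, e.symm⟩

/-- The semiregular subgroup. -/
def rot : Subgroup H where
  carrier := {g | g ∉ P.R}
  one_mem' := P.one_notMem
  mul_mem' := by
    intro g g' hg hg'
    obtain ⟨a, ha⟩ := P.exists_mem
    obtain ⟨c, hc, rfl⟩ := P.exists_eq_mul ha hg
    obtain ⟨d, hd, rfl⟩ := P.exists_eq_mul hc hg'
    show a * c * (c * d) ∉ P.R
    rw [mul_assoc, P.mul_self_cancel hc]
    exact P.mul_notMem ha hd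
  inv_mem' := by
    intro g hg
    obtain ⟨a, ha⟩ := P.exists_mem
    obtain ⟨c, hc, rfl⟩ := P.exists_eq_mul ha hg
    show (a * c)⁻¹ ∉ P.R
    rw [mul_inv_rev, inv_eq_of_mul_eq_one_right (P.sq_one a ha), inv_eq_of_mul_eq_one_right (P.sq_one c hc)]
    exact P.mul_notMem hc ha

theorem conj_rot {a g : H} (ha : a ∈ P.R) (hg : g ∈ P.rot) : a * g * a = g⁻¹ := by
  obtain ⟨c, hc, rfl⟩ := P.exists_eq_mul ha hg
  rw [P.mul_self_cancel ha, mul_inv_rev, inv_eq_of_mul_eq_one_right (P.sq_one a ha),
    inv_eq_of_mul_eq_one_right (P.sq_one c hc)]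

theorem rot_comm {g g' : H} (hg : g ∈ P.rot) (hg' : g' ∈ P.rot) : g * g' = g' * g := by
  obtain ⟨a, ha⟩ := P.exists_mem
  have h : a * (g * g') * a = a * g * a * (a * g' * a) := by
    simp only [mul_assoc, P.mul_self_cancel ha]
  rw [P.conj_rot ha (mul_mem hg hg'), P.conj_rot ha hg, P.conj_rot ha hg', mul_inv_rev] at h
  have := congrArg (·⁻¹) h
  simpa using this

theorem card_rot : Nat.card P.rot = P.q + 1 := by
  show Nat.card ↥(P.Rᶜ : Set H) = _
  rw [Nat.card_coe_set_eq, Set.ncard_compl, P.card_H, P.card_R]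
  omega

theorem rot_free {g : H} (hg : g ∈ P.rot) {z : V} (hz : z ≠ 0) (h : g • z = z) : g = 1 := by
  by_contra hne
  exact hg (P.mem_R_of_fix hz hne h)

theorem dvd_card_sub_one {W : AddSubgroup V} (hW : ∀ g ∈ P.rot, ∀ v ∈ W, g • v ∈ W) :
    P.q + 1 ∣ Nat.card W - 1 := by
  classical
  let X := {v : W // v ≠ 0}
  have hne : ∀ (g : P.rot) (x : X), ¬ ((g : H) • ((x.1 : W) : V) = 0) := fun g x h =>
    x.2 (Subtype.ext ((smul_eq_zero_iff_eq _).1 h))
  letI : MulAction P.rot X :=
    { smul := fun g x => ⟨⟨(g : H) • ((x.1 : W) : V), hW g g.2 _ x.1.2⟩,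
        fun h => hne g x (congrArg Subtype.val h)⟩
      one_smul := fun x => Subtype.ext (Subtype.ext (one_smul H ((x.1 : W) : V)))
      mul_smul := fun g g' x => Subtype.ext (Subtype.ext (mul_smul (g : H) (g' : H) ((x.1 : W) : V))) }
  have hst : ∀ x : X, stabilizer P.rot x = ⊥ := fun x => eq_bot_iff.2 fun g hg =>
    Subgroup.mem_bot.2 (Subtype.ext (P.rot_free g.2 (fun h => x.2 (Subtype.ext h))
      (congrArg (fun y : X => ((y.1 : W) : V)) hg)))
  letI := Fintype.ofFinite (Quotient (orbitRel P.rot X))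
  have hX : Nat.card X = Nat.card (Quotient (orbitRel P.rot X)) * (P.q + 1) := by
    rw [Nat.card_congr (selfEquivSigmaOrbitsQuotientStabilizer P.rot X), Nat.card_sigma,
      Finset.sum_congr rfl fun ω _ => by rw [hst, ← Subgroup.index_eq_card, Subgroup.index_bot, P.card_rot],
      Finset.sum_const, Finset.card_univ, smul_eq_mul, Nat.card_eq_fintype_card]
  have hXW : Nat.card X = Nat.card W - 1 := by
    letI := Fintype.ofFinite W
    rw [Nat.card_eq_fintype_card, Nat.card_eq_fintype_card, Fintype.card_subtype_compl, Fintype.card_subtype_eq]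
  exact ⟨_, by rw [← hXW, hX, mul_comm]⟩

theorem irreducible {W : AddSubgroup V} (hW : ∀ g ∈ P.rot, ∀ v ∈ W, g • v ∈ W) : W = ⊥ ∨ W = ⊤ := by
  have hk0 : 0 < Nat.card W := Nat.card_pos
  obtain ⟨i, hi⟩ := P.dvd_card_sub_one hW
  have hk : Nat.card W = (P.q + 1) * i + 1 := by omega
  have hprod : Nat.card W * W.index = P.q ^ 2 := by rw [W.card_mul_index, P.card_V]
  have hmod : 1 % (P.q + 1) = W.index % (P.q + 1) := by
    have h1 : P.q ^ 2 % (P.q + 1) = 1 % (P.q + 1) := by
      obtain ⟨r, hr⟩ : ∃ r, P.q = r + 1 := ⟨P.q - 1, by have := P.two_le; omega⟩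
      rw [hr, show (r + 1) ^ 2 = 1 + (r + 1 + 1) * r by ring, Nat.add_mul_mod_self_left]
    rw [← h1, ← hprod, hk, show ((P.q + 1) * i + 1) * W.index = W.index + (P.q + 1) * (i * W.index) by ring,
      Nat.add_mul_mod_self_left]
  by_cases h1 : Nat.card W = 1
  · exact Or.inl (AddSubgroup.eq_bot_of_card_eq _ h1)
  by_cases h2 : W.index = 1
  · exact Or.inr (AddSubgroup.index_eq_one.1 h2)
  exfalso
  have hq1 : 1 % (P.q + 1) = 1 := Nat.mod_eq_of_lt (by have := P.two_le; omega)
  have hi1 : 1 ≤ i := Nat.one_le_iff_ne_zero.2 fun e => h1 (by simp [hk, e])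
  have hj : P.q + 2 ≤ W.index := by
    by_contra h
    rcases Nat.lt_or_ge W.index (P.q + 1) with h' | h'
    · rw [hq1, Nat.mod_eq_of_lt h'] at hmod; exact h2 hmod.symm
    · rw [hq1, show W.index = P.q + 1 by omega, Nat.mod_self] at hmod
      exact absurd hmod one_ne_zero
  have hk' : P.q + 2 ≤ Nat.card W := by
    rw [hk]; have := Nat.le_mul_of_pos_right (P.q + 1) hi1; omega
  have := Nat.mul_le_mul hk' hj
  have : P.q ^ 2 < (P.q + 2) * (P.q + 2) := by rw [sq]; exact Nat.mul_lt_mul_of_lt_of_lt (by omega) (by omega)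
  omega

include P in
/-- The group is that of the norm-one elements and the automorphisms of a field of order `q ^ 2`. -/
theorem exists_field : ∃ (F E : Type) (_ : Field F) (_ : Fintype F) (_ : Field E) (_ : Fintype E) (_ : Algebra F E)
    (e : V ≃+ E), Module.finrank F E = 2 ∧
      (∀ h : H, ∃ (a : E) (φ : E ≃ₐ[F] E), Algebra.norm F a = 1 ∧ ∀ v, e (h • v) = a * φ (e v)) ∧
      (∀ (a : E) (φ : E ≃ₐ[F] E), Algebra.norm F a = 1 → ∃ h : H, ∀ v, e (h • v) = a * φ (e v)) := by
  classical
  obtain ⟨a0, ha0⟩ := P.exists_mem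
  obtain ⟨z0, hz0, haz⟩ := P.exists_fixed_ne_zero ha0
  haveI : Nontrivial V := ⟨z0, 0, hz0⟩
  haveI : Finite (AddMonoid.End V) := Finite.of_injective _ DFunLike.coe_injective
  let ρ : H →* AddMonoid.End V := DistribMulAction.toAddMonoidEnd H V
  have ρ_apply : ∀ (g : H) (v : V), ρ g v = g • v := fun g v => rfl
  -- the ring generated by the semiregular subgroup
  let gens : Set (AddMonoid.End V) := ρ '' P.rot
  let S : Subring (AddMonoid.End V) := Subring.closure gens
  letI iS : CommRing S := Subring.closureCommRingOfComm fun x hx y hy => by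
    obtain ⟨g, hg, rfl⟩ := hx
    obtain ⟨g', hg', rfl⟩ := hy
    rw [← map_mul, ← map_mul, P.rot_comm hg hg']
  have hmemS : ∀ g ∈ P.rot, ρ g ∈ S := fun g hg => Subring.subset_closure ⟨g, hg, rfl⟩
  have hbij : ∀ s : S, s ≠ 0 → Function.Bijective (s : AddMonoid.End V) := by
    intro s hs
    have hinv : ∀ g ∈ P.rot, ∀ v ∈ AddMonoidHom.ker ((s : AddMonoid.End V) : V →+ V),
        g • v ∈ AddMonoidHom.ker ((s : AddMonoid.End V) : V →+ V) := by
      intro g hg v hv
      refine AddMonoidHom.mem_ker.2 ?_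
      have hv' : (s : AddMonoid.End V) v = 0 := AddMonoidHom.mem_ker.1 hv
      have := congrArg (fun t : S => (t : AddMonoid.End V) v) (mul_comm s ⟨ρ g, hmemS g hg⟩)
      change (s : AddMonoid.End V) (g • v) = g • ((s : AddMonoid.End V) v) at this
      show (s : AddMonoid.End V) (g • v) = 0
      rw [this, hv', smul_zero]
    rcases P.irreducible hinv with h | h
    · exact Finite.injective_iff_bijective.1 ((AddMonoidHom.ker_eq_bot_iff _).1 h)
    · refine absurd (Subtype.ext (AddMonoidHom.ext fun v => ?_)) hs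
      exact AddMonoidHom.mem_ker.1 (h ▸ AddSubgroup.mem_top v)
  haveI : Nontrivial S := ⟨0, 1, fun h => hz0 (congrArg (fun t : S => (t : AddMonoid.End V) z0) h).symm⟩
  haveI : NoZeroDivisors S := ⟨fun {s t} hst => by
    by_contra h
    push Not at h
    refine h.1 (Subtype.ext (AddMonoidHom.ext fun v => ?_))
    obtain ⟨w, rfl⟩ := (hbij t h.2).2 v
    exact congrArg (fun r : S => (r : AddMonoid.End V) w) hst⟩
  haveI : IsDomain S := NoZeroDivisors.to_isDomain S
  letI : Fintype S := Fintype.ofFinite S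
  letI : Field S := Fintype.fieldOfDomain S
  -- the evaluation
  let ev : S →+ V := AddMonoidHom.mk' (fun s => (s : AddMonoid.End V) z0) fun s t => rfl
  have hev : Function.Bijective ev := by
    have hinj : Function.Injective ev := (injective_iff_map_eq_zero ev).2 fun s hs => by
      by_contra hne
      exact hz0 ((hbij s hne).1 (hs.trans (map_zero (s : AddMonoid.End V)).symm))
    refine ⟨hinj, ?_⟩
    have hinv : ∀ g ∈ P.rot, ∀ v ∈ ev.range, g • v ∈ ev.range := by
      rintro g hg _ ⟨s, rfl⟩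
      exact ⟨⟨ρ g, hmemS g hg⟩ * s, rfl⟩
    rcases P.irreducible hinv with h | h
    · exact absurd (AddSubgroup.mem_bot.1 (h ▸ ⟨1, rfl⟩ : z0 ∈ (⊥ : AddSubgroup V))) hz0
    · exact AddMonoidHom.range_eq_top.1 h
  have hcardS : Fintype.card S = P.q ^ 2 := by
    rw [← Nat.card_eq_fintype_card, Nat.card_congr (Equiv.ofBijective ev hev), P.card_V]
  obtain ⟨p, hchar, n, hp, hn⟩ := FiniteField.card' S
  haveI : Fact p.Prime := ⟨hp⟩
  obtain ⟨m, hm, hqm⟩ : ∃ m, m ≤ (n : ℕ) ∧ P.q = p ^ m := (Nat.dvd_prime_pow hp).1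
    (by rw [← hn, hcardS]; exact dvd_pow_self _ (by norm_num))
  haveI : ExpChar S p := ExpChar.prime hp
  -- conjugation by the reflection fixing `z0` is the power map
  let A : AddMonoid.End V := ρ a0
  have hA : A * A = 1 := by rw [← map_mul, P.sq_one a0 ha0, map_one]
  let cj : AddMonoid.End V →+* AddMonoid.End V :=
    { toFun := fun x => A * x * A
      map_one' := by rw [mul_one, hA]
      map_mul' := fun x y => by
        rw [show A * x * A * (A * y * A) = A * x * (A * A) * y * A by simp only [mul_assoc], hA, mul_one]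
        simp only [mul_assoc]
      map_zero' := by rw [mul_zero, zero_mul]
      map_add' := fun x y => by rw [mul_add, add_mul] }
  have hcj : ∀ g ∈ P.rot, cj (ρ g) = ρ g⁻¹ := fun g hg => by
    show ρ a0 * ρ g * ρ a0 = _
    rw [← map_mul, ← map_mul, P.conj_rot ha0 hg]
  have hfrob : ∀ s : S, cj (s : AddMonoid.End V) = ((s ^ P.q : S) : AddMonoid.End V) := by
    have key : ∀ x (hx : x ∈ S), cj x = ((iterateFrobenius S p m ⟨x, hx⟩ : S) : AddMonoid.End V) := by
      intro x hx
      induction hx using Subring.closure_induction with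
      | mem y hy =>
        obtain ⟨g, hg, rfl⟩ := hy
        rw [iterateFrobenius_def, ← hqm, hcj g hg, SubmonoidClass.coe_pow, ← map_pow]
        congr 1
        have hpow : g ^ (P.q + 1) = 1 := by
          have := congrArg Subtype.val (pow_card_eq_one' (x := (⟨g, hg⟩ : P.rot)))
          rwa [P.card_rot] at this
        exact inv_eq_of_mul_eq_one_right (by rw [← pow_succ', hpow])
      | zero => exact (map_zero cj).trans (congrArg Subtype.val (map_zero (iterateFrobenius S p m))).symm
      | one => exact (map_one cj).trans (congrArg Subtype.val (map_one (iterateFrobenius S p m))).symm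
      | add y z hy hz ihy ihz =>
        rw [map_add, ihy, ihz]
        exact (congrArg Subtype.val (map_add (iterateFrobenius S p m) ⟨y, hy⟩ ⟨z, hz⟩)).symm
      | neg y hy ihy =>
        rw [map_neg, ihy]
        exact (congrArg Subtype.val (map_neg (iterateFrobenius S p m) ⟨y, hy⟩)).symm
      | mul y z hy hz ihy ihz =>
        rw [map_mul, ihy, ihz]
        exact (congrArg Subtype.val (map_mul (iterateFrobenius S p m) ⟨y, hy⟩ ⟨z, hz⟩)).symm
    intro s
    rw [key s.1 s.2, iterateFrobenius_def, hqm]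
  have ha0ev : ∀ s : S, a0 • ev s = ev (s ^ P.q) := fun s => by
    show _ = ((s ^ P.q : S) : AddMonoid.End V) z0
    rw [← hfrob]
    show _ = A ((s : AddMonoid.End V) (A z0))
    rw [show A z0 = z0 from haz]
    rfl
  -- the field in `Type`
  let E := GaloisField p n
  letI : Fintype E := Fintype.ofFinite E
  let ψ : S ≃+* E := FiniteField.ringEquivOfCardEq (K := S) (K' := E) (by
    rw [hn, ← Nat.card_eq_fintype_card, GaloisField.card p n n.ne_zero])
  let e : V ≃+ E := (AddEquiv.ofBijective ev hev).symm.trans ψ.toAddEquiv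
  have he : ∀ s : S, e (ev s) = ψ s := fun s => congrArg ψ ((AddEquiv.ofBijective ev hev).symm_apply_apply s)
  let κ : P.rot → E := fun g => ψ ⟨ρ g, hmemS g g.2⟩
  have herot : ∀ (g : P.rot) (v : V), e ((g : H) • v) = κ g * e v := fun g v => by
    obtain ⟨s, rfl⟩ := hev.2 v
    rw [he, show (g : H) • ev s = ev (⟨ρ g, hmemS g g.2⟩ * s) from rfl, he, map_mul]
  have hea : ∀ v : V, e (a0 • v) = e v ^ P.q := fun v => by
    obtain ⟨s, rfl⟩ := hev.2 v
    rw [ha0ev, he, he, map_pow]
  haveI : ExpChar E p := ExpChar.prime hp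
  let F : Subfield E := (iterateFrobenius E p m).eqLocusField (RingHom.id E)
  have hFmem : ∀ x : E, x ∈ F ↔ x ^ P.q = x := fun x => by
    rw [RingHom.mem_eqLocusField, iterateFrobenius_def, hqm]; rfl
  letI : Fintype F := Fintype.ofFinite F
  have hcardF : Nat.card F = P.q := by
    rw [← P.card_fix a0 ha0, ← Nat.card_coe_set_eq]
    refine Nat.card_congr (Equiv.subtypeEquiv e.symm.toEquiv fun x => ?_)
    show x ∈ F ↔ a0 • e.symm x = e.symm x
    rw [hFmem, ← e.injective.eq_iff (a := a0 • e.symm x), hea, e.apply_symm_apply]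
  have hcardE : Nat.card E = P.q ^ 2 := by rw [← P.card_V, Nat.card_congr e.toEquiv]
  have hfin : Module.finrank F E = 2 := by
    have := Module.natCard_eq_pow_finrank (K := F) (V := E)
    rw [hcardE, hcardF] at this
    exact (Nat.pow_right_injective P.two_le this).symm
  have hnorm : ∀ x : E, Algebra.norm F x = 1 ↔ x ^ (P.q + 1) = 1 := fun x => by
    have hexp : (P.q ^ 2 - 1) / (P.q - 1) = P.q + 1 := by
      refine Nat.div_eq_of_eq_mul_left (by have := P.two_le; omega) ?_
      rw [← Nat.sq_sub_sq]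
    have h := FiniteField.algebraMap_norm_eq_pow (K := F) (K' := E) (x := x)
    rw [hcardE, hcardF, hexp] at h
    rw [← h]
    exact ⟨fun e1 => by rw [e1, map_one], fun e1 => (algebraMap F E).injective (e1.trans (map_one _).symm)⟩
  have hκ : ∀ g : P.rot, κ g ^ (P.q + 1) = 1 := fun g => by
    have hg : (g : H) ^ (P.q + 1) = 1 := by
      have := congrArg Subtype.val (pow_card_eq_one' (x := g))
      rwa [P.card_rot] at this
    show ψ _ ^ _ = 1
    rw [← map_pow, show (⟨ρ g, hmemS g g.2⟩ : S) ^ (P.q + 1) = 1 from Subtype.ext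
      (by rw [SubmonoidClass.coe_pow, ← map_pow, hg, map_one]; rfl), map_one]
  have hsurj : ∀ x : E, x ^ (P.q + 1) = 1 → ∃ g, κ g = x := fun x hx => by
    have hinj : Function.Injective κ := fun g g' h => Subtype.ext (eq_of_smul_eq_smul (α := V) fun v =>
      e.injective (by rw [herot, herot, h]))
    have hsub : Set.range κ ⊆ {y : E | y ^ (P.q + 1) = 1} := by rintro _ ⟨g, rfl⟩; exact hκ g
    have hle : {y : E | y ^ (P.q + 1) = 1}.ncard ≤ (Set.range κ).ncard := by
      rw [← Nat.card_coe_set_eq (Set.range κ), Nat.card_range_of_injective hinj, P.card_rot]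
      have : {y : E | y ^ (P.q + 1) = 1} = ↑(Polynomial.nthRoots (P.q + 1) (1 : E)).toFinset := by
        ext y; simp [Polynomial.mem_nthRoots (Nat.succ_pos P.q)]
      rw [this, Set.ncard_coe_finset]
      exact (Multiset.toFinset_card_le _).trans (Polynomial.card_nthRoots _ _)
    have : x ∈ Set.range κ := by rw [Set.eq_of_subset_of_ncard_le hsub hle (Set.toFinite _)]; exact hx
    exact this
  let σ : E ≃ₐ[F] E := FiniteField.frobeniusAlgEquivOfAlgebraic F E
  have hσ : ∀ x, σ x = x ^ P.q := fun x => by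
    show (FiniteField.frobeniusAlgEquivOfAlgebraic F E : E → E) x = _
    rw [FiniteField.coe_frobeniusAlgEquivOfAlgebraic, ← Nat.card_eq_fintype_card, hcardF]
  refine ⟨F, E, inferInstance, inferInstance, inferInstance, inferInstance, inferInstance, e, hfin, ?_, ?_⟩
  · intro h
    by_cases hh : h ∈ P.R
    · have hc : a0 * h ∈ P.rot := P.mul_notMem ha0 hh
      refine ⟨κ ⟨_, hc⟩ ^ P.q, σ, (hnorm _).2 (by rw [← pow_mul, mul_comm, pow_mul, hκ, one_pow]), fun v => ?_⟩
      conv_lhs => rw [← P.mul_self_cancel ha0 h, mul_smul, hea, herot ⟨_, hc⟩ v, mul_pow]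
      rw [hσ]
    · exact ⟨κ ⟨h, hh⟩, AlgEquiv.refl, (hnorm _).2 (hκ _), fun v => herot ⟨h, hh⟩ v⟩
  · intro a φ ha
    obtain ⟨g, rfl⟩ := hsurj a ((hnorm a).1 ha)
    obtain ⟨i, rfl⟩ := (FiniteField.bijective_frobeniusAlgEquivOfAlgebraic_pow F E).2 φ
    rcases (show (i : ℕ) = 0 ∨ (i : ℕ) = 1 by have := i.2; omega) with hi | hi <;>
      simp only [hi, pow_zero, pow_one]
    · exact ⟨g, fun v => by rw [herot]; rfl⟩
    · exact ⟨(g : H) * a0, fun v => by rw [mul_smul, herot, hea]; exact congrArg _ (hσ _).symm⟩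

end PlaneRefl

end Cfsg.Lib.Binary
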