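import Cfsg.Agent.Lib.Binary.Component
import Cfsg.Agent.Lib.Binary.Endgame

/-!
# Binary linear groups: the count and the classification
-/

set_option autoImplicit false
set_option linter.unusedSectionVars false

namespace Cfsg.Lib.Binary

open MulAction

variable {H V : Type*} [Group H] [Finite H] [AddCommGroup V] [Finite V] [DistribMulAction H V]
variable {p : ℕ} (P : Hyp H V p)
include P

theorem Hyp.dichotomy {a e : H} (ha : InR V a) (he : InR V e) {z : V} (hz : z ∈ Mv e) (hz0 : z ≠ 0) :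
    (a • z = z → Mv (V := V) a ≤ Fx e) ∧ (a • z ≠ z → ∀ d ∈ Mv (V := V) a, e • d = d → d = 0) := by
  by_cases hae : a = e
  · subst hae
    by_cases hp : p = 2
    · exact ⟨fun _ => P.Mv_le_Fx hp ha, fun h => absurd (P.Mv_le_Fx hp ha hz) h⟩
    · exact ⟨fun h => absurd (P.Mv_inf_Fx hp ha hz h) hz0, fun _ d hd hf => P.Mv_inf_Fx hp ha hd hf⟩
  refine ⟨fun h => P.le_of_comm he ha (Ne.symm hae) (P.comm_of_mem ha he hz hz0 h).symm, fun h d hd hf => ?_⟩
  by_contra hd0
  exact h (P.le_of_comm ha he hae (P.comm_of_mem he ha hd hd0 hf).symm hz)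

variable {q : ℕ} (hq : 2 ≤ q) (hcard : ∀ a : H, InR V a → Nat.card (Mv (V := V) a) = q)
  (hcov : ∀ d : V, d ≠ 0 → ∃ a : H, InR V a ∧ d ∈ Mv a)
include hq hcard hcov

theorem Hyp.card_ne_zero {a : H} (ha : InR V a) : Nat.card {d : Mv (V := V) a // (d : V) ≠ 0} = q - 1 := by
  classical
  letI := Fintype.ofFinite (Mv (V := V) a)
  have e : {d : Mv (V := V) a // (d : V) ≠ 0} = {d : Mv (V := V) a // ¬ d = 0} := by simp
  rw [e, Nat.card_eq_fintype_card, Fintype.card_subtype_compl, Fintype.card_subtype_eq, ← Nat.card_eq_fintype_card,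
    hcard a ha]

/-- Members with a given property moving a set of vectors which they partition. -/
theorem Hyp.count (S : Set H) (T : Set V) (hS : ∀ a ∈ S, InR V a)
    (h1 : ∀ a ∈ S, ∀ d ∈ Mv (V := V) a, d ≠ 0 → d ∈ T)
    (h2 : ∀ d ∈ T, d ≠ 0 ∧ ∀ a : H, InR V a → d ∈ Mv a → a ∈ S) :
    Nat.card S * (q - 1) = Nat.card T := by
  letI := Fintype.ofFinite S
  let F : (Σ a : S, {d : Mv (V := V) (a : H) // (d : V) ≠ 0}) → T :=
    fun x => ⟨(x.2.1 : V), h1 _ x.1.2 _ x.2.1.2 x.2.2⟩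
  have hF : Function.Bijective F := by
    refine ⟨?_, fun ⟨d, hd⟩ => ?_⟩
    · intro x y hxy
      obtain ⟨⟨a, ha⟩, ⟨⟨d, hd⟩, hd0⟩⟩ := x
      obtain ⟨⟨c, hc⟩, ⟨⟨d', hd'⟩, hd0'⟩⟩ := y
      have e' : d = d' := congrArg Subtype.val hxy
      subst e'
      obtain rfl := P.eq_of_Mv (hS a ha) (hS c hc) hd0 hd hd'
      rfl
    · obtain ⟨hd0, hd'⟩ := h2 d hd
      obtain ⟨a, ha, hda⟩ := hcov d hd0
      exact ⟨⟨⟨a, hd' a ha hda⟩, ⟨⟨d, hda⟩, hd0⟩⟩, rfl⟩
  rw [← Nat.card_eq_of_bijective F hF, Nat.card_sigma, Finset.sum_congr rfl fun a _ => P.card_ne_zero hq hcard hcov (hS _ a.2),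
    Finset.sum_const, Finset.card_univ, smul_eq_mul, Nat.card_eq_fintype_card]

theorem Hyp.orbit_card {e : H} (he : InR V e) {z : V} (hz : z ∈ Mv e) (hz0 : z ≠ 0) :
    (orbit H z).ncard = Nat.card (Fx (V := V) e) + 1 := by
  classical
  let S : Set H := {a | InR V a ∧ a • z ≠ z}
  have hS : Nat.card S = Nat.card (Fx (V := V) e) := by
    have h := P.count hq hcard hcov S {d : V | e • d ≠ d} (fun a ha => ha.1)
      (fun a ha d hd hd0 h => hd0 ((P.dichotomy ha.1 he hz hz0).2 ha.2 d hd h))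
      (fun d hd => ⟨fun h => hd (by rw [h, smul_zero]), fun a ha hda =>
        ⟨ha, fun h => hd ((P.dichotomy ha he hz hz0).1 h hda)⟩⟩)
    have hT : Nat.card {d : V | e • d ≠ d} = Nat.card V - Nat.card (Fx (V := V) e) := by
      letI := Fintype.ofFinite V
      rw [Nat.card_eq_fintype_card, Nat.card_eq_fintype_card, Nat.card_eq_fintype_card]
      exact Fintype.card_subtype_compl _
    rw [hT, ← card_Fx_mul (V := V) e, hcard e he] at h
    refine Nat.eq_of_mul_eq_mul_right (show 0 < q - 1 by omega) ?_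
    rw [h, Nat.mul_sub, mul_one]
  have horb : orbit H z = insert z ((fun a : H => a • z) '' S) := by
    refine Set.Subset.antisymm ?_ ?_
    · rintro x ⟨g, rfl⟩
      by_cases hg : g • z = z
      · exact Or.inl hg
      · obtain ⟨a, ha, hd⟩ := hcov _ (sub_ne_zero.2 hg)
        have e' := (P.agree ha hd hg).1
        exact Or.inr ⟨a, ⟨ha, fun h => hg (e'.trans h)⟩, e'.symm⟩
    · rintro x (rfl | ⟨a, -, rfl⟩)
      · exact mem_orbit_self x
      · exact ⟨a, rfl⟩
  have hinj : Set.InjOn (fun a : H => a • z) S := by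
    intro a ha c hc e'
    have e' : a • z = c • z := e'
    exact P.eq_of_Mv ha.1 hc.1 (sub_ne_zero.2 ha.2) (sub_mem_Mv a z) (by rw [e']; exact sub_mem_Mv c z)
  rw [horb, Set.ncard_insert_of_notMem ?_ (Set.toFinite _), hinj.ncard_image, ← Nat.card_coe_set_eq, hS]
  rintro ⟨a, ha, e'⟩
  exact ha.2 e'

theorem Hyp.card_Fx_eq (hfix : ∀ z : V, ∃ g : H, g ≠ 1 ∧ g • z = z) {e : H} (he : InR V e) :
    Nat.card (Fx (V := V) e) = q ∧ ∃ a : H, InR V a ∧ Fx (V := V) e = Mv a := by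
  classical
  set w := Nat.card (Fx (V := V) e) with hw
  have hwall : ∀ a : H, InR V a → Nat.card (Fx (V := V) a) = w := fun a ha =>
    Nat.eq_of_mul_eq_mul_right (show 0 < q by omega) (by
      have h1 := card_Fx_mul (V := V) a; rw [hcard a ha] at h1
      have h2 := card_Fx_mul (V := V) e; rw [hcard e he, ← hw] at h2
      rw [h1, h2])
  -- a nonzero fixed vector
  obtain ⟨d, hd, hd0⟩ := P.Mv_ne (V := V) he.1
  obtain ⟨x, hx, hx0⟩ : ∃ x : V, e • x = x ∧ x ≠ 0 := by
    obtain ⟨g, hg, hgd⟩ := hfix d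
    obtain ⟨a, ha, hga⟩ := P.exists_inR hg
    have : 1 < w := by
      rw [← hwall a ha]
      have : Nontrivial (Fx (V := V) a) := ⟨⟨⟨d, hga hgd⟩, 0, fun h => hd0 (congrArg Subtype.val h)⟩⟩
      exact Finite.one_lt_card
    have : Nontrivial (Fx (V := V) e) := Finite.one_lt_card_iff_nontrivial.1 this
    obtain ⟨x, hx⟩ := exists_ne (0 : Fx (V := V) e)
    exact ⟨x, x.2, fun h => hx (Subtype.ext h)⟩
  obtain ⟨a, ha, hxa⟩ := hcov x hx0
  have hsub : Mv (V := V) a ≤ Fx e := by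
    by_cases h : a • d = d
    · exact (P.dichotomy ha he hd hd0).1 h
    · exact absurd ((P.dichotomy ha he hd hd0).2 h x hxa hx) hx0
  have hqw : q ≤ w := by
    rw [← hcard a ha]
    exact Nat.card_le_card_of_injective _ (AddSubgroup.inclusion_injective hsub)
  -- the orbits of the nonzero vectors
  let X := {v : V // v ≠ 0}
  letI : MulAction H X :=
    { smul := fun g v => ⟨g • (v : V), fun h => v.2 ((smul_eq_zero_iff_eq g).1 h)⟩
      one_smul := fun v => Subtype.ext (one_smul H (v : V))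
      mul_smul := fun g g' v => Subtype.ext (mul_smul g g' (v : V)) }
  letI := Fintype.ofFinite (Quotient (orbitRel H X))
  have hX : Nat.card X = Nat.card (Quotient (orbitRel H X)) * (w + 1) := by
    have horb : ∀ v : X, Nat.card (orbit H v) = w + 1 := by
      intro v
      obtain ⟨f, hf, hvf⟩ := hcov v v.2
      have him : Subtype.val '' (orbit H v) = orbit H (v : V) := by
        ext y
        constructor
        · rintro ⟨_, ⟨g, rfl⟩, rfl⟩; exact ⟨g, rfl⟩
        · rintro ⟨g, rfl⟩; exact ⟨g • v, ⟨g, rfl⟩, rfl⟩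
      rw [Nat.card_coe_set_eq, ← Set.ncard_image_of_injective _ Subtype.val_injective, him,
        P.orbit_card hq hcard hcov hf hvf v.2, hwall f hf]
    rw [Nat.card_congr (selfEquivSigmaOrbits H X), Nat.card_sigma, Finset.sum_congr rfl fun ω _ => horb _,
      Finset.sum_const, Finset.card_univ, smul_eq_mul, Nat.card_eq_fintype_card]
  have hXV : Nat.card X = Nat.card V - 1 := by
    letI := Fintype.ofFinite V
    rw [Nat.card_eq_fintype_card, Nat.card_eq_fintype_card, Fintype.card_subtype_compl, Fintype.card_subtype_eq]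
  rw [hXV, ← card_Fx_mul (V := V) e, hcard e he, ← hw] at hX
  have hwq : w ≤ q := by
    have h1 : w + 1 ∣ q * (w + 1) := dvd_mul_left _ _
    have h2 : w + 1 ∣ Nat.card (Quotient (orbitRel H X)) * (w + 1) := dvd_mul_left _ _
    have h3 := Nat.dvd_sub h1 h2
    rw [← hX, show q * (w + 1) - (w * q - 1) = q + 1 by
      have : 0 < w * q := Nat.mul_pos (by omega) (by omega)
      rw [mul_add, mul_one, mul_comm q w]; omega] at h3
    have := Nat.le_of_dvd (Nat.succ_pos q) h3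
    omega
  refine ⟨le_antisymm hwq hqw, a, ha, (AddSubgroup.eq_of_le_of_card_ge hsub ?_).symm⟩
  rw [hcard a ha]; exact hwq

/-- The members form the reflections of a plane. -/
theorem Hyp.planeRefl (hfix : ∀ z : V, ∃ g : H, g ≠ 1 ∧ g • z = z) : Nonempty (PlaneRefl H V) := by
  classical
  obtain ⟨g0, hg0, -⟩ := hfix 0
  obtain ⟨a0, ha0, -⟩ := P.exists_inR hg0
  have hW := fun (e : H) (he : InR V e) => P.card_Fx_eq hq hcard hcov hfix he
  have hV : Nat.card V = q ^ 2 := by rw [← card_Fx_mul (V := V) a0, (hW a0 ha0).1, hcard a0 ha0, pow_two]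
  refine ⟨⟨q, hq, hV, {a | InR V a}, ?_, fun a ha => ha.1, fun a ha => P.sq ha, fun a ha => ?_, ?_, fun g z hz => ?_⟩⟩
  · have h := P.count hq hcard hcov {a | InR V a} {d : V | d ≠ 0} (fun a ha => ha)
      (fun a _ d _ hd0 => hd0) (fun d hd => ⟨hd, fun a ha _ => ha⟩)
    have hT : Nat.card {d : V | d ≠ 0} = Nat.card V - 1 := by
      letI := Fintype.ofFinite V
      rw [Nat.card_eq_fintype_card, Nat.card_eq_fintype_card]
      exact (Fintype.card_subtype_compl _).trans (by rw [Fintype.card_subtype_eq])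
    rw [hT, hV] at h
    rw [← Nat.card_coe_set_eq]
    refine Nat.eq_of_mul_eq_mul_right (show 0 < q - 1 by omega) (h.trans ?_)
    rw [← one_pow 2, Nat.sq_sub_sq, one_pow]
  · rw [← (hW a ha).1, ← Nat.card_coe_set_eq]; rfl
  · intro a ha c hc hac z h
    by_contra hz0
    by_cases haz : a • z = z
    swap
    · exact hac (P.eq_of_Mv ha hc (sub_ne_zero.2 haz) (sub_mem_Mv a z) (by rw [h]; exact sub_mem_Mv c z))
    have hcz : c • z = z := h.symm.trans haz
    obtain ⟨-, f, hf, ef⟩ := hW a ha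
    obtain ⟨-, f', hf', ef'⟩ := hW c hc
    obtain rfl : f = f' := P.eq_of_Mv hf hf' hz0 (ef ▸ (haz : z ∈ Fx (V := V) a)) (ef' ▸ (hcz : z ∈ Fx (V := V) c))
    by_cases hp : p = 2
    · have key : ∀ {b : H}, InR V b → Fx (V := V) b = Mv f → b = f := by
        intro b hb e
        obtain ⟨x, hx, hx0⟩ := P.Mv_ne (V := V) hb.1
        exact P.eq_of_Mv hb hf hx0 hx (e ▸ P.Mv_le_Fx hp hb hx)
      exact hac ((key ha ef).trans (key hc ef').symm)
    have key : ∀ {b : H}, InR V b → Fx (V := V) b = Mv f → Fx (V := V) f = Mv b := by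
      intro b hb e
      obtain ⟨x, hx, hx0⟩ := P.Mv_ne (V := V) hf.1
      have hbx : b • x = x := (e.symm ▸ hx : x ∈ Fx (V := V) b)
      have hne : b ≠ f := fun h => hx0 (P.Mv_inf_Fx hp hf hx (h ▸ hbx))
      exact (AddSubgroup.eq_of_le_of_card_ge
        (P.le_of_comm hf hb hne.symm (P.comm_of_mem hb hf hx hx0 hbx).symm)
        (by rw [(hW f hf).1, hcard b hb])).symm
    obtain ⟨x, hx, hx0⟩ := P.Mv_ne (V := V) ha.1
    exact hac (P.eq_of_Mv ha hc hx0 hx ((key hc ef').symm.trans (key ha ef) ▸ hx))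
  · obtain ⟨a, ha, hd⟩ := hcov _ (sub_ne_zero.2 hz)
    obtain ⟨h1, h2⟩ := P.agree ha hd hz
    exact ⟨a, ha, h1, fun f hf => h2 hf⟩

omit hq hcard hcov in
/-- A binary linear group is trivial or that of the norm-one elements of a quadratic extension. -/
theorem Hyp.classify [Nontrivial V] :
    ((Nat.card V).Prime ∧ Nat.card H ≤ 2) ∨
    ∃ (F E : Type) (_ : Field F) (_ : Fintype F) (_ : Field E) (_ : Fintype E) (_ : Algebra F E) (e : V ≃+ E),
      Module.finrank F E = 2 ∧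
      (∀ h : H, ∃ (a : E) (φ : E ≃ₐ[F] E), Algebra.norm F a = 1 ∧ ∀ v, e (h • v) = a * φ (e v)) ∧
      (∀ (a : E) (φ : E ≃ₐ[F] E), Algebra.norm F a = 1 → ∃ h : H, ∀ v, e (h • v) = a * φ (e v)) := by
  by_cases hfree : ∃ z : V, ∀ g : H, g • z = z → g = 1
  · obtain ⟨z, hz⟩ := hfree
    exact Or.inl (P.regular_case hz)
  push Not at hfree
  have hfix : ∀ z : V, ∃ g : H, g ≠ 1 ∧ g • z = z := fun z => by
    obtain ⟨g, h1, h2⟩ := hfree z
    exact ⟨g, h2, h1⟩
  obtain ⟨g, hg, -⟩ := hfix 0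
  obtain ⟨a0, ha0, -⟩ := P.exists_inR hg
  obtain ⟨q, hq, hcard, hcov⟩ := P.cover ha0
  obtain ⟨R⟩ := P.planeRefl hq hcard hcov hfix
  haveI : FaithfulSMul H V := ⟨fun h => P.ext h⟩
  exact Or.inr R.exists_field

end Cfsg.Lib.Binary
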