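import Mathlib

/-!
# Translates of an additive subgroup of a finite field are not distributive

For a proper nontrivial additive subgroup `V` of a finite field there are scalars `l`, `μ` such that
`V ∩ (lV + μV)` is larger than `(V ∩ lV) + (V ∩ μV)`.
-/

set_option autoImplicit false
set_option linter.unusedSectionVars false

namespace Cfsg.Lib.Binary

open Submodule

variable {p : ℕ} [Fact p.Prime] {F : Type*} [Field F] [Finite F] [Algebra (ZMod p) F]

/-- The translate `c V`. -/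
noncomputable def scale (c : F) (V : Submodule (ZMod p) F) : Submodule (ZMod p) F :=
  V.map (LinearMap.mulLeft (ZMod p) c)

theorem mem_scale {c z : F} {V : Submodule (ZMod p) F} : z ∈ scale c V ↔ ∃ v ∈ V, c * v = z := by
  simp [scale, Submodule.mem_map]

theorem mem_scale_iff {c z : F} (hc : c ≠ 0) {V : Submodule (ZMod p) F} :
    z ∈ scale c V ↔ c⁻¹ * z ∈ V := by
  rw [mem_scale]
  exact ⟨fun ⟨v, hv, e⟩ => by rw [← e, inv_mul_cancel_left₀ hc]; exact hv,
    fun h => ⟨_, h, mul_inv_cancel_left₀ hc z⟩⟩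

theorem scale_scale (c d : F) (V : Submodule (ZMod p) F) : scale c (scale d V) = scale (c * d) V := by
  rw [scale, scale, scale, ← Submodule.map_comp]
  congr 1
  ext x
  simp

theorem scale_one (V : Submodule (ZMod p) F) : scale 1 V = V := by
  ext z; simp [mem_scale]

theorem scale_sup (c : F) (V W : Submodule (ZMod p) F) : scale c (V ⊔ W) = scale c V ⊔ scale c W :=
  Submodule.map_sup ..

theorem scale_inf {c : F} (hc : c ≠ 0) (V W : Submodule (ZMod p) F) :
    scale c (V ⊓ W) = scale c V ⊓ scale c W :=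
  Submodule.map_inf _ (mul_right_injective₀ hc)

/-- Failure of distributivity for some pair of translates, when the subgroup is small. -/
theorem small_case {V : Submodule (ZMod p) F} (h0 : V ≠ ⊥)
    (hsmall : Nat.card ↥V * Nat.card ↥V ≤ Nat.card F) :
    ∃ l μ : F, l ≠ 0 ∧ μ ≠ 0 ∧
      ¬ V ⊓ (scale l V ⊔ scale μ V) ≤ V ⊓ scale l V ⊔ V ⊓ scale μ V := by
  classical
  haveI := Fintype.ofFinite F
  obtain ⟨x, hx, hx0⟩ := (Submodule.ne_bot_iff V).mp h0
  -- a scalar which is not a ratio of two elements of `V`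
  obtain ⟨R, hR⟩ : ∃ R : Finset F, R = ((Finset.univ.filter fun v => v ∈ V ∧ v ≠ 0) ×ˢ
      (Finset.univ.filter fun v => v ∈ V ∧ v ≠ 0)).image fun z => z.1 / z.2 := ⟨_, rfl⟩
  have hc : (Finset.univ.filter fun v => v ∈ V ∧ v ≠ 0).card + 1 ≤ Nat.card ↥V := by
    have e : Nat.card ↥V = (Finset.univ.filter fun v => v ∈ V).card := by
      rw [Nat.card_eq_fintype_card, Fintype.card_subtype]
    rw [e, ← Finset.card_insert_of_notMem (s := Finset.univ.filter fun v => v ∈ V ∧ v ≠ 0) (a := 0) (by simp)]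
    refine Finset.card_le_card fun v => ?_
    simp only [Finset.mem_insert, Finset.mem_filter, Finset.mem_univ, true_and]
    rintro (rfl | ⟨h, -⟩)
    exacts [V.zero_mem, h]
  obtain ⟨l, hl⟩ : ∃ l, l ∉ insert 0 R := by
    by_contra hall
    push Not at hall
    have h1 := Finset.card_le_card (fun a (_ : a ∈ (Finset.univ : Finset F)) => hall a)
    rw [Finset.card_univ, ← Nat.card_eq_fintype_card] at h1
    have h2 := h1.trans (Finset.card_insert_le _ _)
    have h3 : R.card ≤ (Finset.univ.filter fun v => v ∈ V ∧ v ≠ 0).card *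
        (Finset.univ.filter fun v => v ∈ V ∧ v ≠ 0).card := by
      rw [hR, ← Finset.card_product]; exact Finset.card_image_le
    have h4 : 1 ≤ (Finset.univ.filter fun v => v ∈ V ∧ v ≠ 0).card :=
      Finset.card_pos.mpr ⟨x, by simp [hx, hx0]⟩
    nlinarith
  rw [Finset.mem_insert, not_or] at hl
  have hdis : ∀ v ∈ V, v ≠ 0 → l * v ∉ V := fun v hv hv0 hlv => hl.2 (by
    rw [hR, Finset.mem_image]
    refine ⟨(l * v, v), ?_, mul_div_cancel_right₀ l hv0⟩
    simp [hv, hv0, hlv, mul_ne_zero hl.1 hv0])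
  obtain ⟨z, hz⟩ : ∃ z, z = x + l * x := ⟨_, rfl⟩
  have hzV : z ∉ V := fun h => hdis x hx hx0 (by simpa [hz] using sub_mem h hx)
  have hz0 : z ≠ 0 := fun h => hzV (h ▸ V.zero_mem)
  -- some translate contains `x + l x` without containing `x`
  obtain ⟨μ, hμ0, hμz, hμx⟩ : ∃ μ : F, μ ≠ 0 ∧ z ∈ scale μ V ∧ x ∉ scale μ V := by
    by_contra hne
    push Not at hne
    obtain ⟨f, hf⟩ : ∃ f : F → Finset F, ∀ w, f w = Finset.univ.filter fun μ => μ ≠ 0 ∧ w ∈ scale μ V :=
      ⟨_, fun w => rfl⟩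
    have hcard : ∀ w : F, w ≠ 0 → (f w).card = (Finset.univ.filter fun v => v ∈ V ∧ v ≠ 0).card := by
      intro w hw
      refine Finset.card_bij' (fun μ _ => μ⁻¹ * w) (fun v _ => w / v) ?_ ?_ ?_ ?_
      · intro μ hμ
        rw [hf, Finset.mem_filter] at hμ
        simp [(mem_scale_iff hμ.2.1).mp hμ.2.2, hμ.2.1, hw]
      · intro v hv
        rw [Finset.mem_filter] at hv
        rw [hf, Finset.mem_filter]
        refine ⟨Finset.mem_univ _, div_ne_zero hw hv.2.2, (mem_scale_iff (div_ne_zero hw hv.2.2)).mpr ?_⟩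
        rw [inv_div, div_mul_cancel₀ v hw]; exact hv.2.1
      · intro μ hμ
        field_simp
      · intro v hv
        field_simp
    have heq : f z = f x := Finset.eq_of_subset_of_card_le (fun μ hμ => by
      rw [hf, Finset.mem_filter] at hμ ⊢
      exact ⟨Finset.mem_univ _, hμ.2.1, hne μ hμ.2.1 hμ.2.2⟩) (by rw [hcard z hz0, hcard x hx0])
    have h1 : (1 : F) ∈ f x := by simp [hf, scale_one, hx]
    rw [← heq, hf, Finset.mem_filter, scale_one] at h1
    exact hzV h1.2.2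
  refine ⟨l, μ, hl.1, hμ0, fun hle => hμx ?_⟩
  have hmem : x ∈ V ⊓ scale l V ⊔ V ⊓ scale μ V := hle ⟨hx, by
    rw [show x = l * (-x) + z by rw [hz]; ring]
    exact Submodule.add_mem_sup (mem_scale.mpr ⟨-x, neg_mem hx, rfl⟩) hμz⟩
  obtain ⟨a, ⟨haV, hal⟩, b, ⟨-, hb⟩, hab⟩ := Submodule.mem_sup.mp hmem
  obtain ⟨v, hv, rfl⟩ := mem_scale.mp hal
  by_cases hv0 : v = 0
  · rw [hv0, mul_zero, zero_add] at hab
    exact hab ▸ hb
  · exact absurd haV (hdis v hv hv0)

/-- For every proper nontrivial subspace some pair of translates breaks distributivity. -/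
theorem exists_nondistrib_submodule {V : Submodule (ZMod p) F} (h0 : V ≠ ⊥) (h1 : V ≠ ⊤) :
    ∃ l μ : F, l ≠ 0 ∧ μ ≠ 0 ∧
      ¬ V ⊓ (scale l V ⊔ scale μ V) ≤ V ⊓ scale l V ⊔ V ⊓ scale μ V := by
  classical
  haveI : Module.Finite (ZMod p) F := Module.Finite.of_finite
  obtain ⟨φ, hφ⟩ : ∃ φ : F →ₗ[ZMod p] ZMod p, φ 1 = 1 :=
    Module.Projective.exists_dual_eq_one _ one_ne_zero
  obtain ⟨e, he⟩ : ∃ e : F ≃ₗ[ZMod p] Module.Dual (ZMod p) F, ∀ c x, e c x = φ (c * x) := by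
    obtain ⟨B, hB⟩ : ∃ B : F →ₗ[ZMod p] Module.Dual (ZMod p) F, ∀ c x, B c x = φ (c * x) :=
      ⟨LinearMap.compr₂ (LinearMap.mul (ZMod p) F) φ, fun c x => rfl⟩
    have hinj : Function.Injective B := (injective_iff_map_eq_zero B).mpr fun c hc => by
      by_contra hc0
      have := LinearMap.congr_fun hc c⁻¹
      rw [hB, mul_inv_cancel₀ hc0, hφ, LinearMap.zero_apply] at this
      exact one_ne_zero this
    exact ⟨LinearEquiv.ofBijective B ⟨hinj, (LinearMap.injective_iff_surjective_of_finrank_eq_finrank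
      (Subspace.dual_finrank_eq).symm).mp hinj⟩, hB⟩
  obtain ⟨perp, hperp⟩ : ∃ perp : Submodule (ZMod p) F → Submodule (ZMod p) F,
      ∀ X, perp X = X.dualAnnihilator.comap e.toLinearMap := ⟨_, fun X => rfl⟩
  have hsup : ∀ X Y, perp (X ⊔ Y) = perp X ⊓ perp Y := fun X Y => by
    rw [hperp, hperp, hperp, Submodule.dualAnnihilator_sup_eq, Submodule.comap_inf]
  have hinf : ∀ X Y, perp (X ⊓ Y) = perp X ⊔ perp Y := fun X Y => by
    rw [hperp, hperp, hperp, Subspace.dualAnnihilator_inf_eq,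
      Submodule.comap_equiv_eq_map_symm, Submodule.comap_equiv_eq_map_symm,
      Submodule.comap_equiv_eq_map_symm, Submodule.map_sup]
  have hanti : ∀ {X Y}, X ≤ Y → perp Y ≤ perp X := fun {X Y} h => by
    rw [hperp, hperp]; exact Submodule.comap_mono (Submodule.dualAnnihilator_anti h)
  have hmemp : ∀ X c, c ∈ perp X ↔ ∀ v ∈ X, φ (c * v) = 0 := fun X c => by
    rw [hperp, Submodule.mem_comap, Submodule.mem_dualAnnihilator]
    simp only [LinearEquiv.coe_coe, he]
  have hscale : ∀ (c : F), c ≠ 0 → ∀ X, perp (scale c X) = scale c⁻¹ (perp X) := fun c hc X => by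
    ext z
    rw [mem_scale_iff (inv_ne_zero hc), inv_inv, hmemp, hmemp]
    constructor
    · intro h v hv
      rw [mul_assoc, mul_left_comm]
      exact h _ (mem_scale.mpr ⟨v, hv, rfl⟩)
    · intro h w hw
      obtain ⟨v, hv, rfl⟩ := mem_scale.mp hw
      rw [← mul_assoc, mul_comm z]
      exact h v hv
  obtain ⟨A, hA⟩ : ∃ A, A = perp V := ⟨_, rfl⟩
  have hrank : Module.finrank (ZMod p) ↥V + Module.finrank (ZMod p) ↥A =
      Module.finrank (ZMod p) F := by
    rw [hA, hperp, Submodule.comap_equiv_eq_map_symm, LinearEquiv.finrank_map_eq,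
      Subspace.finrank_add_finrank_dualAnnihilator_eq]
  by_cases hsmall : Nat.card ↥V * Nat.card ↥V ≤ Nat.card F
  · exact small_case h0 hsmall
  have hA0 : A ≠ ⊥ := fun e' => h1 (Submodule.eq_top_of_finrank_eq (by
    rw [e', finrank_bot, add_zero] at hrank; exact hrank))
  have hAs : Nat.card ↥A * Nat.card ↥A ≤ Nat.card F := by
    have hc := fun X : Submodule (ZMod p) F => Module.natCard_eq_pow_finrank (K := ZMod p) (V := ↥X)
    rw [hc, ← pow_add, Module.natCard_eq_pow_finrank (K := ZMod p) (V := F), Nat.card_zmod] at hsmall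
    rw [hc, ← pow_add, Module.natCard_eq_pow_finrank (K := ZMod p) (V := F), Nat.card_zmod]
    refine Nat.pow_le_pow_right (Fact.out : p.Prime).pos ?_
    by_contra hgt
    exact hsmall (Nat.pow_le_pow_right (Fact.out : p.Prime).pos (by omega))
  obtain ⟨l, μ, hl, hμ, hne⟩ := small_case hA0 hAs
  by_contra hall
  push Not at hall
  -- distributivity of every triple of translates of `V`
  have hV : ∀ c d f : F, c ≠ 0 → d ≠ 0 → f ≠ 0 →
      scale c V ⊓ (scale d V ⊔ scale f V) ≤ scale c V ⊓ scale d V ⊔ scale c V ⊓ scale f V := by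
    intro c d f hc hd hf
    have := Submodule.map_mono (f := LinearMap.mulLeft (ZMod p) c)
      (hall (c⁻¹ * d) (c⁻¹ * f) (mul_ne_zero (inv_ne_zero hc) hd) (mul_ne_zero (inv_ne_zero hc) hf))
    change scale c _ ≤ scale c _ at this
    rwa [scale_inf hc, scale_sup, scale_sup, scale_inf hc, scale_inf hc, scale_scale, scale_scale,
      mul_inv_cancel_left₀ hc, mul_inv_cancel_left₀ hc] at this
  have h2 := hanti (hV l⁻¹ 1 μ⁻¹ (inv_ne_zero hl) one_ne_zero (inv_ne_zero hμ))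
  rw [hinf, hsup, hsup, hinf, hinf, scale_one, hscale _ (inv_ne_zero hl), hscale _ (inv_ne_zero hμ),
    inv_inv, inv_inv, ← hA] at h2
  refine hne fun a ha => ?_
  have h3 : a ∈ scale l A ⊔ A ⊓ scale μ A := h2 ⟨Submodule.mem_sup_right ha.1, ha.2⟩
  obtain ⟨u, hu, w, hw, huw⟩ := Submodule.mem_sup.mp h3
  refine Submodule.mem_sup.mpr ⟨u, ⟨?_, hu⟩, w, hw, huw⟩
  rw [eq_sub_of_add_eq huw]
  exact sub_mem ha.1 hw.1

/-- The failure of distributivity, with elements. -/
theorem exists_nondistrib {F : Type*} [Field F] [Finite F] {p : ℕ} [Fact p.Prime] [CharP F p]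
    (V : AddSubgroup F) (h0 : V ≠ ⊥) (h1 : V ≠ ⊤) :
    ∃ l μ x : F, l ≠ 0 ∧ μ ≠ 0 ∧ x ∈ V ∧ (∃ a ∈ V, ∃ b ∈ V, x = l * a + μ * b) ∧
      ∀ a ∈ V, ∀ b ∈ V, l * a ∈ V → x - l * a ≠ μ * b := by
  letI := ZMod.algebra F p
  obtain ⟨W, hW⟩ : ∃ W : Submodule (ZMod p) F, ∀ z, z ∈ W ↔ z ∈ V :=
    ⟨AddSubgroup.toZModSubmodule p V, fun z => Iff.rfl⟩
  obtain ⟨l, μ, hl, hμ, hne⟩ := exists_nondistrib_submodule (V := W)
    (fun e => h0 (AddSubgroup.ext fun z => by rw [← hW, e, Submodule.mem_bot, AddSubgroup.mem_bot]))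
    (fun e => h1 (AddSubgroup.ext fun z => by rw [← hW, e]; simp))
  obtain ⟨x, ⟨hxV, hxs⟩, hxn⟩ := SetLike.not_le_iff_exists.mp hne
  obtain ⟨u, hu, w, hw, huw⟩ := Submodule.mem_sup.mp hxs
  obtain ⟨a, ha, rfl⟩ := mem_scale.mp hu
  obtain ⟨b, hb, rfl⟩ := mem_scale.mp hw
  refine ⟨l, μ, x, hl, hμ, (hW x).mp hxV, ⟨a, (hW a).mp ha, b, (hW b).mp hb, huw.symm⟩, ?_⟩
  intro a' ha' b' hb' hla he
  refine hxn (Submodule.mem_sup.mpr ⟨l * a', ⟨(hW _).mpr hla, mem_scale.mpr ⟨a', (hW _).mpr ha', rfl⟩⟩,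
    x - l * a', ⟨sub_mem hxV ((hW _).mpr hla), ?_⟩, add_sub_cancel _ _⟩)
  rw [he]
  exact mem_scale.mpr ⟨b', (hW _).mpr hb', rfl⟩

end Cfsg.Lib.Binary
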