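import Cfsg.Agent.Lib.Binary.Basic
import Cfsg.Agent.Lib.Dickson.TraceClass

/-!
# Binary coset actions of `PSL(2, q)`: elementary algebra in `SL(2, q)`
-/

set_option autoImplicit false
set_option linter.unusedSectionVars false

namespace Cfsg.Lib.Binary

open Matrix

/-- Pulling back along a surjection does not change binarity. -/
theorem isBin_comap_iff {G G' : Type*} [Group G] [Group G'] {φ : G' →* G} (hφ : Function.Surjective φ)
    {H : Subgroup G} : IsBin (H.comap φ) ↔ IsBin H := by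
  have key : ∀ g a b : G', Sends (H.comap φ) g a b ↔ Sends H (φ g) (φ a) (φ b) := fun g a b => by
    simp only [Sends, Subgroup.mem_comap, map_mul, map_inv]
  constructor
  · intro hb n a b hn hp
    choose a' ha using fun i => hφ (a i)
    choose b' hb' using fun i => hφ (b i)
    obtain ⟨g, hg⟩ := hb n a' b' hn fun i j hij => by
      obtain ⟨g, h1, h2⟩ := hp i j hij
      obtain ⟨g, rfl⟩ := hφ g
      exact ⟨g, (key _ _ _).mpr (by rwa [ha, hb']), (key _ _ _).mpr (by rwa [ha, hb'])⟩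
    exact ⟨φ g, fun i => by have := (key _ _ _).mp (hg i); rwa [ha, hb'] at this⟩
  · intro hb n a b hn hp
    obtain ⟨g, hg⟩ := hb n (fun i => φ (a i)) (fun i => φ (b i)) hn fun i j hij => by
      obtain ⟨g, h1, h2⟩ := hp i j hij
      exact ⟨φ g, (key _ _ _).mp h1, (key _ _ _).mp h2⟩
    obtain ⟨g, rfl⟩ := hφ g
    exact ⟨g, fun i => (key _ _ _).mpr (hg i)⟩

/-- The triangle criterion for the action of `W` on the cosets of `D`. -/
def TriIn {G : Type*} [Group G] (W D : Subgroup G) : Prop :=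
  ∀ α ∈ W, ∀ β ∈ W, ∀ γ ∈ W, ∀ x y, α⁻¹ * x * α ∈ D → β⁻¹ * y * β ∈ D → γ⁻¹ * (x⁻¹ * y) * γ ∈ D →
    ∃ h, α⁻¹ * h * α ∈ D ∧ β⁻¹ * h * β ∈ D ∧ γ⁻¹ * (h⁻¹ * x) * γ ∈ D

theorem IsBin.triIn_top {G : Type*} [Group G] {H : Subgroup G} (hb : IsBin H) : TriIn ⊤ H :=
  fun _ _ _ _ _ _ _ _ hx hy hz => hb.tri hx hy hz

theorem IsBin.triIn_suborbit {G : Type*} [Group G] {H : Subgroup G} (hb : IsBin H) (g : G) :
    TriIn H (H ⊓ H.comap (MulAut.conj g⁻¹).toMonoidHom) := by
  intro α hα β hβ γ hγ x y hx hy hz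
  obtain ⟨D, hD⟩ : ∃ D, D = H ⊓ H.comap (MulAut.conj g⁻¹).toMonoidHom := ⟨_, rfl⟩
  rw [← hD] at hx hy hz ⊢
  have hle : D ≤ H := hD ▸ inf_le_left
  have hxH : x ∈ H := by
    have := mul_mem (mul_mem hα (hle hx)) (inv_mem hα)
    rwa [show α * (α⁻¹ * x * α) * α⁻¹ = x by group] at this
  have hyH : y ∈ H := by
    have := mul_mem (mul_mem hβ (hle hy)) (inv_mem hβ)
    rwa [show β * (β⁻¹ * y * β) * β⁻¹ = y by group] at this
  have hmem : ∀ u : ↥H, u ∈ (H.comap (MulAut.conj g⁻¹).toMonoidHom).subgroupOf H ↔ (u : G) ∈ D := fun u => by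
    rw [hD, Subgroup.mem_inf, Subgroup.mem_subgroupOf]
    exact ⟨fun h => ⟨u.2, h⟩, fun h => h.2⟩
  obtain ⟨h, h1, h2, h3⟩ := (hb.suborbit g).tri (α := ⟨α, hα⟩) (β := ⟨β, hβ⟩) (γ := ⟨γ, hγ⟩)
    (x := ⟨x, hxH⟩) (y := ⟨y, hyH⟩) ((hmem _).mpr (by simpa using hx)) ((hmem _).mpr (by simpa using hy))
    ((hmem _).mpr (by simpa using hz))
  rw [hmem] at h1 h2 h3
  exact ⟨(h : G), by simpa using h1, by simpa using h2, by simpa using h3⟩

variable {F : Type*} [Field F] [Fintype F]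

local notation "SL2" => Matrix.SpecialLinearGroup (Fin 2) F
local notation "PSL2" => Matrix.ProjectiveSpecialLinearGroup (Fin 2) F
local notation "M2" => Matrix (Fin 2) (Fin 2) F

/-- The trace. -/
def tr (g : SL2) : F := g.1 0 0 + g.1 1 1

/-- The element with given entries. -/
def mk2 (a b c d : F) (h : a * d - b * c = 1) : SL2 := ⟨!![a, b; c, d], by rw [Matrix.det_fin_two_of, h]⟩

/-- A diagonal element. -/
def dM (a : F) (ha : a ≠ 0) : SL2 := mk2 a 0 0 a⁻¹ (by rw [mul_inv_cancel₀ ha]; ring)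

/-- An upper transvection. -/
def uM (v : F) : SL2 := mk2 1 v 0 1 (by ring)

/-- A lower transvection. -/
def lM (v : F) : SL2 := mk2 1 0 v 1 (by ring)

/-- The Weyl element. -/
def wM : SL2 := mk2 (0 : F) 1 (-1) 0 (by ring)

theorem sl_ext {g h : SL2} (h00 : g.1 0 0 = h.1 0 0) (h01 : g.1 0 1 = h.1 0 1)
    (h10 : g.1 1 0 = h.1 1 0) (h11 : g.1 1 1 = h.1 1 1) : g = h := by
  apply Subtype.ext
  ext i j
  fin_cases i <;> fin_cases j
  exacts [h00, h01, h10, h11]

theorem mul_00 (g h : SL2) : (g * h).1 0 0 = g.1 0 0 * h.1 0 0 + g.1 0 1 * h.1 1 0 := by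
  simp [Matrix.mul_apply, Fin.sum_univ_two]

theorem mul_01 (g h : SL2) : (g * h).1 0 1 = g.1 0 0 * h.1 0 1 + g.1 0 1 * h.1 1 1 := by
  simp [Matrix.mul_apply, Fin.sum_univ_two]

theorem mul_10 (g h : SL2) : (g * h).1 1 0 = g.1 1 0 * h.1 0 0 + g.1 1 1 * h.1 1 0 := by
  simp [Matrix.mul_apply, Fin.sum_univ_two]

theorem mul_11 (g h : SL2) : (g * h).1 1 1 = g.1 1 0 * h.1 0 1 + g.1 1 1 * h.1 1 1 := by
  simp [Matrix.mul_apply, Fin.sum_univ_two]

theorem det_eq (g : SL2) : g.1 0 0 * g.1 1 1 - g.1 0 1 * g.1 1 0 = 1 := by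
  rw [← Matrix.det_fin_two]; exact g.2

theorem inv_00 (g : SL2) : (g⁻¹).1 0 0 = g.1 1 1 := by
  simp [Matrix.SpecialLinearGroup.coe_inv, Matrix.adjugate_fin_two]

theorem inv_01 (g : SL2) : (g⁻¹).1 0 1 = -g.1 0 1 := by
  simp [Matrix.SpecialLinearGroup.coe_inv, Matrix.adjugate_fin_two]

theorem inv_10 (g : SL2) : (g⁻¹).1 1 0 = -g.1 1 0 := by
  simp [Matrix.SpecialLinearGroup.coe_inv, Matrix.adjugate_fin_two]

theorem inv_11 (g : SL2) : (g⁻¹).1 1 1 = g.1 0 0 := by
  simp [Matrix.SpecialLinearGroup.coe_inv, Matrix.adjugate_fin_two]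

theorem neg_apply (g : SL2) (i j : Fin 2) : (-g).1 i j = -(g.1 i j) := by
  simp

theorem tr_mul_comm (g h : SL2) : tr (g * h) = tr (h * g) := by
  simp only [tr, mul_00, mul_11]; ring

theorem tr_conj (P g : SL2) : tr (P * g * P⁻¹) = tr g := by
  rw [tr_mul_comm, ← mul_assoc, inv_mul_cancel, one_mul]

theorem tr_conj' (P g : SL2) : tr (P⁻¹ * g * P) = tr g := by
  rw [tr_mul_comm, ← mul_assoc, mul_inv_cancel, one_mul]

theorem tr_inv (g : SL2) : tr g⁻¹ = tr g := by
  simp only [tr, inv_00, inv_11]; ring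

theorem tr_neg (g : SL2) : tr (-g) = -tr g := by
  simp only [tr, neg_apply]; ring

theorem tr_sq (g : SL2) : tr (g * g) = tr g ^ 2 - 2 := by
  simp only [tr, mul_00, mul_11]
  linear_combination (-2) * det_eq g

theorem tr_one : tr (1 : SL2) = 2 := by
  simp [tr, one_add_one_eq_two]

/-- `tr (g h) + tr (g⁻¹ h) = tr g * tr h`. -/
theorem tr_add (g h : SL2) : tr (g * h) + tr (g⁻¹ * h) = tr g * tr h := by
  simp only [tr, mul_00, mul_11, inv_00, inv_01, inv_10, inv_11]; ring

/-- Scalar elements are `± 1`. -/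
theorem eq_one_or_neg_one {g : SL2} (h01 : g.1 0 1 = 0) (h10 : g.1 1 0 = 0) (h11 : g.1 1 1 = g.1 0 0) :
    g = 1 ∨ g = -1 := by
  have hd := det_eq g
  rw [h01, h11] at hd
  rcases mul_self_eq_one_iff.mp (by linear_combination hd : g.1 0 0 * g.1 0 0 = 1) with h | h
  · left; apply sl_ext <;> simp [h01, h10, h11, h]
  · right; apply sl_ext <;> simp [h01, h10, h11, h]

/-- Central elements of `SL(2, F)`. -/
def Cen (g : SL2) : Prop := g = 1 ∨ g = -1

theorem cen_iff {g : SL2} : Cen g ↔ g.1 0 1 = 0 ∧ g.1 1 0 = 0 ∧ g.1 1 1 = g.1 0 0 := by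
  refine ⟨?_, fun ⟨a, b, c⟩ => eq_one_or_neg_one a b c⟩
  rintro (rfl | rfl) <;> simp

theorem mem_center_iff_cen {g : SL2} : g ∈ Subgroup.center SL2 ↔ Cen g := by
  constructor
  · intro h
    exact cen_iff.mpr (Cfsg.Lib.Dickson.mem_center_sl h)
  · rintro (rfl | rfl)
    · exact one_mem _
    · exact Subgroup.mem_center_iff.mpr fun h => by simp

theorem mk_eq_one_iff {g : SL2} : (QuotientGroup.mk g : PSL2) = 1 ↔ Cen g := by
  rw [QuotientGroup.eq_one_iff, mem_center_iff_cen]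

theorem mk_eq_mk_iff {g h : SL2} : (QuotientGroup.mk g : PSL2) = QuotientGroup.mk h ↔ h = g ∨ h = -g := by
  rw [QuotientGroup.eq, mem_center_iff_cen]
  constructor
  · rintro (e | e)
    · left; rw [← mul_inv_cancel_left g h, e, mul_one]
    · right; rw [← mul_inv_cancel_left g h, e, mul_neg, mul_one]
  · rintro (rfl | rfl)
    · left; rw [inv_mul_cancel]
    · right; rw [mul_neg, inv_mul_cancel]

/-- The elements commuting with a noncentral element. -/
theorem exists_coeff {g h : SL2} (hg : ¬ Cen g) (hc : h * g = g * h) :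
    ∃ α β : F, h.1 0 0 = α + β * g.1 0 0 ∧ h.1 0 1 = β * g.1 0 1 ∧ h.1 1 0 = β * g.1 1 0 ∧
      h.1 1 1 = α + β * g.1 1 1 := by
  have e00 := congrArg (fun m : SL2 => m.1 0 0) hc
  have e01 := congrArg (fun m : SL2 => m.1 0 1) hc
  have e10 := congrArg (fun m : SL2 => m.1 1 0) hc
  simp only [mul_00, mul_01, mul_10] at e00 e01 e10
  by_cases hb : g.1 0 1 = 0
  · by_cases hc0 : g.1 1 0 = 0
    · have hne : g.1 0 0 - g.1 1 1 ≠ 0 := fun e => hg (cen_iff.mpr ⟨hb, hc0, (sub_eq_zero.mp e).symm⟩)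
      refine ⟨h.1 0 0 - (h.1 0 0 - h.1 1 1) / (g.1 0 0 - g.1 1 1) * g.1 0 0,
        (h.1 0 0 - h.1 1 1) / (g.1 0 0 - g.1 1 1), by ring, ?_, ?_, ?_⟩
      · rw [hb, mul_zero]
        refine mul_right_cancel₀ hne ?_
        rw [hb] at e01
        linear_combination -e01
      · rw [hc0, mul_zero]
        refine mul_right_cancel₀ hne ?_
        rw [hc0] at e10
        linear_combination e10
      · field_simp
        ring
    · refine ⟨h.1 0 0 - h.1 1 0 / g.1 1 0 * g.1 0 0, h.1 1 0 / g.1 1 0, by ring, ?_, ?_, ?_⟩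
      · field_simp
        linear_combination e00
      · field_simp
      · field_simp
        linear_combination e10
  · refine ⟨h.1 0 0 - h.1 0 1 / g.1 0 1 * g.1 0 0, h.1 0 1 / g.1 0 1, by ring, ?_, ?_, ?_⟩
    · field_simp
    · field_simp
      linear_combination -e00
    · field_simp
      linear_combination -e01

/-- Two elements commuting with the same noncentral element commute. -/
theorem comm_of_comm {g a b : SL2} (hg : ¬ Cen g) (ha : a * g = g * a) (hb : b * g = g * b) :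
    a * b = b * a := by
  obtain ⟨α, β, a00, a01, a10, a11⟩ := exists_coeff hg ha
  obtain ⟨γ, δ, b00, b01, b10, b11⟩ := exists_coeff hg hb
  apply sl_ext <;>
    simp only [mul_00, mul_01, mul_10, mul_11, a00, a01, a10, a11, b00, b01, b10, b11] <;> ring

/-- An element commuting with two noncommuting ones is central. -/
theorem cen_of_comm {g a b : SL2} (ha : g * a = a * g) (hb : g * b = b * g) (hab : a * b ≠ b * a) :
    Cen g := by
  by_contra hg
  exact hab (comm_of_comm hg ha.symm hb.symm)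

/-- A noncentral element whose square is not central has nonzero trace. -/
theorem sq_cen_of_tr {g : SL2} (h : tr g = 0) : g * g = -1 := by
  apply sl_ext <;> simp only [mul_00, mul_01, mul_10, mul_11, neg_apply] <;> simp only [tr] at h
  · simp; linear_combination g.1 0 0 * h - det_eq g
  · simp; linear_combination g.1 0 1 * h
  · simp; linear_combination g.1 1 0 * h
  · simp; linear_combination g.1 1 1 * h - det_eq g

theorem tr_eq_zero_of_sq {g : SL2} (hg : ¬ Cen g) (h : Cen (g * g)) : tr g = 0 := by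
  obtain ⟨h01, h10, h11⟩ := cen_iff.mp h
  simp only [mul_00, mul_01, mul_10, mul_11] at h01 h10 h11
  unfold tr
  by_contra ht
  refine hg (cen_iff.mpr ⟨?_, ?_, ?_⟩)
  · exact (mul_eq_zero.mp (by linear_combination h01 : g.1 0 1 * (g.1 0 0 + g.1 1 1) = 0)).resolve_right ht
  · exact (mul_eq_zero.mp (by linear_combination h10 : g.1 1 0 * (g.1 0 0 + g.1 1 1) = 0)).resolve_right ht
  · exact sub_eq_zero.mp ((mul_eq_zero.mp
      (by linear_combination h11 : (g.1 1 1 - g.1 0 0) * (g.1 0 0 + g.1 1 1) = 0)).resolve_right ht)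

theorem tr_ne_zero {g : SL2} (h : ¬ Cen (g * g)) : tr g ≠ 0 := fun e => h (Or.inr (sq_cen_of_tr e))

theorem not_cen_of_sq {g : SL2} (h : ¬ Cen (g * g)) : ¬ Cen g := by
  rintro (rfl | rfl) <;> exact h (Or.inl (by simp))

/-- An element inverting an element with noncentral square has trace zero. -/
theorem tr_eq_zero_of_inverts {g x : SL2} (hx : ¬ Cen (x * x)) (h : g * x * g⁻¹ = x⁻¹) : tr g = 0 := by
  have hx1 : g * x = x * g → False := fun hc => by
    rw [hc, mul_inv_cancel_right] at h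
    exact hx (Or.inl (mul_eq_one_iff_eq_inv.mpr h))
  by_cases hc : Cen (g * g)
  · refine tr_eq_zero_of_sq (fun hg => hx1 ?_) hc
    rcases hg with rfl | rfl <;> simp
  · refine (hx1 (comm_of_comm hc (mul_assoc g g g).symm ?_)).elim
    calc x * (g * g) = (g * (g * x * g⁻¹) * g⁻¹) * (g * g) := by
          rw [h, show g * x⁻¹ * g⁻¹ = (g * x * g⁻¹)⁻¹ by group, h, inv_inv]
      _ = g * g * x := by group

/-- Commuting in `PSL₂`: exactly or up to sign. -/
theorem anti_tr {g x : SL2} (h : g * x = -(x * g)) : tr x = -tr x := by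
  conv_lhs => rw [← tr_conj g x, h, neg_mul, mul_inv_cancel_right, tr_neg]

/-- Elements with the same trace are conjugate unless the trace is `± 2` in odd characteristic. -/
theorem exists_conj {g h : SL2} (hg : ¬ Cen g) (hh : ¬ Cen h) (he : tr g = tr h)
    (ht : tr g ^ 2 ≠ 4 ∨ (2 : F) = 0) : ∃ P : SL2, P * g * P⁻¹ = h := by
  by_cases h4 : tr g ^ 2 ≠ 4
  · exact Cfsg.Lib.Dickson.exists_conj_of_trace he h4
  have h2 : (2 : F) = 0 := ht.resolve_left h4
  push Not at h4
  have t0 : tr g = 0 := pow_eq_zero_iff two_ne_zero |>.mp (by linear_combination h4 + 2 * h2)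
  haveI : CharP F 2 := CharTwo.of_one_ne_zero_of_two_eq_zero one_ne_zero h2
  have key : ∀ k : SL2, ¬ Cen k → tr k = 0 → ∃ P : SL2, (P * k * P⁻¹).1 = !![0, -(1 : F)⁻¹; 1, k.1 0 0 + k.1 1 1] := by
    intro k hk hk0
    have h11 : k.1 1 1 = k.1 0 0 := by
      have : k.1 1 1 = -k.1 0 0 := by simp only [tr] at hk0; linear_combination hk0
      rw [this]; linear_combination (-k.1 0 0) * h2
    by_cases hb : k.1 1 0 = 0
    · have hc : k.1 0 1 ≠ 0 := fun e => hk (cen_iff.mpr ⟨e, hb, h11⟩)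
      obtain ⟨r, hr⟩ := (frobeniusEquiv F 2).surjective (k.1 0 1)⁻¹
      refine Cfsg.Lib.Dickson.exists_conj_corner k (v0 := 0) (v1 := r) one_ne_zero ?_
      rw [show r ^ 2 = (k.1 0 1)⁻¹ from hr]
      linear_combination -(mul_inv_cancel₀ hc) - h2
    · obtain ⟨r, hr⟩ := (frobeniusEquiv F 2).surjective (k.1 1 0)⁻¹
      refine Cfsg.Lib.Dickson.exists_conj_corner k (v0 := r) (v1 := 0) one_ne_zero ?_
      rw [show r ^ 2 = (k.1 1 0)⁻¹ from hr, mul_inv_cancel₀ hb]
      ring
  obtain ⟨P, hP⟩ := key g hg t0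
  obtain ⟨R, hR⟩ := key h hh (he ▸ t0)
  refine ⟨R⁻¹ * P, ?_⟩
  have : P * g * P⁻¹ = R * h * R⁻¹ := Subtype.ext (by
    rw [hP, hR, show g.1 0 0 + g.1 1 1 = h.1 0 0 + h.1 1 1 from he])
  calc R⁻¹ * P * g * (R⁻¹ * P)⁻¹ = R⁻¹ * (P * g * P⁻¹) * R := by group
    _ = h := by rw [this]; group

/-- A conic `a² + tab + b² = 1` has many points. -/
theorem card_conic (t : F) :
    ∃ P : Finset (F × F), Fintype.card F - 2 ≤ P.card ∧ ∀ p ∈ P, p.1 ^ 2 + t * p.1 * p.2 + p.2 ^ 2 = 1 := by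
  classical
  by_cases hdeg : t = 0 ∧ (2 : F) = 0
  · refine ⟨Finset.univ.image fun b => (1 + b, b), ?_, ?_⟩
    · rw [Finset.card_image_of_injective _ fun a b e => congrArg Prod.snd e, Finset.card_univ]
      omega
    · intro p hp
      obtain ⟨b, -, rfl⟩ := Finset.mem_image.mp hp
      rw [hdeg.1]
      linear_combination (b + b ^ 2) * hdeg.2
  let M : Finset F := Finset.univ.filter fun m => 1 + t * m + m ^ 2 ≠ 0
  have hroots : Fintype.card F - 2 ≤ M.card := by
    have hc : M.card + ((Finset.univ : Finset F).filter fun m => ¬ (1 + t * m + m ^ 2 ≠ 0)).card =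
        Fintype.card F := by
      rw [Finset.card_filter_add_card_filter_not, Finset.card_univ]
    have h2 : ((Finset.univ : Finset F).filter fun m => ¬ (1 + t * m + m ^ 2 ≠ 0)).card ≤ 2 := by
      by_contra hgt
      rw [not_le] at hgt
      obtain ⟨a, b, c, ha, hb, hc', hab, hac, hbc⟩ := Finset.two_lt_card_iff.mp hgt
      simp only [Finset.mem_filter, Finset.mem_univ, true_and, not_not] at ha hb hc'
      have e1 : a + b + t = 0 := by
        have : (a - b) * (a + b + t) = 0 := by linear_combination ha - hb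
        exact (mul_eq_zero.mp this).resolve_left (sub_ne_zero.mpr hab)
      have e2 : a + c + t = 0 := by
        have : (a - c) * (a + c + t) = 0 := by linear_combination ha - hc'
        exact (mul_eq_zero.mp this).resolve_left (sub_ne_zero.mpr hac)
      exact hbc (by linear_combination e1 - e2)
    omega
  let f : F → F × F := fun m =>
    ((m ^ 2 - 1) / (1 + t * m + m ^ 2), m * (-2 - t * m) / (1 + t * m + m ^ 2))
  refine ⟨M.image f, ?_, ?_⟩
  · refine hroots.trans (Finset.card_image_of_injOn ?_).ge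
    intro m hm m' hm' he
    have hQ : 1 + t * m + m ^ 2 ≠ 0 := (Finset.mem_filter.mp hm).2
    have hQ' : 1 + t * m' + m' ^ 2 ≠ 0 := (Finset.mem_filter.mp hm').2
    have hb : ∀ n : F, 1 + t * n + n ^ 2 ≠ 0 → (f n).2 = n * ((f n).1 - 1) := fun n hn => by
      simp only [f, div_eq_mul_inv]
      linear_combination (-n) * mul_inv_cancel₀ hn
    have e1 := congrArg Prod.fst he
    have e2 := congrArg Prod.snd he
    rw [hb m hQ, hb m' hQ', ← e1] at e2
    by_cases h1 : (f m).1 = 1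
    · have h1' : (f m').1 = 1 := e1 ▸ h1
      simp only [f] at h1 h1'
      rw [div_eq_one_iff_eq hQ] at h1
      rw [div_eq_one_iff_eq hQ'] at h1'
      have ht : t ≠ 0 := fun e => hdeg ⟨e, by rw [e] at h1; linear_combination -h1⟩
      exact mul_left_cancel₀ ht (by linear_combination h1' - h1)
    · exact mul_right_cancel₀ (sub_ne_zero.mpr h1) e2
  · intro p hp
    obtain ⟨m, hm, rfl⟩ := Finset.mem_image.mp hp
    have hQ : 1 + t * m + m ^ 2 ≠ 0 := (Finset.mem_filter.mp hm).2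
    simp only [f, div_eq_mul_inv]
    linear_combination ((1 + t * m + m ^ 2) * (1 + t * m + m ^ 2)⁻¹ + 1) * mul_inv_cancel₀ hQ

/-- The centraliser of any noncentral element is large. -/
theorem card_comm {g : SL2} (hg : ¬ Cen g) :
    ∃ C : Finset SL2, Fintype.card F - 2 ≤ C.card ∧ ∀ c ∈ C, c * g = g * c := by
  classical
  obtain ⟨P, hP, hconic⟩ := card_conic (tr g)
  let φ : {p // p ∈ P} → SL2 := fun p =>
    mk2 (p.1.1 + p.1.2 * g.1 0 0) (p.1.2 * g.1 0 1) (p.1.2 * g.1 1 0) (p.1.1 + p.1.2 * g.1 1 1) (by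
      have h1 := hconic p.1 p.2
      rw [tr] at h1
      linear_combination h1 + p.1.2 ^ 2 * det_eq g)
  have hinj : Function.Injective φ := by
    rintro ⟨⟨a, b⟩, _⟩ ⟨⟨a', b'⟩, _⟩ he
    have e00 := congrArg (fun z : SL2 => z.1 0 0) he
    have e01 := congrArg (fun z : SL2 => z.1 0 1) he
    have e10 := congrArg (fun z : SL2 => z.1 1 0) he
    have e11 := congrArg (fun z : SL2 => z.1 1 1) he
    simp [φ, mk2] at e00 e01 e10 e11
    have hb : b = b' := by
      by_contra hne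
      refine hg (cen_iff.mpr ⟨e01.resolve_left hne, e10.resolve_left hne, ?_⟩)
      exact mul_left_cancel₀ (sub_ne_zero.mpr hne) (by linear_combination e11 - e00)
    subst hb
    simp at e00
    subst e00
    rfl
  refine ⟨Finset.univ.image φ, ?_, fun c hc => ?_⟩
  · rwa [Finset.card_image_of_injective _ hinj, Finset.card_univ, Fintype.card_coe]
  · obtain ⟨m, -, rfl⟩ := Finset.mem_image.mp hc
    apply sl_ext <;> simp only [mul_00, mul_01, mul_10, mul_11] <;> simp [φ, mk2] <;> ring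

/-- Conjugation avoiding a prescribed finite set. -/
theorem exists_avoid {y u : SL2} (hy : ¬ Cen y) (hyu : y * u ≠ u * y) (T : Finset SL2)
    (hT : 2 * T.card + 2 < Fintype.card F) : ∃ c : SL2, c * y = y * c ∧ c * u * c⁻¹ ∉ T := by
  classical
  obtain ⟨C, hC, hcomm⟩ := card_comm hy
  by_contra hne
  push Not at hne
  have h1 : C.card ≤ 2 * (C.image fun c => c * u * c⁻¹).card := by
    refine Finset.card_le_mul_card_image C 2 fun v hv => ?_
    obtain ⟨c₀, hc₀, rfl⟩ := Finset.mem_image.mp hv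
    refine (Finset.card_le_card (t := {c₀, -c₀}) fun c hc => ?_).trans Finset.card_le_two
    rw [Finset.mem_filter] at hc
    have hcy : (c₀⁻¹ * c) * y = y * (c₀⁻¹ * c) := by
      rw [mul_assoc, hcomm c hc.1, ← mul_assoc, ← mul_assoc,
        show c₀⁻¹ * y = y * c₀⁻¹ from (Commute.inv_left (hcomm c₀ hc₀)).eq]
    have hcu : (c₀⁻¹ * c) * u = u * (c₀⁻¹ * c) := by
      calc c₀⁻¹ * c * u = c₀⁻¹ * (c * u * c⁻¹) * c := by group
        _ = u * (c₀⁻¹ * c) := by rw [hc.2]; group
    rcases cen_of_comm hcy hcu hyu with e | e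
    · rw [inv_mul_eq_one] at e; simp [e]
    · rw [inv_mul_eq_iff_eq_mul] at e; simp [e]
  have h2 : (C.image fun c => c * u * c⁻¹).card ≤ T.card := Finset.card_le_card fun v hv => by
    obtain ⟨c, hc, rfl⟩ := Finset.mem_image.mp hv
    exact hne c (hcomm c hc)
  omega

end Cfsg.Lib.Binary
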