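import Cfsg.Agent.Lib.Binary.PSLSplit
import Cfsg.Agent.Lib.Binary.FieldLemma

/-!
# Stabilisers inside a Borel subgroup
-/

set_option autoImplicit false
set_option linter.unusedSectionVars false

namespace Cfsg.Lib.Binary

open Matrix

variable {F : Type*} [Field F] [Fintype F]

local notation "SL2" => Matrix.SpecialLinearGroup (Fin 2) F

theorem uM_mul (a b : F) : uM a * uM b = uM (a + b) := by
  apply sl_ext <;> simp only [mul_00, mul_01, mul_10, mul_11] <;> simp [uM, mk2, add_comm]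

theorem uM_inv (a : F) : (uM a)⁻¹ = uM (-a) := by
  apply sl_ext <;> simp only [inv_00, inv_01, inv_10, inv_11] <;> simp [uM, mk2]

theorem uM_zero : (uM 0 : SL2) = 1 := by
  apply sl_ext <;> simp [uM, mk2]

theorem uM_eq_iff {a b : F} : (uM a : SL2) = uM b ↔ a = b :=
  ⟨fun e => by simpa [uM, mk2] using congrArg (fun m : SL2 => m.1 0 1) e, fun e => e ▸ rfl⟩

theorem dM_conj_uM (a : F) (ha : a ≠ 0) (v : F) : dM a ha * uM v * (dM a ha)⁻¹ = uM (a ^ 2 * v) := by
  apply sl_ext <;> simp only [mul_00, mul_01, mul_10, mul_11, inv_00, inv_01, inv_10, inv_11] <;>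
    simp [uM, dM, mk2, ha]
  ring

theorem dM_inv_conj_uM (a : F) (ha : a ≠ 0) (v : F) :
    (dM a ha)⁻¹ * uM v * dM a ha = uM ((a ^ 2)⁻¹ * v) := by
  apply sl_ext <;> simp only [mul_00, mul_01, mul_10, mul_11, inv_00, inv_01, inv_10, inv_11] <;>
    simp [uM, dM, mk2, ha]
  field_simp

/-- A stabiliser in a Borel subgroup with a large diagonal part. -/
theorem borel_split {H : Subgroup SL2} (hb : IsBin H) (hB : ∀ u ∈ H, u.1 1 0 = 0) {v : F} (hv : v ≠ 0)
    (hvH : uM v ∈ H) {e : SL2} (he : e ∈ H) (he4 : e.1 0 0 ^ 4 ≠ 1) : False := by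
  obtain ⟨a, ha⟩ : ∃ a, a = e.1 0 0 := ⟨_, rfl⟩
  rw [← ha] at he4
  have he10 := hB e he
  have hd := det_eq e
  rw [he10, mul_zero, sub_zero, ← ha] at hd
  have ha0 : a ≠ 0 := fun h => by rw [h, zero_mul] at hd; exact zero_ne_one hd
  have h11 : e.1 1 1 = a⁻¹ := eq_inv_of_mul_eq_one_right hd
  have hs2 : a ^ 2 - 1 ≠ 0 := fun h => he4 (by linear_combination (a ^ 2 + 1) * h)
  obtain ⟨P, hP⟩ : ∃ P : SL2, P = uM (e.1 0 1 * a / (a ^ 2 - 1)) := ⟨_, rfl⟩
  obtain ⟨K, hK⟩ : ∃ K, K = H.map (MulAut.conj P).toMonoidHom := ⟨_, rfl⟩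
  have hKB : ∀ u ∈ K, u.1 1 0 = 0 := fun u hu => by
    rw [hK, mem_map_conj] at hu
    have := hB _ hu
    rw [hP] at this
    simp only [mul_10, mul_11, mul_00, mul_01, inv_10, inv_11, inv_00, inv_01] at this
    simpa [uM, mk2] using this
  have hdK : dM a ha0 ∈ K := by
    rw [hK, mem_map_conj]
    have : P⁻¹ * dM a ha0 * P = e := by
      rw [hP]
      apply sl_ext <;> simp only [mul_00, mul_01, mul_10, mul_11, inv_00, inv_01, inv_10, inv_11] <;>
        simp [uM, dM, mk2, he10, h11, ← ha]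
      field_simp
      ring
    rwa [this]
  have huK : ∀ w, uM w ∈ H → uM w ∈ K := fun w hw => by
    rw [hK, mem_map_conj, hP, uM_inv, uM_mul, uM_mul]
    ring_nf
    exact hw
  refine split_false ((hK ▸ isBin_conj hb P : IsBin K).triIn_suborbit wM) (fun u hu => ?_) ha0 he4 ?_ hv
    (huK v hvH) ?_
  · obtain ⟨h1, h2⟩ := Subgroup.mem_inf.mp hu
    left
    refine ⟨?_, hKB u h1⟩
    have := hKB _ (Subgroup.mem_comap.mp h2)
    simp only [MulEquiv.coe_toMonoidHom, MulAut.conj_apply, inv_inv] at this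
    simp only [mul_10, mul_11, mul_00, mul_01, inv_10, inv_11, inv_00, inv_01] at this
    simpa [wM, mk2] using this
  · refine Subgroup.mem_inf.mpr ⟨hdK, Subgroup.mem_comap.mpr ?_⟩
    simp only [MulEquiv.coe_toMonoidHom, MulAut.conj_apply, inv_inv]
    have : wM⁻¹ * dM a ha0 * wM = (dM a ha0)⁻¹ := by
      apply sl_ext <;> simp only [mul_00, mul_01, mul_10, mul_11, inv_00, inv_01, inv_10, inv_11] <;>
        simp [wM, dM, mk2]
    rw [this]
    exact inv_mem hdK
  · rw [show (a ^ 2 + 1) * v = a ^ 2 * v + v by ring, ← uM_mul, ← dM_conj_uM a ha0]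
    exact mul_mem (mul_mem (mul_mem hdK (huK v hvH)) (inv_mem hdK)) (huK v hvH)

/-- The parameters of the transvections in a subgroup. -/
def transGroup (H : Subgroup SL2) : AddSubgroup F where
  carrier := {v | uM v ∈ H}
  add_mem' := fun {a b} ha hb => by
    show uM (a + b) ∈ H
    rw [← uM_mul]; exact mul_mem ha hb
  zero_mem' := by
    show uM (0 : F) ∈ H
    rw [uM_zero]; exact one_mem _
  neg_mem' := fun {a} ha => by
    show uM (-a) ∈ H
    rw [← uM_inv]; exact inv_mem ha

theorem mem_transGroup {H : Subgroup SL2} {v : F} : v ∈ transGroup H ↔ uM v ∈ H := Iff.rfl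

theorem eq_uM_of_char_two [CharP F 2] {u : SL2} (h10 : u.1 1 0 = 0) (h4 : u.1 0 0 ^ 4 = 1) :
    u = uM (u.1 0 1) := by
  have h2 : (2 : F) = 0 := CharTwo.two_eq_zero
  have h1 : u.1 0 0 = 1 := by
    refine sub_eq_zero.mp (pow_eq_zero_iff (by norm_num : 4 ≠ 0) |>.mp ?_)
    linear_combination h4 + (3 * u.1 0 0 ^ 2 - 2 * u.1 0 0 ^ 3 - 2 * u.1 0 0 + 1) * h2
  have hd := det_eq u
  rw [h10, mul_zero, sub_zero, h1, one_mul] at hd
  apply sl_ext <;> simp [uM, mk2, h1, h10, hd]

/-- In characteristic two the stabiliser must be the whole unipotent group. -/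
theorem borel_even [CharP F 2] {H : Subgroup SL2} (hb : IsBin H) (hB : ∀ u ∈ H, u.1 1 0 = 0)
    (h4 : ∀ u ∈ H, u.1 0 0 ^ 4 = 1) {v : F} (hv : v ≠ 0) (hvH : uM v ∈ H) : ∀ w : F, uM w ∈ H := by
  haveI : Fact (Nat.Prime 2) := ⟨Nat.prime_two⟩
  by_contra hall
  push Not at hall
  obtain ⟨w, hw⟩ := hall
  obtain ⟨l, μ, x0, hl, hμ, hx0, ⟨a, ha, b, hb', hxab⟩, hne⟩ :=
    exists_nondistrib (p := 2) (transGroup H) (fun e => hv (by
      have : v ∈ transGroup H := hvH
      rwa [e, AddSubgroup.mem_bot] at this))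
      (fun e => hw (show w ∈ transGroup H by rw [e]; exact AddSubgroup.mem_top w))
  obtain ⟨e, he⟩ := (frobeniusEquiv F 2).surjective l
  obtain ⟨f, hf⟩ := (frobeniusEquiv F 2).surjective μ
  have he' : e ^ 2 = l := he
  have hf' : f ^ 2 = μ := hf
  have he0 : e ≠ 0 := fun h => hl (by rw [← he', h]; ring)
  have hf0 : f ≠ 0 := fun h => hμ (by rw [← hf', h]; ring)
  obtain ⟨h, h1, h2, h3⟩ := hb.tri (α := 1) (β := dM e he0) (γ := dM f hf0) (x := uM x0) (y := uM (l * a))
    (by simpa using (show uM x0 ∈ H from hx0))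
    (by rw [dM_inv_conj_uM, he', inv_mul_cancel_left₀ hl]; exact ha)
    (by
      rw [uM_inv, uM_mul, show -x0 + l * a = -(μ * b) by rw [hxab]; ring, CharTwo.neg_eq, dM_inv_conj_uM, hf',
        inv_mul_cancel_left₀ hμ]
      exact hb')
  rw [inv_one, one_mul, mul_one] at h1
  have hh := eq_uM_of_char_two (hB h h1) (h4 h h1)
  rw [hh] at h1 h2 h3
  rw [dM_inv_conj_uM, he'] at h2
  rw [uM_inv, uM_mul, dM_inv_conj_uM, hf'] at h3
  refine hne _ h2 _ h3 ?_ ?_
  · rw [mul_inv_cancel_left₀ hl]; exact h1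
  · rw [mul_inv_cancel_left₀ hl, mul_inv_cancel_left₀ hμ]; ring

/-- In odd characteristic such a stabiliser is never binary. -/
theorem borel_odd (h2 : (2 : F) ≠ 0) {H : Subgroup SL2} (hb : IsBin H) (hc : -1 ∈ H)
    (hB : ∀ u ∈ H, u.1 1 0 = 0) (h4 : ∀ u ∈ H, u.1 0 0 ^ 4 = 1) {v : F} (hv : v ≠ 0) (hvH : uM v ∈ H) :
    False := by
  have h4' : (4 : F) ≠ 0 := by rw [show (4 : F) = 2 * 2 by norm_num]; exact mul_ne_zero h2 h2
  have hwM : ∀ u : SL2, wM⁻¹ * u * wM = mk2 (u.1 1 1) (-u.1 1 0) (-u.1 0 1) (u.1 0 0)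
      (by linear_combination det_eq u) := fun u => by
    apply sl_ext <;> simp only [mul_00, mul_01, mul_10, mul_11, inv_00, inv_01, inv_10, inv_11] <;> simp [wM, mk2]
  by_cases hQ : ∃ w : F, ∀ (s : F) (hs : s ≠ 0), s ^ 2 = -1 → (uM w)⁻¹ * dM s hs * uM w ∉ H
  · obtain ⟨w, hw⟩ := hQ
    have h2v : (2 : F) / v ≠ 0 := div_ne_zero h2 hv
    obtain ⟨h, h1, h2', h3⟩ := hb.tri (α := uM w) (β := wM * dM (2 / v) h2v) (γ := lM (-(2 / v)))
      (x := uM v) (y := lM (4 / v))
      (by rw [uM_inv, uM_mul, uM_mul]; ring_nf; exact hvH)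
      (by
        have : (wM * dM (2 / v) h2v)⁻¹ * lM (4 / v) * (wM * dM (2 / v) h2v) = uM (-v) := by
          apply sl_ext <;> simp only [mul_00, mul_01, mul_10, mul_11, inv_00, inv_01, inv_10, inv_11] <;>
            simp [wM, dM, lM, uM, mk2] <;> field_simp <;> ring
        rw [this, ← uM_inv]; exact inv_mem hvH)
      (by
        have : (lM (-(2 / v)))⁻¹ * ((uM v)⁻¹ * lM (4 / v)) * lM (-(2 / v)) = -uM v := by
          apply sl_ext <;>
            simp only [neg_apply, mul_00, mul_01, mul_10, mul_11, inv_00, inv_01, inv_10, inv_11] <;>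
            simp [lM, uM, mk2] <;> field_simp <;> ring
        rw [this]; simpa using mul_mem hc hvH)
    have h10 : h.1 1 0 = 0 := by
      have := hB _ h1
      simp only [mul_10, mul_11, mul_00, mul_01, inv_10, inv_11, inv_00, inv_01] at this
      simpa [uM, mk2] using this
    have h01 : h.1 0 1 = 0 := by
      have := hB _ h2'
      rw [show (wM * dM (2 / v) h2v)⁻¹ * h * (wM * dM (2 / v) h2v) =
        (dM (2 / v) h2v)⁻¹ * (wM⁻¹ * h * wM) * dM (2 / v) h2v by group, hwM] at this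
      simp only [mul_10, mul_11, mul_00, mul_01, inv_10, inv_11, inv_00, inv_01] at this
      simpa [dM, mk2, hv, h2] using this
    have hd := det_eq h
    rw [h10, mul_zero, sub_zero] at hd
    have hs0 : h.1 0 0 ≠ 0 := fun e => by rw [e, zero_mul] at hd; exact zero_ne_one hd
    have hh : h = dM (h.1 0 0) hs0 := by
      apply sl_ext <;> simp [dM, mk2, h10, h01, eq_inv_of_mul_eq_one_right hd]
    have hs4 := h4 _ h1
    simp only [mul_10, mul_11, mul_00, mul_01, inv_10, inv_11, inv_00, inv_01] at hs4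
    simp [uM, mk2, h10, h01] at hs4
    rcases mul_eq_zero.mp (by linear_combination hs4 : (h.1 0 0 ^ 2 + 1) * (h.1 0 0 ^ 2 - 1) = 0) with e | e
    · exact hw _ hs0 (by linear_combination e) (hh ▸ h1)
    · have h11 : h.1 1 1 = h.1 0 0 := mul_left_cancel₀ hs0 (by linear_combination hd - e)
      have := hB _ h3
      simp only [mul_10, mul_11, mul_00, mul_01, inv_10, inv_11, inv_00, inv_01] at this
      simp [uM, lM, mk2, h10, h01, h11] at this
      field_simp at this
      refine mul_ne_zero h4' hs0 ?_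
      first | linear_combination (norm := ring1) this | linear_combination (norm := ring1) -this
  push Not at hQ
  obtain ⟨i, hi0, hi, hiH⟩ := hQ 0
  rw [uM_zero, inv_one, one_mul, mul_one] at hiH
  have hfull : ∀ w : F, uM w ∈ H := by
    intro w
    obtain ⟨s, hs0, hs, hsH⟩ := hQ (-w / 2)
    have hk := mul_mem hsH (inv_mem hiH)
    rcases mul_self_eq_mul_self_iff.mp (by linear_combination hs - hi : s * s = i * i) with e | e <;> subst e
    · have : (uM (-w / 2))⁻¹ * dM s hs0 * uM (-w / 2) * (dM s hs0)⁻¹ = uM w := by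
        apply sl_ext <;> simp only [mul_00, mul_01, mul_10, mul_11, inv_00, inv_01, inv_10, inv_11] <;>
          simp [uM, dM, mk2, hs0]
        field_simp
        linear_combination (-w) * hs
      rwa [this] at hk
    · have : (uM (-w / 2))⁻¹ * dM (-i) hs0 * uM (-w / 2) * (dM i hi0)⁻¹ = -uM w := by
        apply sl_ext <;> simp only [neg_apply, mul_00, mul_01, mul_10, mul_11, inv_00, inv_01, inv_10, inv_11] <;>
          simp [uM, dM, mk2, hi0, inv_neg]
        field_simp
        linear_combination w * hi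
      rw [this] at hk
      simpa using mul_mem hc hk
  have hy0 : (i : F) * (-i) - 0 * (1 + i) = 1 := by linear_combination -hi
  obtain ⟨h, h1, h2', h3⟩ := hb.tri (α := 1) (β := wM) (γ := lM 1) (x := uM (i - 1)) (y := mk2 i 0 (1 + i) (-i) hy0)
    (by simpa using hfull (i - 1))
    (by
      have : wM⁻¹ * mk2 i 0 (1 + i) (-i) hy0 * wM = -(dM i hi0 * uM ((1 + i) / i)) := by
        rw [hwM]
        apply sl_ext <;> simp only [neg_apply, mul_00, mul_01, mul_10, mul_11] <;> simp [uM, dM, mk2] <;>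
          field_simp <;> (first | ring1 | linear_combination (norm := ring1) hi | linear_combination (norm := ring1) -hi)
      rw [this]; simpa using mul_mem hc (mul_mem hiH (hfull ((1 + i) / i))))
    (by
      have : (lM 1)⁻¹ * ((uM (i - 1))⁻¹ * mk2 i 0 (1 + i) (-i) hy0) * lM 1 = uM (-1 - i) := by
        apply sl_ext <;> simp only [mul_00, mul_01, mul_10, mul_11, inv_00, inv_01, inv_10, inv_11] <;>
          simp [uM, lM, mk2] <;> (first | ring1 | linear_combination (norm := ring1) hi | linear_combination (norm := ring1) -hi)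
      rw [this]; exact hfull _)
  rw [inv_one, one_mul, mul_one] at h1
  have h10 := hB h h1
  have h01 : h.1 0 1 = 0 := by
    have := hB _ h2'
    rw [hwM] at this
    simpa [mk2] using this
  have hd := det_eq h
  rw [h10, mul_zero, sub_zero] at hd
  have hs0 : h.1 0 0 ≠ 0 := fun e => by rw [e, zero_mul] at hd; exact zero_ne_one hd
  have := hB _ h3
  simp only [mul_10, mul_11, mul_00, mul_01, inv_10, inv_11, inv_00, inv_01] at this
  simp [uM, lM, mk2, h10, h01, eq_inv_of_mul_eq_one_right hd] at this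
  field_simp at this
  have hs2 : h.1 0 0 ^ 2 = i := by first | linear_combination (norm := ring1) this | linear_combination (norm := ring1) -this
  have hs4 := h4 h h1
  rw [show h.1 0 0 ^ 4 = (h.1 0 0 ^ 2) ^ 2 by ring, hs2, hi] at hs4
  exact h2 (by linear_combination -hs4)

end Cfsg.Lib.Binary
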