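import Cfsg.Agent.Lib.Binary.PSLTorus

/-!
# Dihedral stabilisers give nonbinary actions
-/

set_option autoImplicit false
set_option linter.unusedSectionVars false

namespace Cfsg.Lib.Binary

open Matrix

variable {F : Type*} [Field F] [Fintype F]

local notation "SL2" => Matrix.SpecialLinearGroup (Fin 2) F

theorem not_comm_of_inverts {g x : SL2} (hx : ¬ Cen (x * x)) (h : g * x * g⁻¹ = x⁻¹) : g * x ≠ x * g := fun e => by
  rw [e, mul_inv_cancel_right] at h
  exact hx (Or.inl (mul_eq_one_iff_eq_inv.mpr h))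

theorem not_cen_of_inverts {g x : SL2} (hx : ¬ Cen (x * x)) (h : g * x * g⁻¹ = x⁻¹) : ¬ Cen g := fun hg =>
  not_comm_of_inverts hx h (comm_of_cen hg)

theorem inverts_sq {g x : SL2} (h : g * x * g⁻¹ = x⁻¹) : g * (x * x) * g⁻¹ = (x * x)⁻¹ := by
  calc g * (x * x) * g⁻¹ = g * x * g⁻¹ * (g * x * g⁻¹) := by group
    _ = (x * x)⁻¹ := by rw [h]; group

/-- An element of trace zero which anticommutes with two anticommuting ones. -/
theorem eq_prod_of_anti (h2 : (2 : F) ≠ 0) {y u v : SL2} (hu : tr u = 0)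
    (hyv : y * v = -(v * y)) (huv : u * v = -(v * u)) (huy : u * y = -(y * u)) :
    u = y * v ∨ u = -(y * v) := by
  refine eq_of_comm_tr_zero h2 (tr_mul_zero_of_anti h2 hyv) hu ?_
  rw [← mul_assoc, huy, neg_mul, mul_assoc, huv, mul_neg, neg_neg, mul_assoc]

theorem tr_coeff {g h : SL2} (hg : ¬ Cen g) (hc : h * g = g * h) :
    ∃ α β : F, tr h = 2 * α + β * tr g ∧ (∀ x : SL2, tr (h * x) = α * tr x + β * tr (g * x)) ∧
      (α = 0 → β = 0 → False) := by
  obtain ⟨α, β, e00, e01, e10, e11⟩ := exists_coeff hg hc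
  refine ⟨α, β, ?_, fun x => ?_, fun ha hb => ?_⟩
  · simp only [tr, e00, e11]; ring
  · simp only [tr, mul_00, mul_11, e00, e01, e10, e11]; ring
  · have := det_eq h
    simp [e00, e01, e10, e11, ha, hb] at this

/-- An element cannot invert one rotation and commute with another one. -/
theorem no_mixed {h x y : SL2} (hy : tr y ≠ 0) (hyc : ¬ Cen y) (hx : ¬ Cen (x * x))
    (hinv : h * x * h⁻¹ = x⁻¹) (hcy : h * y = y * h) (hxy : tr (y * x) = tr y * tr x) : False := by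
  obtain ⟨α, β, e1, e2, hne⟩ := tr_coeff hyc hcy
  have h0 := tr_eq_zero_of_inverts hx hinv
  have hx0 := tr_eq_zero_of_inverts (g := h * x) hx (by
    rw [show h * x * x * (h * x)⁻¹ = h * x * h⁻¹ by group, hinv])
  rw [h0] at e1
  rw [e2 x, hxy] at hx0
  have h1 : α + β * tr y = 0 :=
    (mul_eq_zero.mp (by linear_combination hx0 : tr x * (α + β * tr y) = 0)).resolve_left (tr_ne_zero hx)
  have hb : β = 0 := (mul_eq_zero.mp (by linear_combination e1 + 2 * h1 : β * tr y = 0)).resolve_right hy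
  rw [hb, zero_mul, add_zero] at h1
  exact hne h1 hb

/-- Dihedral stabilisers with rotations of order at least three. -/
theorem dihedral_case {H : Subgroup SL2} (hb : IsBin H) (hc : -1 ∈ H) {g s : SL2} (hgH : g ∈ H)
    (hsH : s ∈ H) (ht0 : tr g ≠ 0) (ht4 : tr g ^ 2 ≠ 4) (hsg : s * g * s⁻¹ = g⁻¹)
    (hN : ∀ u ∈ H, u * g * u⁻¹ = g ∨ u * g * u⁻¹ = g⁻¹)
    (hcase : ((2 : F) = 0 ∧ tr g ≠ 1) ∨ ((2 : F) ≠ 0 ∧ tr g ^ 2 ≠ 2))
    (hbig : ∀ ι ∈ H, tr ι = 0 → ι * g = g * ι → (2 : F) ≠ 0 → 11 ≤ Fintype.card F) : False := by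
  classical
  have hg := not_cen_of_tr ht4
  have hg2 := not_cen_sq ht0 ht4
  have hst : tr s = 0 := tr_eq_zero_of_inverts hg2 hsg
  have hs : ¬ Cen s := not_cen_of_inverts hg2 hsg
  -- the triangle
  obtain ⟨g₂, x, y, hg₂H, hg₂0, hg₂4, hx, hy, hxy0, hxy, hN₂⟩ : ∃ g₂ x y : SL2, g₂ ∈ H ∧ tr g₂ ≠ 0 ∧
      tr g₂ ^ 2 ≠ 4 ∧ tr x = tr g ∧ tr y = tr g₂ ∧ tr (x⁻¹ * y) = 0 ∧ x * y ≠ y * x ∧
      (∀ u : SL2, u * g * u⁻¹ = g ∨ u * g * u⁻¹ = g⁻¹ → u * g₂ * u⁻¹ = g₂ ∨ u * g₂ * u⁻¹ = g₂⁻¹) := by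
    rcases hcase with ⟨h2, ht1⟩ | ⟨h2, ht2⟩
    · haveI : CharP F 2 := CharTwo.of_one_ne_zero_of_two_eq_zero one_ne_zero h2
      have htr : tr (g * g) = tr g ^ 2 := by rw [tr_sq, h2, sub_zero]
      obtain ⟨σ, hσ⟩ : ∃ σ, σ = tr g ^ 2 := ⟨_, rfl⟩
      obtain ⟨x, hx⟩ : ∃ x, x = mk2 (tr g) 1 1 0 (by linear_combination -h2) := ⟨_, rfl⟩
      refine ⟨g * g, x, x * uM (tr g + σ), mul_mem hgH hgH, by rw [htr]; exact pow_ne_zero 2 ht0, ?_,
        by rw [hx]; simp [tr, mk2], ?_, ?_, fun e => ?_, ?_⟩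
      · rw [htr, show (4 : F) = 2 * 2 by norm_num, h2, mul_zero]
        exact pow_ne_zero 2 (pow_ne_zero 2 ht0)
      · rw [htr, ← hσ, hx]
        simp only [tr, mul_00, mul_11]
        simp [uM, mk2]
        linear_combination (g.1 0 0 + g.1 1 1) * h2
      · rw [inv_mul_cancel_left]
        simp [tr, uM, mk2]
        exact CharTwo.add_self_eq_zero _
      · have e00 := congrArg (fun m : SL2 => m.1 0 0) e
        rw [hx] at e00
        simp only [mul_00, mul_01, mul_10, mul_11] at e00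
        simp [uM, mk2] at e00
        have e0 : tr g + σ = 0 := e00.resolve_left ht0
        refine ht1 (mul_left_cancel₀ ht0 ?_)
        rw [hσ] at e0
        linear_combination e0 - tr g * h2
      · rintro u (e | e)
        · left
          calc u * (g * g) * u⁻¹ = u * g * u⁻¹ * (u * g * u⁻¹) := by group
            _ = g * g := by rw [e]
        · exact Or.inr (inverts_sq e)
    · obtain ⟨x, y, hx, hy, hz, hc'⟩ := exists_pair h2 (r := 0) ht4
      refine ⟨g, x, y, hgH, ht0, ht4, hx, hy, hz, fun e => ?_, fun u hu => hu⟩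
      rcases hc' e with h | h
      · exact h2 h.symm
      · exact ht2 (by linear_combination -h)
  have hxc : ¬ Cen x := not_cen_of_tr (hx ▸ ht4)
  have hyc : ¬ Cen y := not_cen_of_tr (hy ▸ hg₂4)
  obtain ⟨z, hz⟩ : ∃ z, z = x⁻¹ * y := ⟨_, rfl⟩
  rw [← hz] at hxy0
  have hzc : ¬ Cen z := fun h => hxy (by
    calc x * y = x * (x * z) := by rw [hz, mul_inv_cancel_left]
      _ = x * (z * x) := by rw [comm_of_cen h]
      _ = y * x := by rw [hz]; group)
  obtain ⟨α, hα⟩ := exists_conj hg hxc hx.symm (Or.inl ht4)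
  obtain ⟨β, hβ⟩ := exists_conj (not_cen_of_tr hg₂4) hyc hy.symm (Or.inl hg₂4)
  obtain ⟨γ₀, hγ₀⟩ := exists_conj hs hzc (hst.trans hxy0.symm) (by
    by_cases h2 : (2 : F) = 0
    · exact Or.inr h2
    · exact Or.inl (by rw [hst]; intro e; exact h2 (mul_self_eq_zero.mp (by linear_combination -e))))
  -- a conjugate through `z` avoiding the exceptional elements
  obtain ⟨γ, hγ, hgood⟩ : ∃ γ : SL2, γ * s * γ⁻¹ = z ∧ ∀ h : SL2, h * x * h⁻¹ = x⁻¹ → h * y * h⁻¹ = y⁻¹ →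
      (2 : F) ≠ 0 → ∀ ι ∈ H, tr ι = 0 → ι * g = g * ι →
        γ⁻¹ * (h⁻¹ * x) * γ ≠ ι ∧ γ⁻¹ * (h⁻¹ * x * z) * γ ≠ ι := by
    by_cases hex : (2 : F) ≠ 0 ∧ (∃ ι ∈ H, tr ι = 0 ∧ ι * g = g * ι) ∧
        ∃ h : SL2, h * x * h⁻¹ = x⁻¹ ∧ h * y * h⁻¹ = y⁻¹
    swap
    · exact ⟨γ₀, hγ₀, fun h e1 e2 h2 ι hι t0 hcm => (hex ⟨h2, ⟨ι, hι, t0, hcm⟩, h, e1, e2⟩).elim⟩
    obtain ⟨h2, ⟨ι₀, hι₀, hι₀t, hι₀g⟩, h₀, h₀x, h₀y⟩ := hex
    have hus : z * (γ₀ * ι₀ * γ₀⁻¹) ≠ γ₀ * ι₀ * γ₀⁻¹ * z := by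
      rw [← hγ₀]
      intro e
      have hsι : s * ι₀ = ι₀ * s := by
        calc s * ι₀ = γ₀⁻¹ * (γ₀ * s * γ₀⁻¹ * (γ₀ * ι₀ * γ₀⁻¹)) * γ₀ := by group
          _ = ι₀ * s := by rw [e]; group
      refine not_comm_of_inverts hg2 hsg ?_
      exact comm_of_comm (not_cen_of_tr_zero h2 hι₀t) hsι hι₀g.symm
    obtain ⟨c, hc⟩ : ∃ c, c = h₀⁻¹ * x := ⟨_, rfl⟩
    obtain ⟨cc, hcc, hT⟩ := exists_avoid hzc hus {c, -c, c * z, -(c * z)} (by
      have := hbig ι₀ hι₀ hι₀t hι₀g h2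
      have := Finset.card_le_four (a := c) (b := -c) (c := c * z) (d := -(c * z))
      omega)
    simp only [Finset.mem_insert, Finset.mem_singleton, not_or] at hT
    refine ⟨cc * γ₀, ?_, fun h e1 e2 _ ι hι t0 hcm => ?_⟩
    · calc cc * γ₀ * s * (cc * γ₀)⁻¹ = cc * (γ₀ * s * γ₀⁻¹) * cc⁻¹ := by group
        _ = z := by rw [hγ₀, hcc, mul_inv_cancel_right]
    have hsign : h = h₀ ∨ h = -h₀ := by
      rcases cen_of_comm (comm_of_inverts h₀x e1) (comm_of_inverts h₀y e2) hxy with e | e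
      · left; rw [← mul_inv_cancel_left h₀ h, e, mul_one]
      · right; rw [← mul_inv_cancel_left h₀ h, e, mul_neg, mul_one]
    have hι' : ι = ι₀ ∨ ι = -ι₀ := eq_of_comm_tr_zero h2 hι₀t t0 (comm_of_comm hg hcm hι₀g)
    have hcs : h⁻¹ * x = c ∨ h⁻¹ * x = -c := by
      rcases hsign with rfl | rfl <;> simp [hc]
    have hback : ∀ w : SL2, (cc * γ₀)⁻¹ * w * (cc * γ₀) = ι → w = cc * (γ₀ * ι₀ * γ₀⁻¹) * cc⁻¹ ∨
        -w = cc * (γ₀ * ι₀ * γ₀⁻¹) * cc⁻¹ := fun w hw => by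
      have hw' : w = cc * γ₀ * ι * (cc * γ₀)⁻¹ := by rw [← hw]; group
      rcases hι' with e | e <;> rw [e] at hw'
      · left; rw [hw']; group
      · right; rw [hw', conj_neg, neg_neg]; group
    obtain ⟨t1, t2, t3, t4⟩ := hT
    constructor <;> intro he <;> rcases hback _ he with e | e <;> rcases hcs with e' | e' <;>
      rw [e'] at e <;> (try simp only [neg_mul, neg_neg] at e)
    exacts [t1 e.symm, t2 e.symm, t2 e.symm, t1 e.symm, t3 e.symm, t4 e.symm, t4 e.symm, t3 e.symm]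
  obtain ⟨h, h1, h2', h3⟩ := hb.tri (α := α) (β := β) (γ := γ) (x := x) (y := y)
    (by rw [← hα, show α⁻¹ * (α * g * α⁻¹) * α = g by group]; exact hgH)
    (by rw [← hβ, show β⁻¹ * (β * g₂ * β⁻¹) * β = g₂ by group]; exact hg₂H)
    (by rw [← hz, ← hγ, show γ⁻¹ * (γ * s * γ⁻¹) * γ = s by group]; exact hsH)
  have hx2 : ¬ Cen (x * x) := not_cen_sq (hx ▸ ht0) (hx ▸ ht4)
  have hy2 : ¬ Cen (y * y) := not_cen_sq (hy ▸ hg₂0) (hy ▸ hg₂4)
  have htyx : tr (y * x) = tr y * tr x := by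
    have := tr_add x y
    rw [← hz, hxy0, add_zero] at this
    rw [tr_mul_comm, this, mul_comm]
  have hxz : tr (x * z) = tr y := by rw [hz, mul_inv_cancel_left]
  have hA : h * x = x * h ∨ h * x * h⁻¹ = x⁻¹ := (hN _ h1).imp
    (fun e => comm_conj hα (mul_inv_eq_iff_eq_mul.mp e)) (inverts_conj hα)
  have hB : h * y = y * h ∨ h * y * h⁻¹ = y⁻¹ := (hN₂ _ (hN _ h2')).imp
    (fun e => comm_conj hβ (mul_inv_eq_iff_eq_mul.mp e)) (inverts_conj hβ)
  rcases hA with hA | hA <;> rcases hB with hB | hB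
  · -- `h` is central
    have hh := cen_of_comm hA hB hxy
    have hx' : γ⁻¹ * x * γ ∈ H := by
      rcases hh with rfl | rfl
      · simpa using h3
      · simpa [neg_mem_iff' hc] using h3
    rcases hN _ hx' with e | e
    · have h0 : tr (γ⁻¹ * x * γ * s) = 0 :=
        tr_eq_zero_of_inverts hg2 (inverts_mul hsg (mul_inv_eq_iff_eq_mul.mp e))
      rw [show γ⁻¹ * x * γ * s = γ⁻¹ * (x * (γ * s * γ⁻¹)) * γ by group, hγ, tr_conj', hxz, hy] at h0
      exact hg₂0 h0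
    · have h0 := tr_eq_zero_of_inverts hg2 e
      rw [tr_conj', hx] at h0
      exact ht0 h0
  · exact no_mixed (hx ▸ ht0) hxc hy2 hB hA (by rw [tr_mul_comm, htyx, mul_comm])
  · exact no_mixed (hy ▸ hg₂0) hyc hx2 hA hB htyx
  -- `h` inverts both
  have hh0 : tr h = 0 := tr_eq_zero_of_inverts hx2 hA
  obtain ⟨c, hcdef⟩ : ∃ c, c = h⁻¹ * x := ⟨_, rfl⟩
  rw [← hcdef] at h3
  have hct : tr c = 0 := by
    rw [hcdef]
    refine tr_eq_zero_of_inverts hx2 ?_
    rw [show h⁻¹ * x * x * (h⁻¹ * x)⁻¹ = h⁻¹ * x * h by group, inverts_inv hA]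
  have hcz : c * z = -(z * c) := by
    have e : c * z * c⁻¹ = z⁻¹ := by
      calc c * z * c⁻¹ = h⁻¹ * y * h * (h⁻¹ * x * h)⁻¹ := by rw [hcdef, hz]; group
        _ = z⁻¹ := by rw [inverts_inv hA, inverts_inv hB, hz]; group
    rw [mul_inv_eq_iff_eq_mul] at e
    rw [e, inv_eq_neg hxy0, neg_mul]
  obtain ⟨c', hc'⟩ : ∃ c', c' = γ⁻¹ * c * γ := ⟨_, rfl⟩
  rw [← hc'] at h3
  have hzs : γ⁻¹ * z * γ = s := by rw [← hγ]; group
  have hsame : ¬ (c = z ∨ c = -z) := by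
    intro e
    have hh : h = x * c⁻¹ := by rw [hcdef]; group
    refine hg₂0 ?_
    rw [← hy, ← hxz]
    rcases e with e | e <;> rw [e] at hh <;> rw [hh] at hh0
    · rw [inv_eq_neg hxy0, mul_neg, tr_neg, neg_eq_zero] at hh0; exact hh0
    · rw [inv_eq_neg (by rw [tr_neg, hxy0, neg_zero] : tr (-z) = 0), neg_neg] at hh0; exact hh0
  rcases hN _ h3 with e | e
  · by_cases hcen : Cen c'
    · -- only in characteristic two
      have h20 : (2 : F) = 0 := by
        by_contra h20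
        exact not_cen_of_tr_zero h20 (by rw [hc', tr_conj', hct]) hcen
      haveI : CharP F 2 := CharTwo.of_one_ne_zero_of_two_eq_zero one_ne_zero h20
      have hc1 : c = 1 ∨ c = -1 := by
        rcases hcen with e' | e' <;> rw [hc'] at e'
        · left; rw [← conj_eq_one_iff (a := γ⁻¹) (b := c), inv_inv, e']
        · right
          calc c = γ * (γ⁻¹ * c * γ) * γ⁻¹ := by group
            _ = -1 := by rw [e', conj_neg, mul_one, mul_inv_cancel]
      have hh : h = x * c⁻¹ := by rw [hcdef]; group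
      refine (hx ▸ ht0 : tr x ≠ 0) ?_
      rcases hc1 with e' | e' <;> rw [e'] at hh <;> rw [hh] at hh0
      · simpa using hh0
      · simpa [tr_neg] using hh0
    by_cases h2 : (2 : F) = 0
    · obtain ⟨a, b, e1, -, -⟩ := tr_coeff hg (mul_inv_eq_iff_eq_mul.mp e)
      obtain ⟨α', β', e00, e01, e10, e11⟩ := exists_coeff hg (mul_inv_eq_iff_eq_mul.mp e)
      have hb0 : β' = 0 := by
        refine (mul_eq_zero.mp ?_).resolve_right ht0
        have : tr c' = 0 := by rw [hc', tr_conj', hct]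
        simp only [tr, e00, e11] at this ⊢
        linear_combination this - α' * h2
      refine hcen (cen_iff.mpr ⟨?_, ?_, ?_⟩)
      · rw [e01, hb0, zero_mul]
      · rw [e10, hb0, zero_mul]
      · rw [e00, e11, hb0, zero_mul, zero_mul]
    exact (hgood h hA hB h2 c' h3 (by rw [hc', tr_conj', hct]) (mul_inv_eq_iff_eq_mul.mp e)).1
      (by rw [hc', hcdef])
  · have hι : c' * s ∈ H := mul_mem h3 hsH
    have hιg : c' * s * g = g * (c' * s) := by
      calc c' * s * g = c' * (s * g * s⁻¹) * s := by group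
        _ = (c' * g * c'⁻¹)⁻¹ * c' * s := by rw [hsg]; group
        _ = g * (c' * s) := by rw [e]; group
    have hιeq : c' * s = γ⁻¹ * (c * z) * γ := by rw [hc', ← hzs]; group
    have hι2 : (c * z) * (c * z) = -1 := by
      calc c * z * (c * z) = -(z * c) * (c * z) := by rw [hcz]
        _ = -(z * (c * c) * z) := by simp [mul_assoc]
        _ = -1 := by rw [sq_cen_of_tr hct]; simp [sq_cen_of_tr hxy0]
    by_cases hcen : Cen (c * z)
    · refine hsame ?_
      rcases hcen with e' | e'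
      · right
        rw [← mul_inv_cancel_right c z, e', one_mul, inv_eq_neg hxy0]
      · left
        rw [← mul_inv_cancel_right c z, e', neg_one_mul, inv_eq_neg hxy0, neg_neg]
    have hιt : tr (c * z) = 0 := tr_eq_zero_of_sq hcen (Or.inr hι2)
    by_cases h2 : (2 : F) = 0
    · obtain ⟨α', β', e00, e01, e10, e11⟩ := exists_coeff hg hιg
      have hb0 : β' = 0 := by
        refine (mul_eq_zero.mp ?_).resolve_right ht0
        have : tr (c' * s) = 0 := by rw [hιeq, tr_conj', hιt]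
        simp only [tr, e00, e11] at this ⊢
        linear_combination this - α' * h2
      refine hcen ?_
      have : Cen (c' * s) := cen_iff.mpr ⟨by rw [e01, hb0, zero_mul], by rw [e10, hb0, zero_mul],
        by rw [e00, e11, hb0, zero_mul, zero_mul]⟩
      rw [hιeq] at this
      rcases this with e' | e'
      · left
        calc c * z = γ * (γ⁻¹ * (c * z) * γ) * γ⁻¹ := by group
          _ = 1 := by rw [e']; group
      · right
        calc c * z = γ * (γ⁻¹ * (c * z) * γ) * γ⁻¹ := by group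
          _ = -1 := by rw [e', conj_neg]; group
    exact (hgood h hA hB h2 _ hι (by rw [hιeq, tr_conj', hιt]) hιg).2 (by rw [hιeq, hcdef])



/-- Small dihedral stabilisers inside a large torus normaliser. -/
theorem small_dihedral_case {H : Subgroup SL2} (hb : IsBin H) (hc : -1 ∈ H) {g s : SL2} (hgH : g ∈ H)
    (hsH : s ∈ H) (ht0 : tr g ≠ 0) (ht4 : tr g ^ 2 ≠ 4) (hsg : s * g * s⁻¹ = g⁻¹)
    (hN : ∀ u ∈ H, u * g * u⁻¹ = g ∨ u * g * u⁻¹ = g⁻¹) (R : Finset SL2)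
    (hR : ∀ u ∈ H, u * g = g * u → u ∈ R) (hRq : R.card + 2 < Fintype.card F)
    (hcase : ((2 : F) = 0 ∧ 6 < Fintype.card F) ∨ ((2 : F) ≠ 0 ∧ tr g ^ 2 = 2 ∧ 11 ≤ Fintype.card F)) :
    False := by
  classical
  have hg := not_cen_of_tr ht4
  have hg2 := not_cen_sq ht0 ht4
  have hst : tr s = 0 := tr_eq_zero_of_inverts hg2 hsg
  have hs : ¬ Cen s := not_cen_of_inverts hg2 hsg
  obtain ⟨C, hC, hcomm⟩ := card_comm hg
  obtain ⟨c, hcC, hcR⟩ : ∃ c ∈ C, c ∉ R := by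
    by_contra hall
    push Not at hall
    have := Finset.card_le_card hall
    omega
  have hcg : c * g = g * c := hcomm c hcC
  have hcH : c ∉ H := fun h => hcR (hR c h hcg)
  obtain ⟨y, hy⟩ : ∃ y, y = c * s := ⟨_, rfl⟩
  have hyH : y ∉ H := fun h => hcH (by
    have := mul_mem h (inv_mem hsH)
    rwa [hy, mul_inv_cancel_right] at this)
  have hyg : y * g * y⁻¹ = g⁻¹ := hy ▸ inverts_mul hsg hcg
  have hzg : (g⁻¹ * y) * g * (g⁻¹ * y)⁻¹ = g⁻¹ := inverts_mul hyg (by group)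
  have hgood : ∀ y : SL2, y * g * y⁻¹ = g⁻¹ → ∃ β : SL2, β * s * β⁻¹ = y ∧
      β * g * β⁻¹ * g ≠ g * (β * g * β⁻¹) ∧
      ((2 : F) ≠ 0 → β * (g * g) * β⁻¹ ≠ y * (g * g) ∧ β * (g * g) * β⁻¹ ≠ -(y * (g * g))) := by
    intro y hyg
    have hyt : tr y = 0 := tr_eq_zero_of_inverts hg2 hyg
    have hyc : ¬ Cen y := not_cen_of_inverts hg2 hyg
    obtain ⟨β₀, hβ₀⟩ := exists_conj hs hyc (hst.trans hyt.symm) (by
      by_cases h2 : (2 : F) = 0
      · exact Or.inr h2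
      · exact Or.inl (by rw [hst]; intro e; exact h2 (mul_self_eq_zero.mp (by linear_combination -e))))
    have hmove : ∀ u : SL2, s * u ≠ u * s → y * (β₀ * u * β₀⁻¹) ≠ β₀ * u * β₀⁻¹ * y := fun u hu e => hu (by
      rw [← hβ₀] at e
      calc s * u = β₀⁻¹ * (β₀ * s * β₀⁻¹ * (β₀ * u * β₀⁻¹)) * β₀ := by group
        _ = u * s := by rw [e]; group)
    have hfix : ∀ cc : SL2, cc * y = y * cc → cc * β₀ * s * (cc * β₀)⁻¹ = y := fun cc hcc => by
      calc cc * β₀ * s * (cc * β₀)⁻¹ = cc * (β₀ * s * β₀⁻¹) * cc⁻¹ := by group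
        _ = y := by rw [hβ₀, hcc, mul_inv_cancel_right]
    have heq : ∀ β : SL2, β * g * β⁻¹ * g = g * (β * g * β⁻¹) → β * g * β⁻¹ = g ∨ β * g * β⁻¹ = g⁻¹ :=
      fun β e => eq_of_comm_same_tr ht4 (tr_conj β g) e
    rcases hcase with ⟨h2, hq⟩ | ⟨h2, ht2, hq⟩
    · obtain ⟨cc, hcc, hT⟩ := exists_avoid hyc (hmove g (not_comm_of_inverts hg2 hsg)) {g, g⁻¹} (by
        have := Finset.card_le_two (a := g) (b := g⁻¹)
        omega)
      refine ⟨cc * β₀, hfix cc hcc, fun e => hT ?_, fun h => absurd h2 h⟩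
      rw [show cc * (β₀ * g * β₀⁻¹) * cc⁻¹ = cc * β₀ * g * (cc * β₀)⁻¹ by group]
      simpa [Finset.mem_insert, Finset.mem_singleton] using heq _ e
    · have ht2' : tr (g * g) = 0 := by rw [tr_sq, ht2, sub_self]
      have hsu : s * (g * g) ≠ g * g * s := fun e => ne_neg_self h2 (g * g) (by
        have e' := inverts_sq hsg
        rw [e, mul_inv_cancel_right, inv_eq_neg ht2'] at e'
        exact e')
      obtain ⟨cc, hcc, hT⟩ := exists_avoid hyc (hmove _ hsu)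
        {g * g, -(g * g), y * (g * g), -(y * (g * g))} (by
        have := Finset.card_le_four (a := g * g) (b := -(g * g)) (c := y * (g * g)) (d := -(y * (g * g)))
        omega)
      rw [show cc * (β₀ * (g * g) * β₀⁻¹) * cc⁻¹ = cc * β₀ * (g * g) * (cc * β₀)⁻¹ by group] at hT
      simp only [Finset.mem_insert, Finset.mem_singleton, not_or] at hT
      refine ⟨cc * β₀, hfix cc hcc, fun e => ?_, fun _ => ⟨hT.2.2.1, hT.2.2.2⟩⟩
      have hsq : cc * β₀ * (g * g) * (cc * β₀)⁻¹ =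
          (cc * β₀ * g * (cc * β₀)⁻¹) * (cc * β₀ * g * (cc * β₀)⁻¹) := by group
      rcases heq _ e with e' | e' <;> rw [e'] at hsq
      · exact hT.1 hsq
      · rw [← _root_.mul_inv_rev, inv_eq_neg ht2'] at hsq
        exact hT.2.1 hsq
  obtain ⟨β, hβ, hβn, hβ2⟩ := hgood y hyg
  obtain ⟨γ, hγ, hγn, -⟩ := hgood _ hzg
  obtain ⟨h, h1, h2', h3⟩ := hb.tri (α := 1) (β := β) (γ := γ) (x := g) (y := y) (by simpa using hgH)
    (by rw [← hβ, show β⁻¹ * (β * s * β⁻¹) * β = s by group]; exact hsH)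
    (by rw [← hγ, show γ⁻¹ * (γ * s * γ⁻¹) * γ = s by group]; exact hsH)
  rw [inv_one, one_mul, mul_one] at h1
  obtain ⟨gB, hgB⟩ : ∃ gB, gB = β * g * β⁻¹ := ⟨_, rfl⟩
  have hB : h * gB = gB * h ∨ h * gB * h⁻¹ = gB⁻¹ := (hN _ h2').imp
    (fun e => comm_conj hgB.symm (mul_inv_eq_iff_eq_mul.mp e)) (inverts_conj hgB.symm)
  have hA : h * g = g * h ∨ h * g * h⁻¹ = g⁻¹ := (hN _ h1).imp mul_inv_eq_iff_eq_mul.mp id
  have hyB : y * gB * y⁻¹ = gB⁻¹ := by
    rw [← hβ, hgB]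
    calc β * s * β⁻¹ * (β * g * β⁻¹) * (β * s * β⁻¹)⁻¹ = β * (s * g * s⁻¹) * β⁻¹ := by group
      _ = (β * g * β⁻¹)⁻¹ := by rw [hsg]; group
  have hgBt : tr gB = tr g := hgB ▸ tr_conj β g
  have hgBc : ¬ Cen gB := not_cen_of_tr (hgBt ▸ ht4)
  have hgB2 : ¬ Cen (gB * gB) := not_cen_sq (hgBt ▸ ht0) (hgBt ▸ ht4)
  rw [← hgB] at hβn
  have hanti : ∀ {v u : SL2}, tr (u * u) = 0 → v * u * v⁻¹ = u⁻¹ → v * (u * u) = -(u * u * v) := fun {v u} h0 e => by
    have e' := inverts_sq e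
    rw [inv_eq_neg h0, mul_inv_eq_iff_eq_mul, neg_mul] at e'
    exact e'
  have hprod : (2 : F) ≠ 0 → tr g ^ 2 = 2 → (g * g) * (gB * gB) = -(gB * gB * (g * g)) → False := by
    intro h2 ht2 hanti'
    have ht2' : tr (g * g) = 0 := by rw [tr_sq, ht2, sub_self]
    have htB : tr (gB * gB) = 0 := by rw [tr_sq, hgBt, ht2, sub_self]
    have hsq : gB * gB = β * (g * g) * β⁻¹ := by rw [hgB]; group
    rcases eq_prod_of_anti h2 htB (hanti ht2' hyg)
      (by rw [hanti', neg_neg]) (by rw [hanti htB hyB, neg_neg]) with e | e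
    exacts [(hβ2 h2).1 (hsq ▸ e), (hβ2 h2).2 (hsq ▸ e)]
  rcases hA with hA | hA <;> rcases hB with hB | hB
  · have hh := cen_of_comm hA hB (Ne.symm hβn)
    have hg' : γ⁻¹ * g * γ ∈ H := by
      rcases hh with rfl | rfl
      · simpa using h3
      · simpa [neg_mem_iff' hc] using h3
    rcases hN _ hg' with e | e
    · refine hγn ?_
      rw [mul_inv_eq_iff_eq_mul] at e
      rcases eq_of_comm_same_tr ht4 (tr_conj' γ g) e with e' | e'
      · rw [show γ * g * γ⁻¹ = g by nth_rewrite 1 [← e']; group]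
      · have e'' : γ⁻¹ * g⁻¹ * γ = g := by
          have := congrArg (·⁻¹) e'
          simpa [mul_assoc] using this
        rw [show γ * g * γ⁻¹ = g⁻¹ by nth_rewrite 1 [← e'']; group]
        group
    · have h0 := tr_eq_zero_of_inverts hg2 e
      rw [tr_conj'] at h0
      exact ht0 h0
  · have h0 := tr_eq_zero_of_inverts hgB2 hB
    rcases hcase with ⟨h2, -⟩ | ⟨h2, ht2, -⟩
    · exact not_cen_of_inverts hgB2 hB (cen_of_char_two h2 hg hA ht0 h0)
    · have htB : tr (gB * gB) = 0 := by rw [tr_sq, hgBt, ht2, sub_self]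
      have hA2 : h * (g * g) = g * g * h := by rw [← mul_assoc, hA, mul_assoc, hA, ← mul_assoc]
      refine hprod h2 ht2 ?_
      have e := hanti htB hB
      rcases eq_of_comm_tr_zero h2 (u := g * g) (by rw [tr_sq, ht2, sub_self]) h0 hA2 with e' | e' <;>
        rw [e'] at e
      · exact e
      · simp only [neg_mul, mul_neg, neg_neg] at e
        rw [← e, neg_neg]
  · have h0 := tr_eq_zero_of_inverts hg2 hA
    rcases hcase with ⟨h2, -⟩ | ⟨h2, ht2, -⟩
    · exact not_cen_of_inverts hg2 hA (cen_of_char_two h2 hgBc hB (hgBt ▸ ht0) h0)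
    · have ht2' : tr (g * g) = 0 := by rw [tr_sq, ht2, sub_self]
      have hB2 : h * (gB * gB) = gB * gB * h := by rw [← mul_assoc, hB, mul_assoc, hB, ← mul_assoc]
      refine hprod h2 ht2 ?_
      have e := hanti ht2' hA
      rcases eq_of_comm_tr_zero h2 (u := gB * gB) (by rw [tr_sq, hgBt, ht2, sub_self]) h0 hB2 with e' | e' <;>
        rw [e'] at e
      · rw [e, neg_neg]
      · simp only [neg_mul, mul_neg, neg_neg] at e
        rw [← e]
  · rcases cen_of_comm (comm_of_inverts hA hyg) (comm_of_inverts hB hyB) (Ne.symm hβn) with e | e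
    · rw [inv_mul_eq_one] at e; exact hyH (e ▸ h1)
    · rw [inv_mul_eq_iff_eq_mul, mul_neg, mul_one] at e
      exact hyH (e ▸ (neg_mem_iff' hc).mpr h1)

end Cfsg.Lib.Binary
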