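import Cfsg.Agent.Lib.Binary.Basic

/-!
# Finite checks in `A₄`, `S₄` and `A₅`
-/

set_option autoImplicit false

namespace Cfsg.Lib.Binary

/-- A fixed permutation. -/
def C4 : alternatingGroup (Fin 4) := ⟨⟨![1, 2, 0, 3], ![2, 0, 1, 3], by decide, by decide⟩, Equiv.Perm.mem_alternatingGroup.mpr (by decide)⟩

/-- A fixed permutation. -/
def B4 : alternatingGroup (Fin 4) := ⟨⟨![0, 2, 3, 1], ![0, 3, 1, 2], by decide, by decide⟩, Equiv.Perm.mem_alternatingGroup.mpr (by decide)⟩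

/-- A fixed permutation. -/
def Y4 : alternatingGroup (Fin 4) := ⟨⟨![3, 1, 0, 2], ![2, 1, 3, 0], by decide, by decide⟩, Equiv.Perm.mem_alternatingGroup.mpr (by decide)⟩

/-- A fixed permutation. -/
def G4 : alternatingGroup (Fin 4) := ⟨⟨![0, 3, 1, 2], ![0, 2, 3, 1], by decide, by decide⟩, Equiv.Perm.mem_alternatingGroup.mpr (by decide)⟩

/-- A fixed permutation. -/
def D4 : Equiv.Perm (Fin 4) := ⟨![1, 2, 0, 3], ![2, 0, 1, 3], by decide, by decide⟩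

/-- A fixed permutation. -/
def B4s : Equiv.Perm (Fin 4) := ⟨![0, 1, 3, 2], ![0, 1, 3, 2], by decide, by decide⟩

/-- A fixed permutation. -/
def Y4s : Equiv.Perm (Fin 4) := ⟨![1, 3, 2, 0], ![3, 0, 2, 1], by decide, by decide⟩

/-- A fixed permutation. -/
def G4s : Equiv.Perm (Fin 4) := ⟨![1, 2, 3, 0], ![3, 0, 1, 2], by decide, by decide⟩

/-- A fixed permutation. -/
def C5 : alternatingGroup (Fin 5) := ⟨⟨![1, 2, 0, 3, 4], ![2, 0, 1, 3, 4], by decide, by decide⟩, Equiv.Perm.mem_alternatingGroup.mpr (by decide)⟩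

/-- The first tuple. -/
def tupA : Fin 6 → alternatingGroup (Fin 5) :=
  ![⟨⟨![1, 2, 4, 0, 3], ![3, 0, 1, 4, 2], by decide, by decide⟩, Equiv.Perm.mem_alternatingGroup.mpr (by decide)⟩,
    ⟨⟨![2, 3, 4, 0, 1], ![3, 4, 0, 1, 2], by decide, by decide⟩, Equiv.Perm.mem_alternatingGroup.mpr (by decide)⟩,
    ⟨⟨![1, 4, 2, 3, 0], ![4, 0, 2, 3, 1], by decide, by decide⟩, Equiv.Perm.mem_alternatingGroup.mpr (by decide)⟩,
    ⟨⟨![1, 2, 3, 4, 0], ![4, 0, 1, 2, 3], by decide, by decide⟩, Equiv.Perm.mem_alternatingGroup.mpr (by decide)⟩,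
    ⟨⟨![1, 3, 2, 0, 4], ![3, 0, 2, 1, 4], by decide, by decide⟩, Equiv.Perm.mem_alternatingGroup.mpr (by decide)⟩,
    ⟨⟨![2, 4, 3, 1, 0], ![4, 3, 0, 2, 1], by decide, by decide⟩, Equiv.Perm.mem_alternatingGroup.mpr (by decide)⟩]

/-- The second tuple. -/
def tupB : Fin 6 → alternatingGroup (Fin 5) :=
  ![⟨⟨![0, 1, 4, 2, 3], ![0, 1, 3, 4, 2], by decide, by decide⟩, Equiv.Perm.mem_alternatingGroup.mpr (by decide)⟩,
    ⟨⟨![1, 3, 4, 2, 0], ![4, 0, 3, 1, 2], by decide, by decide⟩, Equiv.Perm.mem_alternatingGroup.mpr (by decide)⟩,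
    ⟨⟨![0, 4, 1, 3, 2], ![0, 2, 4, 3, 1], by decide, by decide⟩, Equiv.Perm.mem_alternatingGroup.mpr (by decide)⟩,
    ⟨⟨![0, 3, 4, 1, 2], ![0, 3, 4, 1, 2], by decide, by decide⟩, Equiv.Perm.mem_alternatingGroup.mpr (by decide)⟩,
    ⟨⟨![0, 4, 3, 2, 1], ![0, 4, 3, 2, 1], by decide, by decide⟩, Equiv.Perm.mem_alternatingGroup.mpr (by decide)⟩,
    ⟨⟨![1, 4, 3, 0, 2], ![3, 0, 4, 2, 1], by decide, by decide⟩, Equiv.Perm.mem_alternatingGroup.mpr (by decide)⟩]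


/-- The powers of an element of order three. -/
def Pow3 {T : Type*} [Group T] (c w : T) : Prop := w = 1 ∨ w = c ∨ w = c * c

instance {T : Type*} [Group T] [DecidableEq T] (c w : T) : Decidable (Pow3 c w) := by
  unfold Pow3; infer_instance

theorem c4_cube : C4 ≠ 1 ∧ C4 * C4 * C4 = 1 := by decide +kernel

theorem d4_cube : D4 ≠ 1 ∧ D4 * D4 * D4 = 1 := by decide +kernel

theorem c5_cube : C5 ≠ 1 ∧ C5 * C5 * C5 = 1 := by decide +kernel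

theorem a4_triangle : B4⁻¹ * Y4 * B4 ∈ [1, C4, C4 * C4] ∧ G4⁻¹ * (C4⁻¹ * Y4) * G4 ∈ [1, C4, C4 * C4] ∧
    ∀ h : alternatingGroup (Fin 4), Pow3 C4 h → Pow3 C4 (B4⁻¹ * h * B4) →
      Pow3 C4 (G4⁻¹ * (h⁻¹ * C4) * G4) → False := by decide +kernel

theorem s4_triangle : B4s⁻¹ * Y4s * B4s ∈ [1, D4, D4 * D4] ∧ G4s⁻¹ * (D4⁻¹ * Y4s) * G4s ∈ [1, D4, D4 * D4] ∧
    ∀ h : Equiv.Perm (Fin 4), Pow3 D4 h → Pow3 D4 (B4s⁻¹ * h * B4s) →
      Pow3 D4 (G4s⁻¹ * (h⁻¹ * D4) * G4s) → False := by decide +kernel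

theorem a4_special : ∀ e : alternatingGroup (Fin 4), Pow3 C4 e ∨
    ∃ w ∈ [e, e * e, C4 * e, C4 * C4 * e, e * C4, e * C4 * C4, C4 * e * C4⁻¹ * e⁻¹],
      w ≠ 1 ∧ w * w = 1 := by decide +kernel

theorem a4_involutions : ∀ w w' : alternatingGroup (Fin 4), w ≠ 1 → w * w = 1 → w' ≠ 1 → w' * w' = 1 →
    (∃ j ∈ [1, C4, C4 * C4], w' = j * w * j⁻¹) ∧ w * C4 ≠ C4 * w ∧ w * C4 * w⁻¹ ≠ C4⁻¹ := by decide +kernel

theorem s4_special : ∀ e : Equiv.Perm (Fin 4), Pow3 D4 e ∨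
    ∃ w ∈ [e, e * e, e * D4, e * (D4 * D4), e * D4 * e * D4],
      (w ≠ 1 ∧ w * w = 1 ∧ w * D4 * (w * D4) * (w * D4) = 1) ∨ w * D4 * w⁻¹ = D4⁻¹ := by decide +kernel

theorem s4_klein : ∀ w : Equiv.Perm (Fin 4), w ≠ 1 → w * w = 1 → w * D4 * (w * D4) * (w * D4) = 1 →
    w * D4 ≠ D4 * w ∧ w * D4 * w⁻¹ ≠ D4⁻¹ ∧ ∀ w' : Equiv.Perm (Fin 4), w' ≠ 1 → w' * w' = 1 →
      w' * D4 * (w' * D4) * (w' * D4) = 1 → ∃ j ∈ [1, D4, D4 * D4], w' = j * w * j⁻¹ := by decide +kernel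

theorem s4_inverting : ∀ w w' : Equiv.Perm (Fin 4), w * D4 * w⁻¹ = D4⁻¹ → w' * D4 * w'⁻¹ = D4⁻¹ →
    (∃ j ∈ [1, D4, D4 * D4], w' = j * w * j⁻¹) ∧ w * D4 ≠ D4 * w := by decide +kernel

theorem a5_inverting : ∀ w : alternatingGroup (Fin 5), w * C5 * w⁻¹ = C5⁻¹ →
    w * C5 ≠ C5 * w ∧ (∀ w' : alternatingGroup (Fin 5), w' * C5 * w'⁻¹ = C5⁻¹ →
      ∃ j ∈ [1, C5, C5 * C5], w' = j * w * j⁻¹) ∧
      ∀ k : alternatingGroup (Fin 5), k * w = w * k → k * C5 = C5 * k → k = 1 := by decide +kernel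

theorem a5_exists_inverting : ∃ w : alternatingGroup (Fin 5), w * C5 * w⁻¹ = C5⁻¹ := by decide +kernel

theorem a5_pairs : ∀ i j : Fin 6, i ≠ j → ∃ g : alternatingGroup (Fin 5),
    Pow3 C5 ((tupB i)⁻¹ * g * tupA i) ∧ Pow3 C5 ((tupB j)⁻¹ * g * tupA j) := by decide +kernel

/-- Having order five. -/
def orderFive (s : alternatingGroup (Fin 5)) : Prop := s ≠ 1 ∧ s * s * s * s * s = 1

instance (s : alternatingGroup (Fin 5)) : Decidable (orderFive s) := by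
  unfold orderFive; infer_instance

/-- The elements available in the stabiliser. -/
def cand (g : alternatingGroup (Fin 5)) : List (alternatingGroup (Fin 5)) :=
  C5 :: (List.ofFn fun i => (tupB i)⁻¹ * g * tupA i)

theorem a5_words : ∀ g : alternatingGroup (Fin 5),
    (∃ s ∈ cand g, orderFive s) ∨ (∃ s ∈ cand g, ∃ t ∈ cand g, orderFive (s * t)) ∨
      ∃ s ∈ cand g, ∃ t ∈ cand g, ∃ u ∈ cand g, orderFive (s * t * u) := by decide +kernel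

end Cfsg.Lib.Binary
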