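import Cfsg.Agent.Lib.Binary.PSLTorus
import Cfsg.Agent.Lib.Binary.PSLTables
import Cfsg.Agent.Lib.Dickson.CentralizerCard

/-!
# Stabilisers isomorphic to `A₄`, `S₄` or `A₅`
-/

set_option autoImplicit false
set_option linter.unusedSectionVars false

namespace Cfsg.Lib.Binary

open Matrix

variable {F : Type*} [Field F] [Fintype F]

local notation "SL2" => Matrix.SpecialLinearGroup (Fin 2) F
local notation "PSL2" => Matrix.ProjectiveSpecialLinearGroup (Fin 2) F

/-- Lifts of commuting elements commute when the trace is nonzero. -/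
theorem lift_comm {C X : SL2} (hC : tr C ≠ 0)
    (h : (QuotientGroup.mk X : PSL2) * QuotientGroup.mk C = QuotientGroup.mk C * QuotientGroup.mk X) :
    X * C = C * X := by
  rw [← QuotientGroup.mk_mul, ← QuotientGroup.mk_mul, mk_eq_mk_iff] at h
  rcases h with h | h
  · exact h.symm
  · by_cases h2 : (2 : F) = 0
    · haveI : CharP F 2 := CharTwo.of_one_ne_zero_of_two_eq_zero one_ne_zero h2
      have : -(X * C) = X * C := by
        apply sl_ext <;> rw [neg_apply] <;> exact CharTwo.neg_eq _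
      exact (h.trans this).symm
    · exfalso
      have h' : X * C = -(C * X) := by rw [h, neg_neg]
      have := anti_tr h'
      exact hC ((mul_eq_zero.mp (by linear_combination this : (2 : F) * tr C = 0)).resolve_left h2)

theorem mk_sq_cen {C : SL2} (h : tr C = 0) : (QuotientGroup.mk C : PSL2) * QuotientGroup.mk C = 1 := by
  rw [← QuotientGroup.mk_mul, mk_eq_one_iff, sq_cen_of_tr h]
  exact Or.inr rfl

theorem cube_tr {C : SL2} (h1 : (QuotientGroup.mk C : PSL2) ≠ 1)
    (h3 : (QuotientGroup.mk C : PSL2) * QuotientGroup.mk C * QuotientGroup.mk C = 1) : tr C ≠ 0 := fun h =>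
  h1 (by rwa [mk_sq_cen h, one_mul] at h3)

/-- An element commuting with `c` of order three and with some `t` outside the centraliser. -/
theorem common_centralizer {c t k : PSL2} (hc1 : c ≠ 1) (hc3 : c * c * c = 1) (htc : t * c ≠ c * t)
    (hkc : k * c = c * k) (hkt : k * t = t * k) : k * k = 1 ∧ (t * c * t⁻¹ ≠ c⁻¹ → k = 1) := by
  obtain ⟨C, rfl⟩ := QuotientGroup.mk_surjective c
  obtain ⟨T, rfl⟩ := QuotientGroup.mk_surjective t
  obtain ⟨K, rfl⟩ := QuotientGroup.mk_surjective k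
  have hC0 := cube_tr hc1 hc3
  have hKC := lift_comm hC0 hkc
  by_cases hK : Cen K
  · have := mk_eq_one_iff.mpr hK
    exact ⟨by rw [this, one_mul], fun _ => this⟩
  have hC : ¬ Cen C := fun h => hc1 (mk_eq_one_iff.mpr h)
  have hTK : ¬ T * K = K * T := fun e => htc (by
    rw [← QuotientGroup.mk_mul, ← QuotientGroup.mk_mul, comm_of_comm hK e hKC.symm])
  have hne : ¬ K * T = T * K := fun e => hTK e.symm
  rw [← QuotientGroup.mk_mul, ← QuotientGroup.mk_mul, mk_eq_mk_iff] at hkt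
  have hanti : T * K = -(K * T) := hkt.resolve_left fun e => hne e.symm
  have h2 : (2 : F) ≠ 0 := fun h2 => hne (by
    haveI : CharP F 2 := CharTwo.of_one_ne_zero_of_two_eq_zero one_ne_zero h2
    rw [hanti]
    apply sl_ext <;> rw [neg_apply] <;> exact (CharTwo.neg_eq _).symm)
  have hK0 : tr K = 0 := by
    have := anti_tr hanti
    exact (mul_eq_zero.mp (by linear_combination this : (2 : F) * tr K = 0)).resolve_left h2
  refine ⟨mk_sq_cen hK0, fun hinv => absurd ?_ hinv⟩
  have ht4 : tr C ^ 2 ≠ 4 := by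
    intro h4
    obtain ⟨α, β, e00, e01, e10, e11⟩ := exists_coeff hC hKC
    have hd := det_eq K
    simp only [tr, e00, e11] at hK0 h4
    rw [e00, e01, e10, e11] at hd
    refine mul_ne_zero h2 h2 ?_
    linear_combination (2 * α + β * (C.1 0 0 + C.1 1 1)) * hK0 - 4 * hd + 4 * β ^ 2 * det_eq C -
      β ^ 2 * h4
  have hcomm : T * C * T⁻¹ * C = C * (T * C * T⁻¹) := by
    refine comm_of_comm hK ?_ hKC.symm
    have e : T * K * T⁻¹ = -K := by rw [hanti, neg_mul, mul_inv_cancel_right]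
    have e2 : (T * C * T⁻¹) * (T * K * T⁻¹) = (T * K * T⁻¹) * (T * C * T⁻¹) := by
      calc (T * C * T⁻¹) * (T * K * T⁻¹) = T * (C * K) * T⁻¹ := by group
        _ = (T * K * T⁻¹) * (T * C * T⁻¹) := by rw [← hKC]; group
    rwa [e, mul_neg, neg_mul, neg_inj] at e2
  rcases eq_of_comm_same_tr ht4 (tr_conj T C) hcomm with e | e
  · refine absurd ?_ htc
    rw [← QuotientGroup.mk_mul, ← QuotientGroup.mk_mul]
    exact congrArg _ (mul_inv_eq_iff_eq_mul.mp e)
  · rw [← QuotientGroup.mk_inv, ← QuotientGroup.mk_inv, ← QuotientGroup.mk_mul, ← QuotientGroup.mk_mul, e]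

/-- Outside elements of the centraliser of an element of order three. -/
theorem exists_outside (hq : 9 ≤ Fintype.card F) {c : PSL2} (hc1 : c ≠ 1) (hc3 : c * c * c = 1) :
    ∃ g : PSL2, g * c = c * g ∧ ¬ Pow3 c g ∧ (15 ≤ Fintype.card F ∨ Fintype.card F = 9 → ¬ Pow3 c (g * g)) := by
  classical
  obtain ⟨C, rfl⟩ := QuotientGroup.mk_surjective c
  have hC0 := cube_tr hc1 hc3
  have hC : ¬ Cen C := fun h => hc1 (mk_eq_one_iff.mpr h)
  obtain ⟨S, hS, hScomm⟩ := card_comm hC
  have hpow : ∀ {X : SL2}, Pow3 (QuotientGroup.mk C : PSL2) (QuotientGroup.mk X) →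
      X ∈ ({1, -1, C, -C, C * C, -(C * C)} : Finset SL2) := by
    intro X hX
    rw [Pow3, ← QuotientGroup.mk_one, ← QuotientGroup.mk_mul, mk_eq_mk_iff, mk_eq_mk_iff, mk_eq_mk_iff] at hX
    simp only [Finset.mem_insert, Finset.mem_singleton]
    rcases hX with (h | h) | (h | h) | (h | h)
    · left; exact h.symm
    · right; left; rw [h, neg_neg]
    · right; right; left; exact h.symm
    · right; right; right; left; rw [h, neg_neg]
    · right; right; right; right; left; exact h.symm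
    · right; right; right; right; right; rw [h, neg_neg]
  have hsix : ({1, -1, C, -C, C * C, -(C * C)} : Finset SL2).card ≤ 6 := Finset.card_le_six
  by_cases hbig : 15 ≤ Fintype.card F
  · obtain ⟨X, hX, hXsq⟩ : ∃ X ∈ S, X * X ∉ ({1, -1, C, -C, C * C, -(C * C)} : Finset SL2) := by
      by_contra hall
      push Not at hall
      have h1 : S.card ≤ 2 * (S.image fun X => X * X).card := by
        refine Finset.card_le_mul_card_image S 2 fun v hv => ?_
        obtain ⟨X₀, hX₀, rfl⟩ := Finset.mem_image.mp hv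
        refine (Finset.card_le_card (t := {X₀, -X₀}) fun X hX => ?_).trans Finset.card_le_two
        rw [Finset.mem_filter] at hX
        have hXX := comm_of_comm hC (hScomm X hX.1) (hScomm X₀ hX₀)
        have hz : (X₀⁻¹ * X) * (X₀⁻¹ * X) = 1 := by
          calc X₀⁻¹ * X * (X₀⁻¹ * X) = X₀⁻¹ * (X * X₀⁻¹) * X := by group
            _ = X₀⁻¹ * (X₀⁻¹ * X) * X := by rw [(show Commute X X₀ from hXX).inv_right.eq]
            _ = (X₀ * X₀)⁻¹ * (X * X) := by group
            _ = 1 := by rw [hX.2, inv_mul_cancel]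
        have hcen : Cen (X₀⁻¹ * X) := by
          by_contra hn
          have h0 := tr_eq_zero_of_sq hn (Or.inl hz)
          by_cases h2 : (2 : F) = 0
          · refine hn (cen_of_char_two h2 hC ?_ hC0 h0)
            exact ((show Commute X₀ C from hScomm X₀ hX₀).inv_left.mul_left (hScomm X hX.1)).eq
          · rw [sq_cen_of_tr h0] at hz
            exact ne_neg_self h2 1 hz.symm
        rcases hcen with e | e
        · rw [inv_mul_eq_one] at e; simp [e]
        · rw [inv_mul_eq_iff_eq_mul] at e; simp [e]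
      have h2 : (S.image fun X => X * X).card ≤ 6 := (Finset.card_le_card fun v hv => by
        obtain ⟨X, hX, rfl⟩ := Finset.mem_image.mp hv
        exact hall X hX).trans hsix
      omega
    refine ⟨QuotientGroup.mk X, by rw [← QuotientGroup.mk_mul, ← QuotientGroup.mk_mul, hScomm X hX],
      fun h => ?_, fun _ h => hXsq (hpow (by rwa [QuotientGroup.mk_mul]))⟩
    refine hXsq (hpow ?_)
    rw [QuotientGroup.mk_mul]
    rcases h with e | e | e <;> rw [e]
    · exact Or.inl (one_mul 1)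
    · exact Or.inr (Or.inr rfl)
    · right; left
      rw [← mul_assoc, hc3, one_mul]
  obtain ⟨X, hX, hX6⟩ : ∃ X ∈ S, X ∉ ({1, -1, C, -C, C * C, -(C * C)} : Finset SL2) := by
    by_contra hall
    push Not at hall
    have := (Finset.card_le_card hall).trans hsix
    omega
  have hg : (QuotientGroup.mk X : PSL2) * QuotientGroup.mk C = QuotientGroup.mk C * QuotientGroup.mk X := by
    rw [← QuotientGroup.mk_mul, ← QuotientGroup.mk_mul, hScomm X hX]
  refine ⟨QuotientGroup.mk X, hg, fun h => hX6 (hpow h), fun h9 hsq => hX6 (hpow ?_)⟩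
  replace h9 : Fintype.card F = 9 := h9.resolve_left hbig
  obtain ⟨p, hp, hpr, n, hn0, hn⟩ := Cfsg.Lib.Dickson.exists_char (F := F)
  have hp3 : p = 3 := by
    have : p ∣ 3 ^ 2 := by rw [show (3 : ℕ) ^ 2 = p ^ n by rw [← hn, h9]; rfl]; exact dvd_pow_self p hn0.ne'
    exact (Nat.prime_dvd_prime_iff_eq hp Nat.prime_three).mp (hp.dvd_of_dvd_pow this)
  subst hp3
  haveI : Fact (Nat.Prime 3) := ⟨Nat.prime_three⟩
  have hord : orderOf (QuotientGroup.mk C : PSL2) = 3 :=
    orderOf_eq_prime (by simpa [pow_succ] using hc3) hc1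
  have h := Subgroup.orderOf_dvd_natCard (Subgroup.centralizer ({(QuotientGroup.mk C : PSL2)} : Set PSL2))
    (Subgroup.mem_centralizer_singleton_iff.mpr hg)
  rw [Cfsg.Lib.Dickson.card_centralizer_unipotent 3 hord, h9] at h
  obtain ⟨g, hgd⟩ : ∃ g, g = (QuotientGroup.mk X : PSL2) := ⟨_, rfl⟩
  rw [← hgd] at h hsq ⊢
  have h9' : g ^ 9 = 1 := orderOf_dvd_iff_pow_eq_one.mp h
  have hg5 : g = (g * g) ^ 5 := by
    rw [← sq, ← pow_mul, show 2 * 5 = 9 + 1 from rfl, pow_succ, h9', one_mul]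
  have hc' : ∀ d : PSL2, d * d * d = 1 → d ^ 5 = d * d := fun d hd => by
    rw [show d ^ 5 = d * d * d * (d * d) by simp [pow_succ, mul_assoc], hd, one_mul]
  rcases hsq with e | e | e <;> rw [e] at hg5
  · left; rw [hg5, one_pow]
  · right; right; rw [hg5, hc' _ hc3]
  · right; left
    rw [hg5, hc' _ (by
      calc _ = ((QuotientGroup.mk C : PSL2) * QuotientGroup.mk C * QuotientGroup.mk C) *
            ((QuotientGroup.mk C : PSL2) * QuotientGroup.mk C * QuotientGroup.mk C) := by simp [mul_assoc]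
        _ = 1 := by rw [hc3, one_mul]), ← mul_assoc, hc3, one_mul]

section Transfer

variable {T : Type*} [Group T]

/-- Being carried from one element of order three to itself. -/
theorem conj_image {G : Type*} [Group G] {H : Subgroup G} (e : ↥H ≃* T) {g : G} {c0 : T}
    (hg : g * (e.symm c0 : G) = (e.symm c0 : G) * g) {u : ↥H} (hu : g⁻¹ * (u : G) * g ∈ H) :
    (e ⟨_, hu⟩ = 1 ↔ e u = 1) ∧ (e ⟨_, hu⟩ * e ⟨_, hu⟩ = 1 ↔ e u * e u = 1) ∧
      (e ⟨_, hu⟩ * c0 * (e ⟨_, hu⟩ * c0) * (e ⟨_, hu⟩ * c0) = 1 ↔ e u * c0 * (e u * c0) * (e u * c0) = 1) ∧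
      (e ⟨_, hu⟩ * c0 * (e ⟨_, hu⟩)⁻¹ = c0⁻¹ ↔ e u * c0 * (e u)⁻¹ = c0⁻¹) := by
  obtain ⟨v, hv⟩ : ∃ v : ↥H, v = ⟨_, hu⟩ := ⟨_, rfl⟩
  rw [← hv]
  obtain ⟨C, hC⟩ : ∃ C : G, C = (e.symm c0 : G) := ⟨_, rfl⟩
  rw [← hC] at hg
  have hvG : (v : G) = g⁻¹ * (u : G) * g := by rw [hv]
  have hgc : g⁻¹ * C * g = C := by rw [mul_assoc, ← hg, inv_mul_cancel_left]
  have key : ∀ (A B : ↥H), g⁻¹ * (A : G) * g = (B : G) → (B = 1 ↔ A = 1) := by
    intro A B h
    rw [← OneMemClass.coe_eq_one, ← OneMemClass.coe_eq_one (x := A), ← h]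
    simp [mul_assoc, inv_mul_eq_one, eq_comm]
  have e1 : ∀ A : ↥H, e A = 1 ↔ A = 1 := fun A => e.map_eq_one_iff
  refine ⟨?_, ?_, ?_, ?_⟩
  · rw [e1, e1]; exact key u v hvG.symm
  · rw [← map_mul, ← map_mul, e1, e1]
    exact key (u * u) (v * v) (by push_cast; rw [hvG]; group)
  · rw [← e.apply_symm_apply c0]
    simp only [← map_mul, e1]
    refine key _ _ ?_
    push_cast
    rw [hvG, ← hC]
    calc g⁻¹ * ((u : G) * C * ((u : G) * C) * ((u : G) * C)) * g =
        g⁻¹ * u * g * (g⁻¹ * C * g) * (g⁻¹ * u * g * (g⁻¹ * C * g)) * (g⁻¹ * u * g * (g⁻¹ * C * g)) := by group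
      _ = _ := by rw [hgc]
  · rw [← mul_eq_one_iff_eq_inv, ← mul_eq_one_iff_eq_inv, ← e.apply_symm_apply c0]
    simp only [← map_mul, ← map_inv, e1]
    refine key _ _ ?_
    push_cast
    rw [hvG, ← hC]
    calc g⁻¹ * ((u : G) * C * (u : G)⁻¹ * C) * g =
        g⁻¹ * u * g * (g⁻¹ * C * g) * (g⁻¹ * u * g)⁻¹ * (g⁻¹ * C * g) := by group
      _ = _ := by rw [hgc]

theorem conj_twist {G : Type*} [Group G] {H : Subgroup G} (e : ↥H ≃* T) {g : G} {c0 : T}
    (hg : g * (e.symm c0 : G) = (e.symm c0 : G) * g) {u : ↥H} (hu : g⁻¹ * (u : G) * g ∈ H) {j : T}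
    (hj : j ∈ [1, c0, c0 * c0]) (he : e ⟨_, hu⟩ = j * e u * j⁻¹) :
    g * (e.symm j : G) * (e.symm c0 : G) = (e.symm c0 : G) * (g * (e.symm j : G)) ∧
      g * (e.symm j : G) * (u : G) = (u : G) * (g * (e.symm j : G)) := by
  obtain ⟨C, hC⟩ : ∃ C : G, C = (e.symm c0 : G) := ⟨_, rfl⟩
  obtain ⟨J, hJ⟩ : ∃ J : G, J = (e.symm j : G) := ⟨_, rfl⟩
  rw [← hC] at hg ⊢
  rw [← hJ]
  have hJC : J * C = C * J := by
    rw [hJ, hC, ← Subgroup.coe_mul, ← Subgroup.coe_mul, ← map_mul, ← map_mul]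
    simp only [List.mem_cons, List.not_mem_nil, or_false] at hj
    rcases hj with rfl | rfl | rfl
    · rw [one_mul, mul_one]
    · rfl
    · rw [mul_assoc]
  refine ⟨by rw [mul_assoc, hJC, ← mul_assoc, hg, mul_assoc], ?_⟩
  have h := congrArg (fun t => (e.symm t : G)) he
  simp only [map_mul, map_inv, MulEquiv.symm_apply_apply, Subgroup.coe_mul, InvMemClass.coe_inv, ← hJ] at h
  calc g * J * (u : G) = g * (J * (u : G) * J⁻¹) * J := by group
    _ = (u : G) * (g * J) := by rw [← h]; group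

theorem pow3_back {G : Type*} [Group G] {H : Subgroup G} (e : ↥H ≃* T) {g : G} {c0 : T} (h3 : c0 * c0 * c0 = 1)
    (hg : g * (e.symm c0 : G) = (e.symm c0 : G) * g) {j : T} (hj : j ∈ [1, c0, c0 * c0]) :
    (g * (e.symm j : G) = 1 → Pow3 (e.symm c0 : G) g) ∧
      ((g * (e.symm j : G)) * (g * (e.symm j : G)) = 1 → Pow3 (e.symm c0 : G) (g * g)) := by
  obtain ⟨C, hC⟩ : ∃ C : G, C = (e.symm c0 : G) := ⟨_, rfl⟩
  have hC3 : C * C * C = 1 := by
    rw [hC, ← Subgroup.coe_mul, ← Subgroup.coe_mul, ← map_mul, ← map_mul, h3, map_one]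
    rfl
  simp only [List.mem_cons, List.not_mem_nil, or_false] at hj
  rw [← hC] at hg ⊢
  rcases hj with rfl | rfl | rfl
  · simp only [map_one, Subgroup.coe_one, mul_one]
    exact ⟨fun h => Or.inl h, fun h => Or.inl h⟩
  · rw [← hC]
    refine ⟨fun h => Or.inr (Or.inr ?_), fun h => Or.inr (Or.inl ?_)⟩
    · calc g = g * C * (C * C) * (C * C * C)⁻¹ := by group
        _ = C * C := by rw [h, hC3]; group
    · calc g * g = g * (C * C * C) * g := by rw [hC3, mul_one]
        _ = g * C * C * (C * g) := by group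
        _ = g * C * C * (g * C) := by rw [← hg]
        _ = g * C * (C * g) * C := by group
        _ = g * C * (g * C) * C := by rw [← hg]
        _ = C := by rw [h, one_mul]
  · rw [map_mul, Subgroup.coe_mul, ← hC]
    refine ⟨fun h => Or.inr (Or.inl ?_), fun h => Or.inr (Or.inr ?_)⟩
    · calc g = g * (C * C) * C * (C * C * C)⁻¹ := by group
        _ = C := by rw [h, hC3]; group
    · calc g * g = g * (C * C * C) * g * (C * C * C) := by rw [hC3]; group
        _ = g * (C * C) * (C * g) * C * C * C := by group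
        _ = g * (C * C) * (g * C) * C * C * C := by rw [← hg]
        _ = g * (C * C) * (g * (C * C)) * (C * C) := by group
        _ = C * C := by rw [h, one_mul]

/-- The image in `T` of a suborbit stabiliser. -/
theorem exists_image {G : Type*} [Group G] {H : Subgroup G} (hb : IsBin H) (e : ↥H ≃* T) {g : G} {c0 : T}
    (hg : g * (e.symm c0 : G) = (e.symm c0 : G) * g) :
    ∃ D : Subgroup T, IsBin D ∧ c0 ∈ D ∧ (∀ w, w ∈ D ↔ g⁻¹ * (e.symm w : G) * g ∈ H) := by
  refine ⟨_, (hb.suborbit g).map e, ?_, ?_⟩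
  · rw [Subgroup.mem_map]
    refine ⟨e.symm c0, ?_, e.apply_symm_apply c0⟩
    rw [Subgroup.mem_subgroupOf, Subgroup.mem_comap]
    simp only [MulEquiv.coe_toMonoidHom, MulAut.conj_apply, inv_inv]
    rw [mul_assoc, ← hg, inv_mul_cancel_left]
    exact (e.symm c0).2
  · intro w
    rw [Subgroup.mem_map]
    simp only [Subgroup.mem_subgroupOf, Subgroup.mem_comap, MulEquiv.coe_toMonoidHom, MulAut.conj_apply, inv_inv]
    constructor
    · rintro ⟨u, hu, rfl⟩
      rwa [e.symm_apply_apply]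
    · intro h
      exact ⟨_, h, e.apply_symm_apply w⟩

theorem mem_iff_pow3 {D : Subgroup T} {c0 : T} (h3 : c0 * c0 * c0 = 1) (hc : c0 ∈ D)
    (h : ∀ w ∈ D, Pow3 c0 w) {w : T} : w ∈ D ↔ Pow3 c0 w := by
  refine ⟨h w, ?_⟩
  rintro (rfl | rfl | rfl)
  exacts [one_mem _, hc, mul_mem hc hc]

theorem mem_of_list {D : Subgroup T} {c0 : T} (hc : c0 ∈ D) {w : T} (h : w ∈ [1, c0, c0 * c0]) : w ∈ D := by
  simp only [List.mem_cons, List.not_mem_nil, or_false] at h
  rcases h with rfl | rfl | rfl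
  exacts [one_mem _, hc, mul_mem hc hc]

theorem symm_data {G : Type*} [Group G] {H : Subgroup G} (e : ↥H ≃* T) (a : T) :
    ((e.symm a : G) = 1 ↔ a = 1) ∧ ∀ b : T, (e.symm a : G) * (e.symm b : G) = (e.symm (a * b) : G) := by
  refine ⟨?_, fun b => by rw [map_mul, Subgroup.coe_mul]⟩
  rw [OneMemClass.coe_eq_one, e.symm.map_eq_one_iff]

end Transfer

theorem order_three {T : Type*} [Group T] {H : Subgroup PSL2} (e : ↥H ≃* T) {c0 : T}
    (h : c0 ≠ 1 ∧ c0 * c0 * c0 = 1) :
    (e.symm c0 : PSL2) ≠ 1 ∧ (e.symm c0 : PSL2) * e.symm c0 * e.symm c0 = 1 := by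
  refine ⟨fun h1 => h.1 ((symm_data e c0).1.mp h1), ?_⟩
  rw [(symm_data e c0).2, (symm_data e _).2, (symm_data e _).1]
  exact h.2

/-- An element of the suborbit stabiliser twisted into the common centraliser. -/
theorem twist_trivial {T : Type*} [Group T] {H : Subgroup PSL2} (e : ↥H ≃* T) {c0 : T}
    (h3 : c0 ≠ 1 ∧ c0 * c0 * c0 = 1) {g : PSL2} (hg : g * (e.symm c0 : PSL2) = (e.symm c0 : PSL2) * g)
    {u : ↥H} (hu : g⁻¹ * (u : PSL2) * g ∈ H) {j : T} (hj : j ∈ [1, c0, c0 * c0])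
    (he : e ⟨_, hu⟩ = j * e u * j⁻¹) (hne : e u * c0 ≠ c0 * e u) :
    Pow3 (e.symm c0 : PSL2) (g * g) ∧ (e u * c0 * (e u)⁻¹ ≠ c0⁻¹ → Pow3 (e.symm c0 : PSL2) g) := by
  obtain ⟨k1, k2⟩ := conj_twist e hg hu hj he
  obtain ⟨hC1, hC3⟩ := order_three e h3
  have hu' : (u : PSL2) = (e.symm (e u) : PSL2) := by rw [e.symm_apply_apply]
  obtain ⟨a1, a2⟩ := common_centralizer hC1 hC3 (t := (u : PSL2)) (fun h => hne (by
    rw [hu', (symm_data e _).2, (symm_data e _).2] at h
    exact e.symm.injective (Subtype.ext h))) k1 k2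
  obtain ⟨b1, b2⟩ := pow3_back e h3.2 hg hj
  refine ⟨b2 a1, fun hi => b1 (a2 fun h => hi ?_)⟩
  have := congrArg (fun z : ↥H => e z) (Subtype.ext h : u * e.symm c0 * u⁻¹ = (e.symm c0)⁻¹)
  simpa using this

/-- Stabilisers isomorphic to `A₄`. -/
theorem alternating_four_case (hq : 9 ≤ Fintype.card F) {H : Subgroup PSL2} (hb : IsBin H)
    (e : ↥H ≃* alternatingGroup (Fin 4)) : False := by
  obtain ⟨hC1, hC3⟩ := order_three e c4_cube
  obtain ⟨g, hg, hgout, -⟩ := exists_outside hq hC1 hC3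
  obtain ⟨D, hD, hcD, hmem⟩ := exists_image hb e hg
  have hsmall : ∀ w ∈ D, Pow3 C4 w := by
    intro x hx
    rcases a4_special x with h | ⟨w, hw, hw1, hw2⟩
    · exact h
    exfalso
    have hwD : w ∈ D := by
      simp only [List.mem_cons, List.not_mem_nil, or_false] at hw
      rcases hw with rfl | rfl | rfl | rfl | rfl | rfl | rfl
      exacts [hx, mul_mem hx hx, mul_mem hcD hx, mul_mem (mul_mem hcD hcD) hx, mul_mem hx hcD,
        mul_mem (mul_mem hx hcD) hcD, mul_mem (mul_mem (mul_mem hcD hx) (inv_mem hcD)) (inv_mem hx)]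
    have hu := (hmem w).mp hwD
    obtain ⟨i1, i2, -, -⟩ := conj_image e hg hu
    rw [e.apply_symm_apply] at i1 i2
    obtain ⟨⟨j, hj, hej⟩, hne, hni⟩ := a4_involutions w _ hw1 hw2 (fun h => hw1 (i1.mp h)) (i2.mpr hw2)
    have := (twist_trivial e c4_cube hg hu hj (by rw [e.apply_symm_apply]; exact hej)
      (by rw [e.apply_symm_apply]; exact hne)).2 (by rw [e.apply_symm_apply]; exact hni)
    exact hgout this
  obtain ⟨h1, h2, h3⟩ := a4_triangle
  obtain ⟨h, g1, g2, g3⟩ := hD.tri (α := 1) (β := B4) (γ := G4) (x := C4) (y := Y4) (by simpa using hcD)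
    (mem_of_list hcD h1) (mem_of_list hcD h2)
  rw [inv_one, one_mul, mul_one] at g1
  exact h3 h (hsmall _ g1) (hsmall _ g2) (hsmall _ g3)

/-- Stabilisers isomorphic to `S₄`. -/
theorem perm_four_case (hq : 15 ≤ Fintype.card F ∨ Fintype.card F = 9) {H : Subgroup PSL2} (hb : IsBin H)
    (e : ↥H ≃* Equiv.Perm (Fin 4)) : False := by
  obtain ⟨hC1, hC3⟩ := order_three e d4_cube
  obtain ⟨g, hg, hgout, hsq⟩ := exists_outside (by omega) hC1 hC3
  obtain ⟨D, hD, hcD, hmem⟩ := exists_image hb e hg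
  have hsmall : ∀ w ∈ D, Pow3 D4 w := by
    intro x hx
    rcases s4_special x with h | ⟨w, hw, hwp⟩
    · exact h
    exfalso
    have hwD : w ∈ D := by
      simp only [List.mem_cons, List.not_mem_nil, or_false] at hw
      rcases hw with rfl | rfl | rfl | rfl | rfl
      exacts [hx, mul_mem hx hx, mul_mem hx hcD, mul_mem hx (mul_mem hcD hcD),
        mul_mem (mul_mem (mul_mem hx hcD) hx) hcD]
    have hu := (hmem w).mp hwD
    obtain ⟨i1, i2, i3, i4⟩ := conj_image e hg hu
    rw [e.apply_symm_apply] at i1 i2 i3 i4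
    rcases hwp with ⟨w1, w2, w3⟩ | wi
    · obtain ⟨hne, hni, hj'⟩ := s4_klein w w1 w2 w3
      obtain ⟨j, hj, hej⟩ := hj' _ (fun h => w1 (i1.mp h)) (i2.mpr w2) (i3.mpr w3)
      have := (twist_trivial e d4_cube hg hu hj (by rw [e.apply_symm_apply]; exact hej)
        (by rw [e.apply_symm_apply]; exact hne)).2 (by rw [e.apply_symm_apply]; exact hni)
      exact hgout this
    · obtain ⟨⟨j, hj, hej⟩, hne⟩ := s4_inverting w _ wi (i4.mpr wi)
      exact hsq hq (twist_trivial e d4_cube hg hu hj (by rw [e.apply_symm_apply]; exact hej)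
        (by rw [e.apply_symm_apply]; exact hne)).1
  obtain ⟨h1, h2, h3⟩ := s4_triangle
  obtain ⟨h, g1, g2, g3⟩ := hD.tri (α := 1) (β := B4s) (γ := G4s) (x := D4) (y := Y4s) (by simpa using hcD)
    (mem_of_list hcD h1) (mem_of_list hcD h2)
  rw [inv_one, one_mul, mul_one] at g1
  exact h3 h (hsmall _ g1) (hsmall _ g2) (hsmall _ g3)

/-- A proper subgroup of `A₅` does not contain elements of order three and five. -/
theorem eq_top_of_three_five {D : Subgroup (alternatingGroup (Fin 5))} {s : alternatingGroup (Fin 5)}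
    (hc : C5 ∈ D) (hs : s ∈ D) (h5 : orderFive s) : D = ⊤ := by
  haveI : Fact (Nat.Prime 3) := ⟨Nat.prime_three⟩
  haveI : Fact (Nat.Prime 5) := ⟨by norm_num⟩
  have d3 : 3 ∣ Nat.card D := (dvd_of_eq (orderOf_eq_prime (p := 3) (by simpa [pow_succ] using c5_cube.2) c5_cube.1).symm).trans
    (Subgroup.orderOf_dvd_natCard D hc)
  have d5 : 5 ∣ Nat.card D := (dvd_of_eq (orderOf_eq_prime (p := 5) (by simpa [pow_succ] using h5.2) h5.1).symm).trans
    (Subgroup.orderOf_dvd_natCard D hs)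
  have d15 : 15 ∣ Nat.card D := Nat.Coprime.mul_dvd_of_dvd_of_dvd (by norm_num : Nat.Coprime 3 5) d3 d5
  have hcard : Nat.card (alternatingGroup (Fin 5)) = 60 := by
    have := two_mul_nat_card_alternatingGroup (α := Fin 5)
    rw [Nat.card_perm, Nat.card_fin, show Nat.factorial 5 = 120 from rfl] at this
    omega
  by_contra hne
  have hmul := Subgroup.card_mul_index D
  rw [hcard] at hmul
  have hi : D.index ≤ 4 := by
    obtain ⟨m, hm⟩ := d15
    rw [hm, mul_assoc] at hmul
    have h4 : m * D.index = 4 := by omega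
    exact Nat.le_of_dvd (by norm_num) ⟨m, by rw [mul_comm, h4]⟩
  have hker : (MulAction.toPermHom (alternatingGroup (Fin 5)) (alternatingGroup (Fin 5) ⧸ D)).ker = ⊥ := by
    rw [← Subgroup.normalCore_eq_ker]
    haveI := alternatingGroup.isSimpleGroup_five
    rcases (Subgroup.normalCore_normal D).eq_bot_or_eq_top with h | h
    · exact h
    · exact absurd (top_le_iff.mp (h ▸ Subgroup.normalCore_le D)) hne
  have hle := Nat.card_le_card_of_injective _ ((MonoidHom.ker_eq_bot_iff _).mp hker)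
  rw [hcard, Nat.card_perm, ← Subgroup.index] at hle
  have := hle.trans (Nat.factorial_le hi)
  norm_num [Nat.factorial] at this

/-- Stabilisers isomorphic to `A₅`. -/
theorem alternating_five_case (hq : 15 ≤ Fintype.card F ∨ Fintype.card F = 9 ∨
    (9 ≤ Fintype.card F ∧ ¬ 120 ∣ Nat.card PSL2)) {H : Subgroup PSL2} (hb : IsBin H)
    (e : ↥H ≃* alternatingGroup (Fin 5)) : False := by
  obtain ⟨hC1, hC3⟩ := order_three e c5_cube
  obtain ⟨g, hg, hgout, hsq⟩ := exists_outside (by omega) hC1 hC3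
  obtain ⟨D, hD, hcD, hmem⟩ := exists_image hb e hg
  have htop : D ≠ ⊤ := by
    intro htop
    have hnorm : ∀ u : ↥H, g⁻¹ * (u : PSL2) * g ∈ H := fun u => by
      have := (hmem (e u)).mp (by rw [htop]; exact Subgroup.mem_top _)
      rwa [e.symm_apply_apply] at this
    obtain ⟨w, hw⟩ := a5_exists_inverting
    obtain ⟨hne, hj', hk'⟩ := a5_inverting w hw
    obtain ⟨u, hu_def⟩ : ∃ u, u = e.symm w := ⟨_, rfl⟩
    have heu : e u = w := by rw [hu_def, e.apply_symm_apply]
    have hu := hnorm u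
    obtain ⟨-, -, -, i4⟩ := conj_image e hg hu
    rw [heu] at i4
    obtain ⟨j, hj, hej⟩ := hj' _ (i4.mpr hw)
    obtain ⟨b2, -⟩ := twist_trivial e c5_cube hg hu hj (by rw [heu]; exact hej) (by rw [heu]; exact hne)
    rcases hq with h | h | ⟨-, h⟩
    · exact hsq (Or.inl h) b2
    · exact hsq (Or.inr h) b2
    -- otherwise the normaliser would have twice the order
    obtain ⟨k1, k2⟩ := conj_twist e hg hu hj (by rw [heu]; exact hej)
    obtain ⟨k, hk⟩ : ∃ k, k = g * (e.symm j : PSL2) := ⟨_, rfl⟩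
    rw [← hk] at k1 k2
    have hk2 : k * k = 1 := (common_centralizer hC1 hC3 (t := (u : PSL2)) (fun h' => hne (by
      have := congrArg (fun z : ↥H => e z) (Subtype.ext h' : u * e.symm C5 = e.symm C5 * u)
      simpa [heu] using this)) k1 k2).1
    have hk1 : k ≠ 1 := fun h' => hgout ((pow3_back e c5_cube.2 hg hj).1 (hk.symm.trans h'))
    have hkH : k ∉ H := fun hkH => hk1 (by
      have := hk' (e ⟨k, hkH⟩) (by rw [← heu, ← map_mul, ← map_mul]; exact congrArg e (Subtype.ext k2)) (by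
        rw [← e.apply_symm_apply C5, ← map_mul, ← map_mul]; exact congrArg e (Subtype.ext k1))
      exact congrArg Subtype.val (e.map_eq_one_iff.mp this))
    have hkN : k ∈ Subgroup.normalizer (H : Set PSL2) := by
      have hmap : ∀ z ∈ H, k * z * k⁻¹ ∈ H := by
        intro z hz
        have hkinv : k⁻¹ = k := inv_eq_of_mul_eq_one_right hk2
        rw [show k * z * k⁻¹ = k⁻¹ * z * k by rw [hkinv], hk,
          show (g * (e.symm j : PSL2))⁻¹ * z * (g * (e.symm j : PSL2)) =
            (e.symm j : PSL2)⁻¹ * (g⁻¹ * z * g) * (e.symm j : PSL2) by group]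
        exact mul_mem (mul_mem (inv_mem (e.symm j).2) (hnorm ⟨z, hz⟩)) (e.symm j).2
      rw [Subgroup.mem_normalizer_iff]
      intro z
      refine ⟨hmap z, fun hz => ?_⟩
      have := hmap _ hz
      rwa [show k * (k * z * k⁻¹) * k⁻¹ = k * k * z * (k * k)⁻¹ by group, hk2, one_mul, inv_one, mul_one] at this
    refine h ?_
    obtain ⟨N, hN⟩ : ∃ N, N = Subgroup.normalizer (H : Set PSL2) := ⟨_, rfl⟩
    rw [← hN] at hkN
    haveI : (H.subgroupOf N).Normal := by rw [hN]; infer_instance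
    haveI : Fact (Nat.Prime 2) := ⟨Nat.prime_two⟩
    have hord : orderOf (QuotientGroup.mk (⟨k, hkN⟩ : ↥N) : ↥N ⧸ H.subgroupOf N) = 2 := by
      refine orderOf_eq_prime ?_ ?_
      · rw [sq, ← QuotientGroup.mk_mul, QuotientGroup.eq_one_iff, Subgroup.mem_subgroupOf]
        simp [hk2]
      · rw [Ne, QuotientGroup.eq_one_iff, Subgroup.mem_subgroupOf]
        exact hkH
    have h2 : 2 ∣ Nat.card (↥N ⧸ H.subgroupOf N) := (dvd_of_eq hord.symm).trans (orderOf_dvd_natCard _)
    have hcardN := Subgroup.card_eq_card_quotient_mul_card_subgroup (H.subgroupOf N)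
    rw [Nat.card_congr (Subgroup.subgroupOfEquivOfLe (hN ▸ Subgroup.le_normalizer)).toEquiv,
      Nat.card_congr e.toEquiv] at hcardN
    have hcard : Nat.card (alternatingGroup (Fin 5)) = 60 := by
      have := two_mul_nat_card_alternatingGroup (α := Fin 5)
      rw [Nat.card_perm, Nat.card_fin, show Nat.factorial 5 = 120 from rfl] at this
      omega
    refine dvd_trans ?_ (Subgroup.card_subgroup_dvd_card N)
    rw [hcardN, hcard, show 120 = 2 * 60 from rfl]
    exact Nat.mul_dvd_mul_right h2 60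
  obtain ⟨g', hg'⟩ := hD 6 tupA tupB (by norm_num) fun i j hij => by
    obtain ⟨z, h1, h2⟩ := a5_pairs i j hij
    have hp : ∀ {s}, Pow3 C5 s → s ∈ D := fun {s} hs => by
      rcases hs with rfl | rfl | rfl
      exacts [one_mem _, hcD, mul_mem hcD hcD]
    exact ⟨z, hp h1, hp h2⟩
  have hcand : ∀ s ∈ cand g', s ∈ D := by
    intro s hs
    simp only [cand, List.mem_cons, List.mem_ofFn] at hs
    rcases hs with rfl | ⟨i, rfl⟩
    exacts [hcD, hg' i]
  rcases a5_words g' with ⟨s, hs, h5⟩ | ⟨s, hs, t, ht, h5⟩ | ⟨s, hs, t, ht, u, hu, h5⟩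
  · exact htop (eq_top_of_three_five hcD (hcand s hs) h5)
  · exact htop (eq_top_of_three_five hcD (mul_mem (hcand s hs) (hcand t ht)) h5)
  · exact htop (eq_top_of_three_five hcD (mul_mem (mul_mem (hcand s hs) (hcand t ht)) (hcand u hu)) h5)

end Cfsg.Lib.Binary
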