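import Cfsg.Agent.Lib.Binary.PSLRoutes
import Cfsg.Agent.Lib.Dickson.Maximal.PermFourCase

/-!
# The binary coset actions of `PSL(2, q)`
-/

set_option autoImplicit false
set_option linter.unusedSectionVars false

namespace Cfsg.Lib.Binary

open Matrix

variable {F : Type*} [Field F] [Fintype F]

local notation "SL2" => Matrix.SpecialLinearGroup (Fin 2) F
local notation "PSL2" => Matrix.ProjectiveSpecialLinearGroup (Fin 2) F

/-- The exceptional possibilities. -/
def Good (H : Subgroup PSL2) : Prop :=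
  ((∃ a : ℕ, Fintype.card F = 2 ^ a) ∧ ∃ P : Sylow 2 PSL2, H = P) ∨
    ((∃ a : ℕ, Odd a ∧ Fintype.card F = 2 ^ a) ∧ Nat.card H = 3)

theorem good_of_borel (p : ℕ) [Fact p.Prime] [CharP F p] {n : ℕ} (hn : Fintype.card F = p ^ n)
    {H : Subgroup PSL2} (hb : IsBin H) (hdvd : p ∣ Nat.card H)
    (hP : ∃ P : Sylow p PSL2, H ≤ Subgroup.normalizer ((P : Subgroup PSL2) : Set PSL2)) : Good H := by
  obtain ⟨hp, hS⟩ := borel_route p hb hdvd hP
  exact Or.inl ⟨⟨n, hp ▸ hn⟩, hS⟩

theorem card_psl (F : Type*) [Field F] [Fintype F] :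
    Nat.gcd 2 (Fintype.card F - 1) * Nat.card (Matrix.ProjectiveSpecialLinearGroup (Fin 2) F) =
      Fintype.card F * (Fintype.card F ^ 2 - 1) :=
  Cfsg.Lib.Linear.Two.card_PSL_two

theorem not_dvd_of_small {m q g : ℕ} (hm : ¬ g * m ∣ q * (q ^ 2 - 1))
    (hG : Nat.gcd 2 (Fintype.card F - 1) * Nat.card PSL2 = Fintype.card F * (Fintype.card F ^ 2 - 1))
    (hq : Fintype.card F = q) (hg : Nat.gcd 2 (q - 1) = g) : ¬ m ∣ Nat.card PSL2 := fun h => hm (by
  rw [hq, hg] at hG
  rw [← hG]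
  exact Nat.mul_dvd_mul_left g h)

theorem a4_klein_data : ∃ va vb : alternatingGroup (Fin 4), va * va = 1 ∧ vb * vb = 1 ∧ va * vb = vb * va ∧
    va ≠ 1 ∧ vb ≠ 1 ∧ va ≠ vb ∧
    (∀ x : alternatingGroup (Fin 4), x * va * x⁻¹ ∈ [va, vb, va * vb] ∧ x * vb * x⁻¹ ∈ [va, vb, va * vb]) ∧
    ∀ x : alternatingGroup (Fin 4), x ∈ [1, va, vb, va * vb] ∨ x * x * x = 1 := by
  refine ⟨⟨Equiv.swap 0 1 * Equiv.swap 2 3, Equiv.Perm.mem_alternatingGroup.mpr (by decide)⟩,
    ⟨Equiv.swap 0 2 * Equiv.swap 1 3, Equiv.Perm.mem_alternatingGroup.mpr (by decide)⟩, ?_⟩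
  decide +kernel

theorem s4_klein_data : ∃ va vb : Equiv.Perm (Fin 4), va * va = 1 ∧ vb * vb = 1 ∧ va * vb = vb * va ∧
    va ≠ 1 ∧ vb ≠ 1 ∧ va ≠ vb ∧
    ∀ x : Equiv.Perm (Fin 4), x * va * x⁻¹ ∈ [va, vb, va * vb] ∧ x * vb * x⁻¹ ∈ [va, vb, va * vb] := by
  refine ⟨Equiv.swap 0 1 * Equiv.swap 2 3, Equiv.swap 0 2 * Equiv.swap 1 3, ?_⟩
  decide +kernel

theorem card_a4 : Nat.card (alternatingGroup (Fin 4)) = 12 := by
  have := two_mul_nat_card_alternatingGroup (α := Fin 4)
  rw [Nat.card_perm, Nat.card_fin, show Nat.factorial 4 = 24 from rfl] at this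
  omega

theorem card_a5 : Nat.card (alternatingGroup (Fin 5)) = 60 := by
  have := two_mul_nat_card_alternatingGroup (α := Fin 5)
  rw [Nat.card_perm, Nat.card_fin, show Nat.factorial 5 = 120 from rfl] at this
  omega

theorem prime_pow_cases (h4 : 4 ≤ Fintype.card F) (h5 : Fintype.card F ≠ 5) (p : ℕ) [Fact p.Prime] [CharP F p]
    (hp2 : p ≠ 2) : 7 ≤ Fintype.card F ∧ Fintype.card F % 2 = 1 := by
  obtain ⟨n, hpp, hn⟩ := FiniteField.card F p
  have : Fintype.card F % 2 = 1 := by rw [hn]; exact Nat.odd_iff.mp (hpp.odd_of_ne_two hp2).pow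
  omega

/-- Stabilisers isomorphic to `A₄`. -/
theorem good_of_a4 (h4 : 4 ≤ Fintype.card F) (h5 : Fintype.card F ≠ 5) (p : ℕ) [Fact p.Prime] [CharP F p]
    {n : ℕ} (hn : Fintype.card F = p ^ n) {H : Subgroup PSL2} (hb : IsBin H)
    (e : ↥H ≃* alternatingGroup (Fin 4)) : Good H := by
  have hcard : Nat.card H = 12 := by rw [Nat.card_congr e.toEquiv, card_a4]
  rcases eq_or_ne p 2 with rfl | hp2
  · refine good_of_borel 2 hn hb ⟨6, hcard⟩ ?_
    exact Cfsg.Lib.Dickson.le_normalizer_of_iso_two e _ Cfsg.Lib.Dickson.fourFour_sub_ne_bot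
      fun a ha => Subtype.ext ha.1
  obtain ⟨h7, hodd⟩ := prime_pow_cases h4 h5 p hp2
  exfalso
  by_cases hq : Fintype.card F = 7
  · obtain ⟨va, vb, a1, a2, a3, a4, a5, a6, a7, a8⟩ := a4_klein_data
    exact seven_klein hq hb e va vb a1 a2 a3 a4 a5 a6 a7 (Or.inl ⟨card_a4, a8⟩)
  · exact alternating_four_case (by omega) hb e

/-- Stabilisers isomorphic to `S₄`. -/
theorem good_of_s4 (h4 : 4 ≤ Fintype.card F) (h5 : Fintype.card F ≠ 5) (p : ℕ) [Fact p.Prime] [CharP F p]
    {n : ℕ} (hn : Fintype.card F = p ^ n) {H : Subgroup PSL2} (hb : IsBin H)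
    (e : ↥H ≃* Equiv.Perm (Fin 4)) : Good H := by
  have hcard : Nat.card H = 24 := by rw [Nat.card_congr e.toEquiv, Nat.card_perm, Nat.card_fin]; rfl
  rcases eq_or_ne p 2 with rfl | hp2
  · refine good_of_borel 2 hn hb ⟨12, hcard⟩ ?_
    exact Cfsg.Lib.Dickson.le_normalizer_of_iso_two e _ Cfsg.Lib.Dickson.fourFour_ne_bot fun a ha => ha.1
  obtain ⟨h7, hodd⟩ := prime_pow_cases h4 h5 p hp2
  exfalso
  by_cases hq : Fintype.card F = 7
  · obtain ⟨va, vb, a1, a2, a3, a4, a5, a6, a7⟩ := s4_klein_data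
    exact seven_klein hq hb e va vb a1 a2 a3 a4 a5 a6 a7
      (Or.inr (by rw [Nat.card_perm, Nat.card_fin]; rfl))
  refine perm_four_case ?_ hb e
  have hdvd : 24 ∣ Nat.card PSL2 := hcard ▸ Subgroup.card_subgroup_dvd_card H
  by_contra hbad
  have hmem : Fintype.card F = 11 ∨ Fintype.card F = 13 := by omega
  rcases hmem with h | h
  · exact not_dvd_of_small (g := 2) (by norm_num) (card_psl F) h rfl hdvd
  · exact not_dvd_of_small (g := 2) (by norm_num) (card_psl F) h rfl hdvd

/-- Stabilisers isomorphic to `A₅`. -/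
theorem false_of_a5 (h4 : 4 ≤ Fintype.card F) (h5 : Fintype.card F ≠ 5)
    {H : Subgroup PSL2} (htop : H ≠ ⊤) (hb : IsBin H) (e : ↥H ≃* alternatingGroup (Fin 5)) : False := by
  have hcard : Nat.card H = 60 := by rw [Nat.card_congr e.toEquiv, card_a5]
  have hdvd : 60 ∣ Nat.card PSL2 := hcard ▸ Subgroup.card_subgroup_dvd_card H
  refine alternating_five_case ?_ hb e
  by_contra hbad
  push Not at hbad
  obtain ⟨h15, h9, h120⟩ := hbad
  have hG := card_psl F
  rcases Nat.lt_or_ge (Fintype.card F) 9 with hlt | hge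
  · interval_cases hq : Fintype.card F
    · refine htop (Subgroup.eq_top_of_card_eq H ?_)
      norm_num at hG
      omega
    · exact h5 rfl
    all_goals (norm_num at hG; omega)
  · have := h120 hge
    interval_cases hq : Fintype.card F <;> norm_num at hG <;> omega

/-- The subfield subgroups. -/
theorem good_of_field (h4 : 4 ≤ Fintype.card F) (h5 : Fintype.card F ≠ 5) (p : ℕ) [Fact p.Prime] [CharP F p]
    {n : ℕ} (hn : Fintype.card F = p ^ n) {H : Subgroup PSL2} (htop : H ≠ ⊤) (hb : IsBin H)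
    (hnn : Cfsg.Lib.Dickson.NoNormalCyclic H) {K : Type} [Field K] [Fintype K] {m : ℕ} [CharP K p]
    (h3 : 3 ≤ Fintype.card K) (hm : Fintype.card K ^ m = Fintype.card F)
    (hiso : (Nonempty (H ≃* Matrix.ProjectiveSpecialLinearGroup (Fin 2) K) ∧ Fintype.card K % 2 = 1) ∨
      Nonempty (H ≃* Matrix.ProjGenLinGroup (Fin 2) K)) : Good H := by
  classical
  obtain ⟨k, hk, hk0, hnk⟩ := Cfsg.Lib.Dickson.exists_exponent p hn hm
  have hm2 : 2 ≤ m := by
    rcases m with _ | _ | m
    · simp at hm; omega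
    · rw [Nat.zero_add, pow_one] at hm
      exact absurd (Cfsg.Lib.Dickson.eq_top_of_full hm hiso) htop
    · omega
  have hn0 : 0 < n := hnk ▸ Nat.mul_pos hk0 (by omega)
  have hpar : p ^ k % 2 = Fintype.card F % 2 := by rw [hn]; exact Cfsg.Lib.Dickson.pow_parity p k n hk0 hn0
  have hLcard : Nat.card (Cfsg.Lib.Dickson.fixField (F := F) p k) = Fintype.card K := by
    rw [Cfsg.Lib.Dickson.card_fixField p hn ⟨m, hnk⟩, hk]
  have hsize : Fintype.card K ^ 2 ≤ Fintype.card F := hm ▸ Nat.pow_le_pow_right (by omega) hm2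
  obtain ⟨κ, hκ⟩ := IsCyclic.exists_ofOrder_eq_natCard (α := Kˣ)
  rw [Nat.card_eq_fintype_card, Fintype.card_units] at hκ
  have hκpow : ∀ j : ℕ, (κ : K) ^ j = 1 → Fintype.card K - 1 ∣ j := fun j hj =>
    hκ ▸ orderOf_dvd_of_pow_eq_one (Units.ext (by rw [Units.val_pow_eq_pow_val, hj, Units.val_one]))
  have hfrob : ∀ z : K, z ^ p = 1 → z = 1 := fun z hz => frobenius_inj K p (by simpa [frobenius_def] using hz)
  rcases hiso with ⟨⟨e⟩, hodd⟩ | ⟨⟨e⟩⟩
  · have hc : 2 * Nat.card H = Fintype.card K * (Fintype.card K ^ 2 - 1) := by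
      rw [Nat.card_congr e.toEquiv]; exact Cfsg.Lib.Dickson.card_psl_mul hodd
    rcases eq_or_ne (Fintype.card K) 3 with h | h3'
    · rw [h] at hc; simp only [Nat.reducePow, Nat.reduceSub, Nat.reduceMul] at hc
      obtain ⟨f⟩ := Cfsg.Lib.Dickson.iso_alternating_four hnn (by omega)
      exact good_of_a4 h4 h5 p hn hb f
    rcases eq_or_ne (Fintype.card K) 5 with h | h5'
    · rw [h] at hc; simp only [Nat.reducePow, Nat.reduceSub, Nat.reduceMul] at hc
      obtain ⟨f⟩ := Cfsg.Lib.Dickson.iso_alternating_five hnn (by omega)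
      exact (false_of_a5 h4 h5 htop hb f).elim
    exfalso
    let π : Matrix.SpecialLinearGroup (Fin 2) K →* PSL2 :=
      H.subtype.comp (e.symm.toMonoidHom.comp (QuotientGroup.mk' _))
    have hπ : ∀ {X : Matrix.SpecialLinearGroup (Fin 2) K}, π X = 1 ↔ Cen X := by
      intro X
      show ((e.symm (QuotientGroup.mk X) : ↥H) : PSL2) = 1 ↔ _
      rw [OneMemClass.coe_eq_one, e.symm.map_eq_one_iff, mk_eq_one_iff]
    have hκ0 : (κ : K) ≠ 0 := κ.ne_zero
    refine subfield_route p hb _ (fun g hg => ?_) (by rw [hLcard]; have : 4 ≤ Fintype.card K := (by omega); nlinarith)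
      (ν := π (uM 1)) (τ := π (dM (κ : K) hκ0)) (ω := π wM)
      (SetLike.coe_mem _) (SetLike.coe_mem _) (SetLike.coe_mem _) ?_ ?_ ?_ ?_ ?_ ?_
    · have := Cfsg.Lib.Dickson.trace_mem_of_iso_psl p hk hpar e hg
      exact pow_mem this 2
    · rw [Ne, hπ, cen_iff]; simp [uM, mk2]
    · rw [← map_pow, hπ, cen_iff]
      have h : (uM (1 : K)) ^ p = 1 := by
        have : ∀ j : ℕ, (uM (1 : K)) ^ j = uM (j : K) := fun j => by
          induction j with
          | zero => rw [pow_zero, Nat.cast_zero, uM_zero]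
          | succ j ih => rw [pow_succ, ih, uM_mul, Nat.cast_succ]
        rw [this, CharP.cast_eq_zero, uM_zero]
      rw [h]; simp
    · rw [← map_mul, Ne, hπ, cen_iff]
      simp only [mul_00, mul_01, mul_10, mul_11]
      simp [dM, mk2]
      intro h
      field_simp at h
      have := hκpow 4 (by first | linear_combination (norm := ring1) h | linear_combination (norm := ring1) -h)
      have := Nat.le_of_dvd (by norm_num) this
      omega
    · rw [← map_pow, Ne, hπ]
      intro h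
      have hp' : ∀ j : ℕ, ((dM (κ : K) hκ0) ^ j).1 0 0 = (κ : K) ^ j ∧ ((dM (κ : K) hκ0) ^ j).1 1 1 = ((κ : K)⁻¹) ^ j ∧
          ((dM (κ : K) hκ0) ^ j).1 0 1 = 0 ∧ ((dM (κ : K) hκ0) ^ j).1 1 0 = 0 := fun j => by
        induction j with
        | zero => simp
        | succ j ih =>
          obtain ⟨i1, i2, i3, i4⟩ := ih
          rw [pow_succ]
          obtain ⟨r1, r2, r3, r4⟩ : _ ∧ _ ∧ _ ∧ _ :=
            ⟨mul_00 ((dM (κ : K) hκ0) ^ j) (dM _ hκ0), mul_11 ((dM (κ : K) hκ0) ^ j) (dM _ hκ0),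
              mul_01 ((dM (κ : K) hκ0) ^ j) (dM _ hκ0), mul_10 ((dM (κ : K) hκ0) ^ j) (dM _ hκ0)⟩
          rw [r1, r2, r3, r4, i1, i2, i3, i4]
          simp [dM, mk2, pow_succ]
      obtain ⟨-, -, h11⟩ := cen_iff.mp h
      rw [(hp' p).1, (hp' p).2.1, inv_pow] at h11
      have h1 : ((κ : K) ^ 2) ^ p = 1 := by
        rw [← pow_mul, mul_comm, pow_mul]
        have hne : (κ : K) ^ p ≠ 0 := pow_ne_zero p hκ0
        field_simp at h11
        first | linear_combination (norm := ring1) h11 | linear_combination (norm := ring1) -h11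
      have := Nat.le_of_dvd (by norm_num) (hκpow 2 (hfrob _ h1))
      omega
    · simp only [← map_inv, ← map_mul]
      congr 1
      rw [dM_conj_uM, uM_mul, uM_mul, add_comm]
    · simp only [← map_inv, ← map_mul]
      intro h
      have : π (((wM * uM 1 * wM⁻¹ * uM 1)⁻¹ * (uM 1 * (wM * uM 1 * wM⁻¹)) : Matrix.SpecialLinearGroup (Fin 2) K)) = 1 := by
        rw [map_mul, map_inv, h, inv_mul_cancel]
      rw [hπ, cen_iff] at this
      obtain ⟨h01, -, -⟩ := this
      simp only [mul_00, mul_01, mul_10, mul_11, inv_00, inv_01, inv_10, inv_11] at h01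
      simp [wM, uM, mk2] at h01
  · have hc : Nat.card H = Fintype.card K * (Fintype.card K ^ 2 - 1) := by
      rw [Nat.card_congr e.toEquiv, Cfsg.Lib.Dickson.card_PGL_two_eq]
    rcases eq_or_ne (Fintype.card K) 3 with h | h3'
    · rw [h] at hc; simp only [Nat.reducePow, Nat.reduceSub, Nat.reduceMul] at hc
      obtain ⟨f⟩ := Cfsg.Lib.Dickson.iso_perm_four hnn hc
      exact good_of_s4 h4 h5 p hn hb f
    exfalso
    let π : Matrix.ProjGenLinGroup (Fin 2) K →* PSL2 := H.subtype.comp e.symm.toMonoidHom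
    have hπ : Function.Injective π := H.subtype_injective.comp e.symm.injective
    have hκ1 : κ ≠ 1 := fun h => by rw [h, orderOf_one] at hκ; omega
    have hj : ∀ j : ℕ, Cfsg.Lib.Dickson.aff κ (0 : K) ^ j = Cfsg.Lib.Dickson.aff (κ ^ j) 0 := fun j => by
      induction j with
      | zero => rw [pow_zero, pow_zero, Cfsg.Lib.Dickson.aff_one]
      | succ j ih => rw [pow_succ, ih, Cfsg.Lib.Dickson.aff_mul, pow_succ, mul_zero, add_zero]
    refine subfield_route p hb _ (fun g hg => ?_) (by rw [hLcard]; have : 4 ≤ Fintype.card K := (by omega); nlinarith)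
      (ν := π (Cfsg.Lib.Dickson.aff 1 (1 : K))) (τ := π (Cfsg.Lib.Dickson.aff κ (0 : K)))
      (ω := π (Cfsg.Lib.Dickson.flip' (1 : Kˣ)))
      (SetLike.coe_mem _) (SetLike.coe_mem _) (SetLike.coe_mem _) ?_ ?_ ?_ ?_ ?_ ?_
    · exact (Cfsg.Lib.Dickson.trace_mem_of_iso_pgl p hk hpar e hg).2
    · rw [Ne, map_eq_one_iff π hπ, ← Cfsg.Lib.Dickson.aff_one]
      exact fun h => one_ne_zero (Cfsg.Lib.Dickson.aff_injective h).2
    · rw [← map_pow]
      have : ∀ j : ℕ, Cfsg.Lib.Dickson.aff (1 : Kˣ) (1 : K) ^ j = Cfsg.Lib.Dickson.aff 1 (j : K) := fun j => by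
        induction j with
        | zero => rw [pow_zero, Nat.cast_zero, Cfsg.Lib.Dickson.aff_one]
        | succ j ih =>
          rw [pow_succ, ih, Cfsg.Lib.Dickson.aff_mul, one_mul, Units.val_one, one_mul, Nat.cast_succ, add_comm]
      rw [this, CharP.cast_eq_zero, Cfsg.Lib.Dickson.aff_one, map_one]
    · rw [← map_mul, Ne, map_eq_one_iff π hπ, ← sq, hj, ← Cfsg.Lib.Dickson.aff_one]
      intro h
      have h' := congrArg Units.val (Cfsg.Lib.Dickson.aff_injective h).1
      rw [Units.val_pow_eq_pow_val, Units.val_one] at h'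
      have := Nat.le_of_dvd (by norm_num) (hκpow 2 h')
      omega
    · rw [← map_pow, Ne, map_eq_one_iff π hπ, hj, ← Cfsg.Lib.Dickson.aff_one]
      intro h
      have h' := congrArg Units.val (Cfsg.Lib.Dickson.aff_injective h).1
      rw [Units.val_pow_eq_pow_val, Units.val_one] at h'
      exact hκ1 (Units.ext (hfrob _ h'))
    · simp only [← map_inv, ← map_mul]
      congr 1
      simp [Cfsg.Lib.Dickson.aff_inv, Cfsg.Lib.Dickson.aff_mul, add_comm]
    · simp only [← map_inv, ← map_mul]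
      intro h
      obtain ⟨w, hw⟩ : ∃ w, w = Cfsg.Lib.Dickson.flip' (1 : Kˣ) := ⟨_, rfl⟩
      rw [← hw] at h
      have h' := congrArg (fun z : Matrix.ProjGenLinGroup (Fin 2) K => z • (OnePoint.infty : OnePoint K)) (hπ h)
      simp only [mul_smul, Cfsg.Lib.Dickson.aff_infty] at h'
      have hwi : w⁻¹ • (OnePoint.infty : OnePoint K) = ((0 : K) : OnePoint K) := by
        rw [inv_smul_eq_iff, hw, Cfsg.Lib.Dickson.flip_zero]
      rw [hwi, Cfsg.Lib.Dickson.aff_some, mul_zero, zero_add, hw, Cfsg.Lib.Dickson.flip_some _ one_ne_zero,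
        Units.val_one, div_one, Cfsg.Lib.Dickson.aff_some, Units.val_one, mul_one, OnePoint.coe_eq_coe] at h'
      exact one_ne_zero (by linear_combination -h' : (1 : K) = 0)

theorem dihedral_comm_rot {k : ℕ} (hk : 3 ≤ k) (x : DihedralGroup k) :
    x * DihedralGroup.r 1 * x⁻¹ = DihedralGroup.r 1 ∨ x * DihedralGroup.r 1 * x⁻¹ = (DihedralGroup.r 1)⁻¹ := by
  cases x with
  | r i =>
    left
    rw [DihedralGroup.inv_r, DihedralGroup.r_mul_r, DihedralGroup.r_mul_r]
    congr 1
    ring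
  | sr i =>
    right
    rw [DihedralGroup.inv_sr, DihedralGroup.sr_mul_r, DihedralGroup.sr_mul_sr, DihedralGroup.inv_r]
    congr 1
    ring

theorem dihedral_centralizer {k : ℕ} (hk : 3 ≤ k) (x : DihedralGroup k)
    (h : x * DihedralGroup.r 1 = DihedralGroup.r 1 * x) : ∃ i : ℤ, DihedralGroup.r 1 ^ i = x := by
  cases x with
  | r i =>
    obtain ⟨j, rfl⟩ := ZMod.intCast_surjective i
    exact ⟨j, by rw [DihedralGroup.r_one_zpow]⟩
  | sr i =>
    exfalso
    rw [DihedralGroup.sr_mul_r, DihedralGroup.r_mul_sr, DihedralGroup.sr.injEq] at h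
    have h2 : ((2 : ℕ) : ZMod k) = 0 := by push_cast; linear_combination h
    have := Nat.le_of_dvd (by norm_num) ((CharP.cast_eq_zero_iff (ZMod k) k 2).mp h2)
    omega

theorem dihedral_small : (∀ x : DihedralGroup 1, x * x = 1) ∧ (∀ x : DihedralGroup 2, x * x = 1) ∧
    ∀ x : DihedralGroup 4, x * DihedralGroup.sr 0 * x⁻¹ = DihedralGroup.sr 0 ∨
      x * DihedralGroup.sr 0 * x⁻¹ = DihedralGroup.r 2 * DihedralGroup.sr 0 := by
  refine ⟨?_, ?_, ?_⟩ <;> decide +kernel

/-- An element killed by `(q - 1)/d` in `PSL` is fixed by the `q`-th power. -/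
theorem pow_card_eq_self (p : ℕ) [Fact p.Prime] [CharP F p] {g : SL2}
    (h : (QuotientGroup.mk g : PSL2) ^ ((Fintype.card F - 1) / Nat.gcd 2 (Fintype.card F - 1)) = 1) :
    g ^ Fintype.card F = g := by
  rw [← QuotientGroup.mk_pow, mk_eq_one_iff] at h
  have h1 : g ^ (Fintype.card F - 1) = 1 := by
    obtain ⟨n, hpp, hn⟩ := FiniteField.card F p
    have hq : 2 ≤ Fintype.card F := Cfsg.Lib.Dickson.two_le_card
    rcases eq_or_ne p 2 with rfl | hp2
    · have hev : Fintype.card F % 2 = 0 := Nat.mod_eq_zero_of_dvd (hn ▸ dvd_pow_self 2 n.pos.ne')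
      rw [show Nat.gcd 2 (Fintype.card F - 1) = 1 by
        rw [Nat.gcd_rec]; simp [show (Fintype.card F - 1) % 2 = 1 by omega], Nat.div_one] at h
      exact eq_one_of_cen h
    · have hodd : Fintype.card F % 2 = 1 := by rw [hn]; exact Nat.odd_iff.mp (hpp.odd_of_ne_two hp2).pow
      rw [Nat.gcd_eq_left (show 2 ∣ Fintype.card F - 1 by omega)] at h
      rw [show Fintype.card F - 1 = (Fintype.card F - 1) / 2 * 2 by omega, pow_mul, sq]
      rcases h with h | h <;> rw [h] <;> simp
  calc g ^ Fintype.card F = g ^ (Fintype.card F - 1) * g := by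
        rw [← pow_succ, Nat.sub_add_cancel Fintype.card_pos]
    _ = g := by rw [h1, one_mul]

/-- Cyclic and dihedral stabilisers. -/
theorem good_of_torus (h4 : 4 ≤ Fintype.card F) (h5 : Fintype.card F ≠ 5) (p : ℕ) [Fact p.Prime] [CharP F p]
    {n : ℕ} (hn : Fintype.card F = p ^ n) {H : Subgroup PSL2} (hbot : H ≠ ⊥) (hb : IsBin H) {k : ℕ}
    (hk : k ∣ (Fintype.card F + 1) / Nat.gcd 2 (Fintype.card F - 1) ∨
      k ∣ (Fintype.card F - 1) / Nat.gcd 2 (Fintype.card F - 1))
    (hH : (IsCyclic H ∧ Nat.card H = k) ∨ Nonempty (H ≃* DihedralGroup k)) : Good H := by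
  classical
  have hq1 : 2 ≤ Fintype.card F := Cfsg.Lib.Dickson.two_le_card
  have hpq : p ∣ Fintype.card F := by
    obtain ⟨n', hpp, hn'⟩ := FiniteField.card F p
    exact hn' ▸ dvd_pow_self p n'.pos.ne'
  have hd : Nat.gcd 2 (Fintype.card F - 1) = if Fintype.card F % 2 = 1 then 2 else 1 := by
    split_ifs with h
    · exact Nat.gcd_eq_left (by omega)
    · rw [Nat.gcd_rec]; simp [show (Fintype.card F - 1) % 2 = 1 by omega]
  have hparity : Fintype.card F % 2 = 1 ↔ p ≠ 2 := by
    obtain ⟨n', hpp, hn'⟩ := FiniteField.card F p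
    refine ⟨fun h hp => ?_, fun hp => by rw [hn']; exact Nat.odd_iff.mp (hpp.odd_of_ne_two hp).pow⟩
    subst hp
    have : 2 ∣ Fintype.card F := hn' ▸ dvd_pow_self 2 n'.pos.ne'
    omega
  have hk' : k ∣ Fintype.card F + 1 ∨ k ∣ Fintype.card F - 1 := by
    refine hk.imp (fun h => h.trans (Nat.div_dvd_of_dvd ?_)) (fun h => h.trans (Nat.div_dvd_of_dvd (Nat.gcd_dvd_right _ _)))
    rw [hd]; split_ifs <;> omega
  have h20 : p ≠ 2 → (2 : F) ≠ 0 := fun hp => Cfsg.Lib.Dickson.two_ne_zero_of_odd (hparity.mpr hp)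
  -- small `k`
  rcases Nat.lt_or_ge k 3 with hsmall | hbig
  · have hcard : Nat.card H = k ∨ Nat.card H = 2 * k :=
      hH.imp (fun h => h.2) fun ⟨e⟩ => by rw [Nat.card_congr e.toEquiv, DihedralGroup.nat_card]
    have hpos : 0 < Nat.card H := Nat.card_pos
    have h1 : Nat.card H ≠ 1 := fun h => hbot (Subgroup.eq_bot_of_card_eq H h)
    have hsq : ∀ x : ↥H, x * x = 1 := by
      intro x
      rcases hH with ⟨-, hc⟩ | ⟨⟨e⟩⟩
      · have := pow_card_eq_one' (x := x)
        rw [hc] at this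
        interval_cases k
        · omega
        · rw [pow_one] at this; rw [this, one_mul]
        · rwa [sq] at this
      · refine e.injective ?_
        rw [map_mul, map_one]
        interval_cases k
        · rw [Nat.card_congr e.toEquiv, DihedralGroup.nat_card] at hpos; omega
        · exact dihedral_small.1 _
        · exact dihedral_small.2.1 _
    rcases eq_or_ne p 2 with rfl | hp2
    · -- order two in characteristic two
      have hk1 : k ≠ 2 := fun h => by
        have := hparity.not.mpr (by simp)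
        rcases hk' with h' | h' <;> rw [h] at h' <;> omega
      refine good_of_borel 2 hn hb ?_ ?_
      · rcases hcard with h | h
        · interval_cases k <;> omega
        · exact ⟨k, h⟩
      · have hP : IsPGroup 2 H := fun x => ⟨1, by rw [pow_one, sq]; exact hsq x⟩
        obtain ⟨P, hP'⟩ := hP.exists_le_sylow
        exact ⟨P, hP'.trans Subgroup.le_normalizer⟩
    · exfalso
      have hS : ∀ u ∈ pre H, Cen u ∨ tr u = 0 := by
        intro u hu
        by_cases hc : Cen u
        · exact Or.inl hc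
        · refine Or.inr (tr_eq_zero_of_sq hc (mk_eq_one_iff.mp ?_))
          rw [QuotientGroup.mk_mul]
          exact congrArg Subtype.val (hsq ⟨_, hu⟩)
      obtain ⟨x, hx, hx1⟩ : ∃ x ∈ H, x ≠ (1 : PSL2) := by
        obtain ⟨⟨x, hx⟩, hx1⟩ := (Subgroup.ne_bot_iff_exists_ne_one.mp hbot)
        exact ⟨x, hx, fun h => hx1 (Subtype.ext h)⟩
      obtain ⟨s, rfl⟩ := QuotientGroup.mk_surjective x
      exact inv_case (h20 hp2) (prime_pow_cases h4 h5 p hp2).1 (isBin_pre hb) (neg_one_mem_pre H) hS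
        (s := s) hx ((hS s hx).resolve_left fun h => hx1 (mk_eq_one_iff.mpr h))
  -- `k ≥ 3`
  obtain ⟨r, hr, hrN, hrC⟩ : ∃ r : ↥H, orderOf r = k ∧ (∀ x : ↥H, x * r * x⁻¹ = r ∨ x * r * x⁻¹ = r⁻¹) ∧
      (∀ x : ↥H, x * r = r * x → ∃ i : ℤ, r ^ i = x) := by
    rcases hH with ⟨hc, hcard⟩ | ⟨⟨e⟩⟩
    · obtain ⟨r, hr⟩ := IsCyclic.exists_generator (α := ↥H)
      refine ⟨r, by rw [← hcard]; exact orderOf_eq_card_of_forall_mem_zpowers hr, fun x => ?_,
        fun x _ => Subgroup.mem_zpowers_iff.mp (hr x)⟩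
      left
      obtain ⟨i, rfl⟩ := Subgroup.mem_zpowers_iff.mp (hr x)
      rw [(Commute.zpow_self r i).eq, mul_inv_cancel_right]
    · refine ⟨e.symm (DihedralGroup.r 1), by rw [e.symm.orderOf_eq, DihedralGroup.orderOf_r_one],
        fun x => ?_, fun x hx => ?_⟩
      · rcases dihedral_comm_rot hbig (e x) with h | h
        · left; apply e.injective; simpa using h
        · right; apply e.injective; simpa using h
      · obtain ⟨i, hi⟩ := dihedral_centralizer hbig (e x) (by
          rw [← e.apply_symm_apply (DihedralGroup.r 1), ← map_mul, ← map_mul, hx])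
        exact ⟨i, e.injective (by rw [map_zpow, e.apply_symm_apply, hi])⟩
  obtain ⟨g, hg⟩ := QuotientGroup.mk_surjective (r : PSL2)
  have hgH : g ∈ pre H := by rw [mem_pre, hg]; exact r.2
  have hord : orderOf (QuotientGroup.mk g : PSL2) = k := by rw [hg, Subgroup.orderOf_coe, hr]
  have ht0 : tr g ≠ 0 := fun h => by
    have := orderOf_dvd_of_pow_eq_one (show (QuotientGroup.mk g : PSL2) ^ 2 = 1 by rw [sq]; exact mk_sq_cen h)
    rw [hord] at this
    have := Nat.le_of_dvd (by norm_num) this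
    omega
  have ht4 : tr g ^ 2 ≠ 4 := fun h => by
    have h' := orderOf_dvd_of_pow_eq_one (mk_pow_p p h)
    rw [hord] at h'
    rcases (Nat.dvd_prime Fact.out).mp h' with h1 | h1
    · omega
    · have hq := hpq
      rw [← h1] at hq
      rcases hk' with h2 | h2
      · have := (Nat.dvd_add_right hq).mp h2
        have := Nat.le_of_dvd (by norm_num) this
        omega
      · have := Nat.dvd_sub hq h2
        rw [Nat.sub_sub_self (by omega)] at this
        have := Nat.le_of_dvd (by norm_num) this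
        omega
  have hN : ∀ u ∈ pre H, u * g * u⁻¹ = g ∨ u * g * u⁻¹ = g⁻¹ := fun u hu => by
    refine lift_conj ht0 ?_
    rw [hg]
    exact (hrN ⟨_, hu⟩).imp (congrArg Subtype.val) (congrArg Subtype.val)
  by_cases hsplit : k ∣ (Fintype.card F - 1) / Nat.gcd 2 (Fintype.card F - 1)
  · exact (split_case (isBin_pre hb) hgH (not_cen_sq ht0 ht4)
      (pow_card_eq_self p (orderOf_dvd_iff_pow_eq_one.mp (hord ▸ hsplit))) hN).elim
  have hns : k ∣ (Fintype.card F + 1) / Nat.gcd 2 (Fintype.card F - 1) := hk.resolve_right hsplit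
  have ht1k : tr g = 1 → k = 3 := fun h => by
    have h3 : (QuotientGroup.mk g : PSL2) ^ 3 = 1 := by
      rw [pow_succ, sq, ← QuotientGroup.mk_mul, ← QuotientGroup.mk_mul, cube_of_tr_one h]
      exact mk_eq_one_iff.mpr (Or.inr rfl)
    have := Nat.le_of_dvd (by norm_num) (hord ▸ orderOf_dvd_of_pow_eq_one h3)
    omega
  have ht2k : (2 : F) ≠ 0 → tr g ^ 2 = 2 → k = 4 := fun h2 h => by
    have h0 : tr (g * g) = 0 := by rw [tr_sq, h, sub_self]
    have h4' : (QuotientGroup.mk g : PSL2) ^ 4 = 1 := by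
      rw [show 4 = 2 * 2 from rfl, pow_mul, sq, sq, ← QuotientGroup.mk_mul]
      exact mk_sq_cen h0
    have hdvd := hord ▸ orderOf_dvd_of_pow_eq_one h4'
    have := Nat.le_of_dvd (by norm_num) hdvd
    interval_cases k
    · omega
    · rfl
  rcases hH with ⟨hc, hcard⟩ | ⟨⟨e⟩⟩
  · -- cyclic
    by_cases ht1 : (2 : F) = 0 ∧ tr g = 1
    · have hp : p = 2 := by_contra fun hp => h20 hp ht1.1
      subst hp
      refine Or.inr ⟨⟨n, ?_, hn⟩, by rw [hcard, ht1k ht1.2]⟩
      rw [ht1k ht1.2, hd, if_neg (by rw [hparity]; simp), Nat.div_one, hn] at hns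
      by_contra hev
      obtain ⟨j, rfl⟩ := Nat.not_odd_iff_even.mp hev
      rw [← two_mul, pow_mul] at hns
      have : (2 ^ 2) ^ j % 3 = 1 := by rw [Nat.pow_mod]; norm_num
      omega
    · refine (cyclic_case (isBin_pre hb) (neg_one_mem_pre H) hgH ht0 ht4 (fun h h' => ht1 ⟨h, h'⟩) ?_).elim
      intro u hu
      rcases hN u hu with h | h
      · exact mul_inv_eq_iff_eq_mul.mp h
      · exfalso
        obtain ⟨z, hz⟩ := hc.exists_generator
        obtain ⟨i, hi⟩ := Subgroup.mem_zpowers_iff.mp (hz r)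
        obtain ⟨j, hj⟩ := Subgroup.mem_zpowers_iff.mp (hz ⟨_, hu⟩)
        have hcomm : (⟨_, hu⟩ : ↥H) * r = r * ⟨_, hu⟩ := by
          rw [← hi, ← hj, (Commute.zpow_zpow (Commute.refl z) j i).eq]
        have h' : (QuotientGroup.mk u : PSL2) * QuotientGroup.mk g = QuotientGroup.mk g * QuotientGroup.mk u := by
          rw [hg]; exact congrArg Subtype.val hcomm
        exact not_comm_of_inverts (not_cen_sq ht0 ht4) h (lift_comm ht0 h')
  -- dihedral
  exfalso
  obtain ⟨s, hs⟩ := QuotientGroup.mk_surjective ((e.symm (DihedralGroup.sr 0) : ↥H) : PSL2)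
  have hsH : s ∈ pre H := by rw [mem_pre, hs]; exact SetLike.coe_mem _
  have hsg : s * g * s⁻¹ = g⁻¹ := by
    refine (hN s hsH).resolve_left fun h => ?_
    have hcomm : (⟨_, hsH⟩ : ↥H) * r = r * ⟨_, hsH⟩ := Subtype.ext (by
      rw [Subgroup.coe_mul, Subgroup.coe_mul, ← hg]
      show QuotientGroup.mk s * QuotientGroup.mk g = QuotientGroup.mk g * QuotientGroup.mk s
      rw [← QuotientGroup.mk_mul, ← QuotientGroup.mk_mul, mul_inv_eq_iff_eq_mul.mp h])
    obtain ⟨i, hi⟩ := hrC _ hcomm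
    have hrot : ∀ j : ℤ, ∃ l, e (r ^ j) = DihedralGroup.r l := by
      intro j
      obtain ⟨l, hl⟩ : ∃ l, e r = DihedralGroup.r l := by
        cases hx : e r with
        | r l => exact ⟨l, rfl⟩
        | sr l =>
          exfalso
          have h2 : orderOf (e r) = 2 := by rw [hx, DihedralGroup.orderOf_sr]
          rw [e.orderOf_eq, hr] at h2
          omega
      rw [map_zpow, hl]
      exact ⟨l * (j : ZMod k), by rw [DihedralGroup.r_zpow]⟩
    obtain ⟨l, hl⟩ := hrot i
    rw [hi, show (⟨_, hsH⟩ : ↥H) = e.symm (DihedralGroup.sr 0) from Subtype.ext hs, e.apply_symm_apply] at hl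
    cases hl
  rcases eq_or_ne p 2 with rfl | hp2
  · have h2 : (2 : F) = 0 := CharTwo.two_eq_zero
    by_cases ht1 : tr g = 1
    · have hk3 := ht1k ht1
      rw [hk3, hd, if_neg (by rw [hparity]; simp), Nat.div_one] at hns
      have hq8 : 6 < Fintype.card F := by
        by_contra hlt
        interval_cases hq : Fintype.card F <;> omega
      refine small_dihedral_case (isBin_pre hb) (neg_one_mem_pre H) hgH hsH ht0 ht4 hsg hN {1, g, g⁻¹}
        (fun u hu hcomm => ?_) ?_ (Or.inl ⟨h2, hq8⟩)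
      · obtain ⟨i, hi⟩ := hrC ⟨_, hu⟩ (Subtype.ext (by
          rw [Subgroup.coe_mul, Subgroup.coe_mul, ← hg]
          show QuotientGroup.mk u * QuotientGroup.mk g = QuotientGroup.mk g * QuotientGroup.mk u
          rw [← QuotientGroup.mk_mul, ← QuotientGroup.mk_mul, hcomm]))
        have hi' : (QuotientGroup.mk g : PSL2) ^ i = QuotientGroup.mk u := by
          rw [hg, ← Subgroup.coe_zpow, hi]; rfl
        rw [← zpow_mod_orderOf, hord, hk3] at hi'
        have h0 := Int.emod_nonneg i (show ((3 : ℕ) : ℤ) ≠ 0 by norm_num)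
        have h1 := Int.emod_lt_of_pos i (show (0 : ℤ) < ((3 : ℕ) : ℤ) by norm_num)
        simp only [Finset.mem_insert, Finset.mem_singleton]
        interval_cases hj : i % ((3 : ℕ) : ℤ)
        · rw [zpow_zero, ← QuotientGroup.mk_one, mk_eq_mk_iff, neg_eq_of_char_two, or_self] at hi'
          left; exact hi'
        · rw [zpow_one, mk_eq_mk_iff, neg_eq_of_char_two, or_self] at hi'
          right; left; exact hi'
        · rw [show (2 : ℤ) = ((2 : ℕ) : ℤ) from rfl, zpow_natCast, ← QuotientGroup.mk_pow, mk_eq_mk_iff,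
            neg_eq_of_char_two, or_self] at hi'
          right; right
          rw [hi']
          refine eq_inv_of_mul_eq_one_left ?_
          rw [sq, cube_of_tr_one ht1, neg_eq_of_char_two]
      · have := Finset.card_le_three (a := (1 : SL2)) (b := g) (c := g⁻¹)
        omega
    · exact dihedral_case (isBin_pre hb) (neg_one_mem_pre H) hgH hsH ht0 ht4 hsg hN (Or.inl ⟨h2, ht1⟩)
        fun ι _ _ _ h => absurd h2 h
  have h2 := h20 hp2
  rw [hd, if_pos (hparity.mpr hp2)] at hns
  have hlift : ∀ u ∈ pre H, u * g = g * u → ∃ i : ℤ, (QuotientGroup.mk g : PSL2) ^ i = QuotientGroup.mk u := by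
    intro u hu hcomm
    obtain ⟨i, hi⟩ := hrC ⟨_, hu⟩ (Subtype.ext (by
      rw [Subgroup.coe_mul, Subgroup.coe_mul, ← hg]
      show QuotientGroup.mk u * QuotientGroup.mk g = QuotientGroup.mk g * QuotientGroup.mk u
      rw [← QuotientGroup.mk_mul, ← QuotientGroup.mk_mul, hcomm]))
    exact ⟨i, by rw [hg, ← Subgroup.coe_zpow, hi]; rfl⟩
  by_cases ht2 : tr g ^ 2 = 2
  · have hk4 := ht2k h2 ht2
    subst hk4
    have hg20 : tr (g * g) = 0 := by rw [tr_sq, ht2, sub_self]
    by_cases hq : Fintype.card F = 7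
    · -- a Sylow subgroup of order eight
      obtain ⟨h7, h7o⟩ := prime_pow_cases h4 h5 p hp2
      have hsx : (⟨_, hsH⟩ : ↥H) = e.symm (DihedralGroup.sr 0) := Subtype.ext hs
      have her : e (r * r) = DihedralGroup.r 2 := by
        have key : ∀ y : DihedralGroup 4, y * y ≠ 1 → y * y = DihedralGroup.r 2 := by decide +kernel
        rw [map_mul]
        refine key _ fun h => ?_
        rw [← map_mul, e.map_eq_one_iff] at h
        have := Nat.le_of_dvd (by norm_num) (orderOf_dvd_of_pow_eq_one (show r ^ 2 = 1 by rw [sq, h]))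
        omega
      refine seven_case hq (isBin_pre hb) (s := g * g) (t := s) hg20
        (tr_eq_zero_of_inverts (not_cen_sq ht0 ht4) hsg) ?_ (fun u hu => ?_) (Or.inl ⟨?_, fun u hu => ?_⟩)
      · have := inverts_sq hsg
        rw [mul_inv_eq_iff_eq_mul, inv_eq_neg hg20, neg_mul] at this
        exact this
      · constructor
        · rcases hN u hu with h | h
          · rw [show u * (g * g) * u⁻¹ = (u * g * u⁻¹) * (u * g * u⁻¹) by group, h]; simp
          · rw [inverts_sq h, inv_eq_neg hg20]; simp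
        · have hx : (QuotientGroup.mk (u * s * u⁻¹) : PSL2) = QuotientGroup.mk s ∨
              (QuotientGroup.mk (u * s * u⁻¹) : PSL2) = QuotientGroup.mk (g * g * s) := by
            rw [QuotientGroup.mk_mul, QuotientGroup.mk_mul, QuotientGroup.mk_mul, QuotientGroup.mk_mul,
              QuotientGroup.mk_inv, hg]
            refine (dihedral_small.2.2 (e ⟨_, hu⟩)).imp (fun h => ?_) (fun h => ?_)
            · rw [← e.apply_symm_apply (DihedralGroup.sr 0), ← hsx, ← map_mul, ← map_inv, ← map_mul] at h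
              exact congrArg Subtype.val (e.injective h)
            · rw [← e.apply_symm_apply (DihedralGroup.sr 0), ← hsx, ← her, ← map_mul, ← map_inv, ← map_mul,
                ← map_mul] at h
              exact congrArg Subtype.val (e.injective h)
          rcases hx with h | h <;> rcases mk_eq_mk_iff.mp h.symm with h' | h' <;> rw [h'] <;> simp
      · rw [pre, Cfsg.Lib.Dickson.card_comap_mk, hq, Nat.card_congr e.toEquiv, DihedralGroup.nat_card]
        norm_num
      · rcases hN u hu with h | h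
        · left; rw [show u * (g * g) * u⁻¹ = (u * g * u⁻¹) * (u * g * u⁻¹) by group, h]
        · right; rw [inverts_sq h, inv_eq_neg hg20]
    · have hq11 : 11 ≤ Fintype.card F := by
        have := (Nat.dvd_div_iff_mul_dvd (show 2 ∣ Fintype.card F + 1 by
          have := hparity.mpr hp2; omega)).mp hns
        have := (prime_pow_cases h4 h5 p hp2).1
        omega
      refine small_dihedral_case (isBin_pre hb) (neg_one_mem_pre H) hgH hsH ht0 ht4 hsg hN
        {1, -1, g, -g, g * g, -(g * g), g * g * g, -(g * g * g)} (fun u hu hcomm => ?_) ?_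
        (Or.inr ⟨h2, ht2, hq11⟩)
      · obtain ⟨i, hi⟩ := hlift u hu hcomm
        rw [← zpow_mod_orderOf, hord] at hi
        have h0 := Int.emod_nonneg i (show ((4 : ℕ) : ℤ) ≠ 0 by norm_num)
        have h1 := Int.emod_lt_of_pos i (show (0 : ℤ) < ((4 : ℕ) : ℤ) by norm_num)
        simp only [Finset.mem_insert, Finset.mem_singleton]
        interval_cases hj : i % ((4 : ℕ) : ℤ)
        · rw [zpow_zero, ← QuotientGroup.mk_one, mk_eq_mk_iff] at hi
          rcases hi with h | h <;> simp [h]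
        · rw [zpow_one, mk_eq_mk_iff] at hi
          rcases hi with h | h <;> simp [h]
        · rw [show (2 : ℤ) = ((2 : ℕ) : ℤ) from rfl, zpow_natCast, ← QuotientGroup.mk_pow, mk_eq_mk_iff, sq] at hi
          rcases hi with h | h <;> simp [h]
        · rw [show (3 : ℤ) = ((3 : ℕ) : ℤ) from rfl, zpow_natCast, ← QuotientGroup.mk_pow, mk_eq_mk_iff,
            pow_succ, sq] at hi
          rcases hi with h | h <;> simp [h]
      · have : ({1, -1, g, -g, g * g, -(g * g), g * g * g, -(g * g * g)} : Finset SL2).card ≤ 8 := by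
          iterate 7 refine (Finset.card_insert_le _ _).trans (Nat.succ_le_succ ?_)
          exact (Finset.card_singleton _).le
        omega
  · refine dihedral_case (isBin_pre hb) (neg_one_mem_pre H) hgH hsH ht0 ht4 hsg hN (Or.inr ⟨h2, ht2⟩) ?_
    intro ι hι hι0 hιg _
    obtain ⟨i, hi⟩ := hlift ι hι hιg
    have hi2 : orderOf ((QuotientGroup.mk g : PSL2) ^ i) = 2 := by
      haveI : Fact (Nat.Prime 2) := ⟨Nat.prime_two⟩
      rw [hi]
      refine orderOf_eq_prime (by rw [sq]; exact mk_sq_cen hι0) fun h => ?_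
      exact not_cen_of_tr_zero h2 hι0 (mk_eq_one_iff.mp h)
    have hkeven : 2 ∣ k := by
      rw [← hi2, ← hord]
      exact orderOf_dvd_of_pow_eq_one (by rw [← zpow_natCast, ← _root_.zpow_mul, mul_comm, _root_.zpow_mul, zpow_natCast,
        pow_orderOf_eq_one, _root_.one_zpow])
    have hk4 : k ≠ 4 := fun h => ht2 (by
      have h0 : tr (g * g) = 0 := by
        refine tr_eq_zero_of_sq (fun hc => ?_) (mk_eq_one_iff.mp ?_)
        · have := orderOf_dvd_of_pow_eq_one (show (QuotientGroup.mk g : PSL2) ^ 2 = 1 by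
            rw [sq, ← QuotientGroup.mk_mul]; exact mk_eq_one_iff.mpr hc)
          rw [hord, h] at this
          norm_num at this
        · rw [QuotientGroup.mk_mul, QuotientGroup.mk_mul, ← sq, ← sq, ← pow_mul, ← orderOf_dvd_iff_pow_eq_one,
            hord, h]
      rw [tr_sq] at h0
      linear_combination h0)
    have := Nat.le_of_dvd (by omega) hns
    omega

/-- The classification. -/
theorem isBin_iff_psl (h4 : 4 ≤ Fintype.card F) (h5 : Fintype.card F ≠ 5) (H : Subgroup PSL2) (htop : H ≠ ⊤) :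
    IsBin H ↔ H = ⊥ ∨ Good H := by
  obtain ⟨p, hp⟩ := CharP.exists F
  obtain ⟨n', hpp, hn⟩ := FiniteField.card F p
  haveI := Fact.mk hpp
  have hn0 : (n' : ℕ) ≠ 0 := n'.pos.ne'
  classical
  constructor
  · intro hb
    by_cases hbot : H = ⊥
    · exact Or.inl hbot
    right
    rcases Cfsg.Lib.Dickson.psl_subgroup_cases p H with ⟨k, hk, hH⟩ | ⟨hdvd, hP⟩ | ⟨hnn, hcases⟩
    · exact good_of_torus h4 h5 p hn hbot hb hk hH
    · exact good_of_borel p hn hb hdvd hP
    rcases hcases with ⟨⟨e⟩⟩ | ⟨⟨e⟩⟩ | ⟨⟨e⟩⟩ | ⟨K, _, _, m, hKp, h3, hm, hiso⟩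
    · exact good_of_a4 h4 h5 p hn hb e
    · exact good_of_s4 h4 h5 p hn hb e
    · exact (false_of_a5 h4 h5 htop hb e).elim
    · haveI := hKp
      exact good_of_field h4 h5 p hn htop hb hnn h3 hm hiso
  · have hp2 : ∀ a : ℕ, Fintype.card F = 2 ^ a → p = 2 := fun a ha => by
      refine (Nat.prime_dvd_prime_iff_eq hpp Nat.prime_two).mp (hpp.dvd_of_dvd_pow (n := a) ?_)
      rw [← ha, hn]; exact dvd_pow_self p hn0
    rintro (rfl | ⟨⟨a, ha⟩, P, rfl⟩ | ⟨⟨a, ha_odd, ha⟩, hc⟩)
    · exact isBin_bot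
    · obtain rfl := hp2 a ha
      exact isBin_sylow P
    · obtain rfl := hp2 a ha
      refine isBin_three (fun β hβ => ?_) H hc
      have hβ0 : β ≠ 0 := fun h => by simp [h] at hβ
      have h3 : ¬ 3 ∣ Fintype.card F - 1 := by
        obtain ⟨j, rfl⟩ := ha_odd
        have : (2 ^ 2) ^ j % 3 = 1 := by rw [Nat.pow_mod]; norm_num
        rw [ha, pow_succ, pow_mul]
        have := Nat.one_le_pow j (2 ^ 2) (by norm_num)
        omega
      obtain ⟨b, hb⟩ : ∃ b : Fˣ, (b : F) = β := ⟨Units.mk0 β hβ0, rfl⟩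
      have h' : b ^ 3 = 1 := Units.ext (by simp [hb, hβ])
      have hd1 := orderOf_dvd_of_pow_eq_one h'
      have hd2 := orderOf_dvd_natCard b
      rw [Nat.card_eq_fintype_card, Fintype.card_units] at hd2
      rcases (Nat.dvd_prime Nat.prime_three).mp hd1 with e | e
      · rw [← hb, orderOf_eq_one_iff.mp e, Units.val_one]
      · rw [e] at hd2; exact absurd hd2 h3

end Cfsg.Lib.Binary
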