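import Cfsg.Agent.Lib.Binary.PSLBasic
import Cfsg.Agent.Lib.Dickson.CentralizerCard

/-!
# The binary coset actions of `PSL(2, q)`
-/

set_option autoImplicit false
set_option linter.unusedSectionVars false

namespace Cfsg.Lib.Binary

open Matrix

/-- A criterion for binarity when the conjugates of the stabiliser meet trivially. -/
theorem isBin_of_TI {G : Type*} [Group G] {H : Subgroup G}
    (hTI : ∀ σ u, u ≠ 1 → u ∈ H → σ⁻¹ * u * σ ∈ H → ∀ x ∈ H, σ⁻¹ * x * σ ∈ H)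
    (hno : ∀ a b c u v, u ≠ 1 → v ≠ 1 → u ≠ v → a⁻¹ * u * a ∈ H → b⁻¹ * v * b ∈ H →
      c⁻¹ * (u⁻¹ * v) * c ∈ H → a⁻¹ * v * a ∈ H) : IsBin H := by
  intro n a b hn hp
  have hdiv : ∀ {g g' : G} {i : Fin n}, Sends H g (a i) (b i) → Sends H g' (a i) (b i) →
      (a i)⁻¹ * (g⁻¹ * g') * a i ∈ H := fun {g g' i} h1 h2 => by
    have := mul_mem (inv_mem h1) h2
    rwa [show ((b i)⁻¹ * g * a i)⁻¹ * ((b i)⁻¹ * g' * a i) = (a i)⁻¹ * (g⁻¹ * g') * a i by group] at this
  have hstep : ∀ {g u : G} {i : Fin n}, Sends H (g * u) (a i) (b i) →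
      (a i)⁻¹ * u * a i ∈ H → Sends H g (a i) (b i) := fun {g u i} h1 h2 => by
    have := mul_mem h1 (inv_mem h2)
    rwa [show (b i)⁻¹ * (g * u) * a i * ((a i)⁻¹ * u * a i)⁻¹ = (b i)⁻¹ * g * a i by group] at this
  obtain ⟨i₀, hi₀⟩ : ∃ i₀ : Fin n, (i₀ : ℕ) = 0 := ⟨⟨0, by omega⟩, rfl⟩
  by_cases hall : ∀ i x, (a i₀)⁻¹ * x * a i₀ ∈ H → (a i)⁻¹ * x * a i ∈ H
  · obtain ⟨i₁, hi₁⟩ : ∃ i₁ : Fin n, i₁ ≠ i₀ := ⟨⟨1, by omega⟩, fun e => by simp [← e] at hi₀⟩
    obtain ⟨g, hg0, -⟩ := hp i₀ i₁ hi₁.symm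
    refine ⟨g, fun i => ?_⟩
    by_cases hi : i = i₀
    · rw [hi]; exact hg0
    obtain ⟨g', h1, h2⟩ := hp i₀ i (Ne.symm hi)
    exact hstep (by rwa [mul_inv_cancel_left]) (hall i _ (hdiv hg0 h1))
  push Not at hall
  obtain ⟨i₁, x, hx0, hx1⟩ := hall
  have hi₁ : i₁ ≠ i₀ := fun e => hx1 (e ▸ hx0)
  -- the two stabilisers meet trivially
  have htriv : ∀ u, (a i₀)⁻¹ * u * a i₀ ∈ H → (a i₁)⁻¹ * u * a i₁ ∈ H → u = 1 := fun u h1 h2 => by
    by_contra hu
    refine hx1 ?_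
    have := hTI ((a i₀)⁻¹ * a i₁) _ (fun e => hu (by
        rw [← mul_inv_cancel_left (a i₀) u, ← mul_inv_cancel_right ((a i₀)⁻¹ * u) (a i₀), e]; group)) h1
      (by rwa [show ((a i₀)⁻¹ * a i₁)⁻¹ * ((a i₀)⁻¹ * u * a i₀) * ((a i₀)⁻¹ * a i₁) = (a i₁)⁻¹ * u * a i₁ by group])
      _ hx0
    rwa [show ((a i₀)⁻¹ * a i₁)⁻¹ * ((a i₀)⁻¹ * x * a i₀) * ((a i₀)⁻¹ * a i₁) = (a i₁)⁻¹ * x * a i₁ by group] at this
  obtain ⟨g, hg0, hg1⟩ := hp i₀ i₁ hi₁.symm
  refine ⟨g, fun k => ?_⟩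
  by_cases hk0 : k = i₀
  · rw [hk0]; exact hg0
  by_cases hk1 : k = i₁
  · rw [hk1]; exact hg1
  obtain ⟨g₂, h20, h2k⟩ := hp i₀ k (Ne.symm hk0)
  obtain ⟨g₃, h31, h3k⟩ := hp i₁ k (Ne.symm hk1)
  obtain ⟨u, hu⟩ : ∃ u, u = g⁻¹ * g₂ := ⟨_, rfl⟩
  obtain ⟨v, hv⟩ : ∃ v, v = g⁻¹ * g₃ := ⟨_, rfl⟩
  have hu0 : (a i₀)⁻¹ * u * a i₀ ∈ H := hu ▸ hdiv hg0 h20
  have hv1 : (a i₁)⁻¹ * v * a i₁ ∈ H := hv ▸ hdiv hg1 h31
  have hwk : (a k)⁻¹ * (u⁻¹ * v) * a k ∈ H := by
    rw [hu, hv, show (g⁻¹ * g₂)⁻¹ * (g⁻¹ * g₃) = g₂⁻¹ * g₃ by group]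
    exact hdiv h2k h3k
  by_cases hu1 : u = 1
  · rwa [inv_mul_eq_one.mp (hu.symm.trans hu1)]
  by_cases hv1' : v = 1
  · rwa [inv_mul_eq_one.mp (hv.symm.trans hv1')]
  exfalso
  by_cases huv : u = v
  · exact hu1 (htriv u hu0 (huv ▸ hv1))
  exact hv1' (htriv v (hno _ _ _ u v hu1 hv1' huv hu0 hv1 hwk) hv1)

variable {F : Type*} [Field F] [Fintype F]

local notation "SL2" => Matrix.SpecialLinearGroup (Fin 2) F
local notation "PSL2" => Matrix.ProjectiveSpecialLinearGroup (Fin 2) F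
local notation "M2" => Matrix (Fin 2) (Fin 2) F

/-- The action on the cosets of a Sylow `2`-subgroup in characteristic two is binary. -/
theorem isBin_sylow [CharP F 2] [Fact (Nat.Prime 2)] (P : Sylow 2 PSL2) :
    IsBin (P : Subgroup PSL2) := by
  have hC : ∀ u ∈ (P : Subgroup PSL2), u ≠ 1 → ∀ y, y * u = u * y → y ∈ (P : Subgroup PSL2) :=
    fun u hu hu1 y hy => by
      rw [← Cfsg.Lib.Dickson.centralizer_eq_sylow 2 P hu hu1]
      exact Subgroup.mem_centralizer_singleton_iff.mpr hy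
  have hP : ∀ u ∈ (P : Subgroup PSL2), u * u = 1 ∧ ∀ v ∈ (P : Subgroup PSL2), v * u = u * v := by
    obtain ⟨g, hg⟩ := MulAction.exists_smul_eq PSL2 (Cfsg.Lib.Dickson.stdSylow (F := F) 2) P
    subst hg
    rw [Sylow.coe_subgroup_smul]
    have hsq : ∀ w ∈ ((Cfsg.Lib.Dickson.stdSylow (F := F) 2) : Subgroup PSL2), w * w = 1 := by
      intro w hw
      rw [Cfsg.Lib.Dickson.stdSylow_coe] at hw
      obtain ⟨w, hw', rfl⟩ := hw
      obtain ⟨w00, w11, w10⟩ := Cfsg.Lib.Linear.Two.mem_UT.mp hw'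
      show QuotientGroup.mk (w * w) = (1 : PSL2)
      rw [mk_eq_one_iff, cen_iff]
      simp only [mul_00, mul_01, mul_10, mul_11, w00, w11, w10]
      exact ⟨by rw [one_mul, mul_one]; exact CharTwo.add_self_eq_zero _, by ring, by ring⟩
    rintro _ ⟨a, ha, rfl⟩
    simp only [MulDistribMulAction.toMonoidEnd_apply, MulDistribMulAction.toMonoidHom_apply, MulAut.smul_def,
      MulAut.conj_apply]
    refine ⟨by rw [show g * a * g⁻¹ * (g * a * g⁻¹) = g * (a * a) * g⁻¹ by group, hsq a ha]; group, ?_⟩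
    rintro _ ⟨b, hb, rfl⟩
    simp only [MulDistribMulAction.toMonoidEnd_apply, MulDistribMulAction.toMonoidHom_apply, MulAut.smul_def,
      MulAut.conj_apply]
    have := hsq _ (mul_mem ha hb)
    have hba : b * a = a * b := by
      calc b * a = a⁻¹ * (a * b * (a * b)) * b⁻¹ := by group
        _ = a * b := by
          rw [this, inv_eq_of_mul_eq_one_right (hsq a ha), inv_eq_of_mul_eq_one_right (hsq b hb), mul_one]
    calc g * b * g⁻¹ * (g * a * g⁻¹) = g * (b * a) * g⁻¹ := by group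
      _ = g * a * g⁻¹ * (g * b * g⁻¹) := by rw [hba]; group
  refine isBin_of_TI (fun σ u hu1 hu hσ x hx => ?_) (fun a b c u v hu1 _ _ hua hvb hwc => ?_)
  · refine hC _ hσ (fun e => hu1 ?_) _ ?_
    · calc u = σ * (σ⁻¹ * u * σ) * σ⁻¹ := by group
        _ = 1 := by rw [e]; group
    · calc σ⁻¹ * x * σ * (σ⁻¹ * u * σ) = σ⁻¹ * (x * u) * σ := by group
        _ = σ⁻¹ * u * σ * (σ⁻¹ * x * σ) := by rw [(hP u hu).2 x hx]; group
  · have hinv : ∀ {d w : PSL2}, d⁻¹ * w * d ∈ (P : Subgroup PSL2) → w * w = 1 := fun {d w} hw => by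
      calc w * w = d * ((d⁻¹ * w * d) * (d⁻¹ * w * d)) * d⁻¹ := by group
        _ = 1 := by rw [(hP _ hw).1]; group
    have e := hinv hwc
    rw [inv_eq_of_mul_eq_one_right (hinv hua)] at e
    have hvu : v * u = u * v := by
      calc v * u = u⁻¹ * (u * v * (u * v)) * v⁻¹ := by group
        _ = u * v := by
          rw [e, inv_eq_of_mul_eq_one_right (hinv hua), inv_eq_of_mul_eq_one_right (hinv hvb), mul_one]
    refine hC _ hua (fun e' => hu1 ?_) _ ?_
    · calc u = a * (a⁻¹ * u * a) * a⁻¹ := by group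
        _ = 1 := by rw [e']; group
    · calc a⁻¹ * v * a * (a⁻¹ * u * a) = a⁻¹ * (v * u) * a := by group
        _ = a⁻¹ * u * a * (a⁻¹ * v * a) := by rw [hvu]; group

theorem neg_eq_of_char_two [CharP F 2] (g : SL2) : -g = g := by
  apply sl_ext <;> rw [neg_apply] <;> exact CharTwo.neg_eq _

theorem eq_one_of_cen [CharP F 2] {g : SL2} (h : Cen g) : g = 1 :=
  h.elim id fun e => e.trans (neg_eq_of_char_two 1)

/-- Two elements of order three in characteristic two whose quotient also has order three commute. -/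
theorem commute_of_triangle [CharP F 2] (h3 : ∀ β : F, β ^ 3 = 1 → β = 1) {u v : SL2}
    (hu : u * u * u = 1) (hv : v * v * v = 1) (hu1 : tr u = 1) (hv1 : tr v = 1) (hw : tr (u⁻¹ * v) = 1) :
    u * v = v * u := by
  have h20 : (2 : F) = 0 := CharTwo.two_eq_zero
  have t0 : tr (u * v) = 0 := by
    have := tr_add u v
    rw [hu1, hv1, hw] at this
    linear_combination this
  have t0' : tr (v * u) = 0 := by rw [← tr_mul_comm]; exact t0
  have hsq : ∀ {g : SL2}, tr g = 0 → g * g = 1 := fun hg => by rw [sq_cen_of_tr hg, neg_eq_of_char_two]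
  have htt : tr (u * v * (v * u)) = 0 := by
    rw [show u * v * (v * u) = u * (v * v) * u by group, tr_mul_comm, ← mul_assoc,
      show u * u = u⁻¹ from eq_inv_of_mul_eq_one_left hu, show v * v = v⁻¹ from eq_inv_of_mul_eq_one_left hv,
      ← _root_.mul_inv_rev, tr_inv]
    exact t0'
  obtain ⟨T, hT⟩ : ∃ T, T = u * v := ⟨_, rfl⟩
  have hT' : v * u = u⁻¹ * T * u := by rw [hT]; group
  have hcomm : u⁻¹ * T * u * T = T * (u⁻¹ * T * u) := by
    have h1 := hsq htt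
    rw [← hT, hT'] at h1
    have a1 := hsq (hT ▸ t0 : tr T = 0)
    have a2 : (u⁻¹ * T * u) * (u⁻¹ * T * u) = 1 := by rw [← hT']; exact hsq t0'
    calc u⁻¹ * T * u * T = T⁻¹ * (T * (u⁻¹ * T * u) * (T * (u⁻¹ * T * u))) * (u⁻¹ * T * u)⁻¹ := by group
      _ = T * (u⁻¹ * T * u) := by
        rw [h1, inv_eq_of_mul_eq_one_right a1, inv_eq_of_mul_eq_one_right a2, mul_one]
  by_cases hTc : Cen T
  · have := eq_one_of_cen hTc
    rw [hT] at this
    rw [this, eq_inv_of_mul_eq_one_right this, inv_mul_cancel]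
  suffices hfix : u⁻¹ * T * u = T by
    rw [hT'.trans hfix, hT]
  obtain ⟨α, β, e00, e01, e10, e11⟩ := exists_coeff hTc hcomm
  have hmat : ((u⁻¹ * T * u : SL2) : M2) = α • (1 : M2) + β • (T : M2) := by
    ext i j
    fin_cases i <;> fin_cases j <;> simp [Matrix.add_apply, Matrix.smul_apply]
    exacts [e00, e01, e10, e11]
  obtain ⟨V, hV⟩ : ∃ V : M2, V = ((u⁻¹ : SL2) : M2) := ⟨_, rfl⟩
  obtain ⟨U, hU⟩ : ∃ U : M2, U = (u : M2) := ⟨_, rfl⟩
  have hVU : V * U = 1 := by rw [hV, hU, ← Matrix.SpecialLinearGroup.coe_mul, inv_mul_cancel]; rfl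
  rw [Matrix.SpecialLinearGroup.coe_mul, Matrix.SpecialLinearGroup.coe_mul, ← hU, ← hV] at hmat
  have step : ∀ a b : F, V * (a • (1 : M2) + b • (T : M2)) * U = (a + b * α) • (1 : M2) + (b * β) • (T : M2) := by
    intro a b
    rw [mul_add, add_mul, mul_smul_comm, mul_smul_comm, smul_mul_assoc, smul_mul_assoc, mul_one, hVU, hmat,
      smul_add, smul_smul, smul_smul, add_smul, add_assoc]
  have hcube : (T : M2) = V * (V * (V * (T : M2) * U) * U) * U := by
    rw [hV, hU]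
    simp only [← Matrix.SpecialLinearGroup.coe_mul]
    refine congrArg Subtype.val ?_
    calc T = (u * u * u)⁻¹ * T * (u * u * u) := by rw [hu]; group
      _ = _ := by group
  rw [hmat, step, step] at hcube
  have hb : β = 1 := by
    apply h3
    have a01 := congrFun (congrFun hcube 0) 1
    have a10 := congrFun (congrFun hcube 1) 0
    simp [Matrix.add_apply, Matrix.smul_apply] at a01 a10
    have hT11 : T.1 1 1 = T.1 0 0 := by
      have := hT ▸ t0
      simp only [tr] at this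
      linear_combination this - T.1 0 0 * h20
    have : T.1 0 1 ≠ 0 ∨ T.1 1 0 ≠ 0 := by
      by_contra hc
      push Not at hc
      exact hTc (cen_iff.mpr ⟨hc.1, hc.2, hT11⟩)
    rcases this with hne | hne
    · exact mul_right_cancel₀ hne (by linear_combination -a01)
    · exact mul_right_cancel₀ hne (by linear_combination -a10)
  have hd : (u⁻¹ * T * u).1 0 0 * (u⁻¹ * T * u).1 1 1 - (u⁻¹ * T * u).1 0 1 * (u⁻¹ * T * u).1 1 0 = 1 :=
    det_eq _
  rw [e00, e01, e10, e11, hb] at hd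
  have ht : T.1 0 0 + T.1 1 1 = 0 := hT ▸ t0
  have ha : α = 0 := by
    refine pow_eq_zero_iff two_ne_zero |>.mp ?_
    linear_combination hd - det_eq T - α * ht
  apply sl_ext
  · rw [e00, ha, hb]; ring
  · rw [e01, hb]; ring
  · rw [e10, hb]; ring
  · rw [e11, ha, hb]; ring

/-- A subgroup of order three, `q` an odd power of two. -/
theorem isBin_three [CharP F 2] (h3 : ∀ β : F, β ^ 3 = 1 → β = 1) (H : Subgroup PSL2)
    (hH : Nat.card H = 3) : IsBin H := by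
  haveI : Fact (Nat.Prime 3) := ⟨Nat.prime_three⟩
  haveI : Finite H := Nat.finite_of_card_ne_zero (by omega)
  have hgen : ∀ u ∈ H, u ≠ 1 → ∀ x ∈ H, ∃ n : ℤ, u ^ n = x := fun u hu hu1 x hx => by
    obtain ⟨n, hn⟩ := Subgroup.mem_zpowers_iff.mp
      (mem_zpowers_of_prime_card hH (g := (⟨u, hu⟩ : H)) (g' := ⟨x, hx⟩)
        (fun e => hu1 (congrArg Subtype.val e)))
    exact ⟨n, by simpa using congrArg Subtype.val hn⟩
  refine isBin_of_TI (fun σ u hu1 hu hσ x hx => ?_) ?_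
  · obtain ⟨n, rfl⟩ := hgen u hu hu1 x hx
    have h := conj_zpow (a := σ⁻¹) (b := u) (i := n)
    rw [inv_inv] at h
    rw [← h]
    exact zpow_mem hσ n
  intro a b c u v hu1 hv1 huv hua hvb hwc
  have cube : ∀ {d w : PSL2}, d⁻¹ * w * d ∈ H → w * w * w = 1 := fun {d w} hw => by
    have h := congrArg Subtype.val (pow_card_eq_one' (x := (⟨_, hw⟩ : H)))
    rw [hH] at h
    simp only [pow_succ, pow_zero, one_mul, Subgroup.coe_mul, Subgroup.coe_one] at h
    calc w * w * w = d * ((d⁻¹ * w * d) * (d⁻¹ * w * d) * (d⁻¹ * w * d)) * d⁻¹ := by group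
      _ = 1 := by rw [h]; group
  obtain ⟨U, rfl⟩ := QuotientGroup.mk_surjective u
  obtain ⟨V, rfl⟩ := QuotientGroup.mk_surjective v
  have c3 : ∀ {W : SL2}, (QuotientGroup.mk W : PSL2) * QuotientGroup.mk W * QuotientGroup.mk W = 1 →
      (QuotientGroup.mk W : PSL2) ≠ 1 → W * W * W = 1 ∧ tr W = 1 := by
    intro W hW hne
    rw [← QuotientGroup.mk_mul, ← QuotientGroup.mk_mul, mk_eq_one_iff] at hW
    have hW3 := eq_one_of_cen hW
    refine ⟨hW3, ?_⟩
    rw [Ne, mk_eq_one_iff] at hne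
    have e00 := congrArg (fun m : SL2 => m.1 0 0) hW3
    have e01 := congrArg (fun m : SL2 => m.1 0 1) hW3
    have e10 := congrArg (fun m : SL2 => m.1 1 0) hW3
    have e11 := congrArg (fun m : SL2 => m.1 1 1) hW3
    simp [mul_00, mul_01, mul_10, mul_11] at e00 e01 e10 e11
    have hd := det_eq W
    have k : ∀ z : F, z * (tr W ^ 2 - 1) = 0 → z = 0 ∨ tr W = 1 := fun z hz => by
      rcases mul_eq_zero.mp hz with e | e
      · exact Or.inl e
      · right
        exact sub_eq_zero.mp (pow_eq_zero_iff two_ne_zero |>.mp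
          (by linear_combination e + (1 - tr W) * CharTwo.two_eq_zero (R := F)))
    rcases k (W.1 0 1) (by unfold tr; linear_combination e01 + W.1 0 1 * hd) with k01 | k01
    swap
    · exact k01
    rcases k (W.1 1 0) (by unfold tr; linear_combination e10 + W.1 1 0 * hd) with k10 | k10
    swap
    · exact k10
    rcases k (W.1 0 0 - W.1 1 1) (by
      unfold tr; linear_combination e00 - e11 + (W.1 0 0 - W.1 1 1) * hd) with k00 | k00
    swap
    · exact k00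
    exact absurd (cen_iff.mpr ⟨k01, k10, (sub_eq_zero.mp k00).symm⟩) hne
  obtain ⟨hU, tU⟩ := c3 (cube hua) hu1
  obtain ⟨hV, tV⟩ := c3 (cube hvb) hv1
  obtain ⟨-, tW⟩ := c3 (W := U⁻¹ * V) (cube hwc) (fun e => huv (inv_mul_eq_one.mp e))
  have hcomm := commute_of_triangle h3 hU hV tU tV tW
  have hUc : ¬ Cen U := fun h => hu1 (mk_eq_one_iff.mpr h)
  obtain ⟨α, β, e00, e01, e10, e11⟩ := exists_coeff hUc hcomm.symm
  simp only [tr] at tU tV
  have hb : β = 1 := by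
    linear_combination -(e00 + e11) + tV - β * tU - α * (CharTwo.two_eq_zero (R := F))
  have hd := det_eq V
  rw [e00, e01, e10, e11, hb] at hd
  have ha : α * (α + 1) = 0 := by linear_combination hd - det_eq U - α * tU
  rcases mul_eq_zero.mp ha with h0 | h0
  · exfalso
    refine huv (congrArg _ (sl_ext ?_ ?_ ?_ ?_))
    · rw [e00, h0, hb]; ring
    · rw [e01, hb]; ring
    · rw [e10, hb]; ring
    · rw [e11, h0, hb]; ring
  · have hVU : V = U⁻¹ := by
      have h1 : α = 1 := by linear_combination h0 - CharTwo.two_eq_zero (R := F)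
      refine sl_ext ?_ ?_ ?_ ?_
      · rw [inv_00, e00, h1, hb]; linear_combination tU + (1 - U.1 1 1) * CharTwo.two_eq_zero (R := F)
      · rw [inv_01, e01, hb, CharTwo.neg_eq, one_mul]
      · rw [inv_10, e10, hb, CharTwo.neg_eq, one_mul]
      · rw [inv_11, e11, h1, hb]; linear_combination tU + (1 - U.1 0 0) * CharTwo.two_eq_zero (R := F)
    rw [hVU, QuotientGroup.mk_inv]
    have := inv_mem hua
    rwa [_root_.mul_inv_rev, _root_.mul_inv_rev, inv_inv, ← mul_assoc] at this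

end Cfsg.Lib.Binary
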