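import Cfsg.Agent.Lib.Binary.PSLBasic
import Cfsg.Agent.Lib.Dickson.Existence

/-!
# Cyclic, four-group and dihedral stabilisers give nonbinary actions
-/

set_option autoImplicit false
set_option linter.unusedSectionVars false

namespace Cfsg.Lib.Binary

open Matrix

variable {F : Type*} [Field F] [Fintype F]

local notation "SL2" => Matrix.SpecialLinearGroup (Fin 2) F

theorem not_cen_of_tr {g : SL2} (h : tr g ^ 2 ≠ 4) : ¬ Cen g := by
  rintro (rfl | rfl) <;> refine h ?_
  · rw [tr_one]; norm_num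
  · rw [tr_neg, tr_one]; norm_num

theorem not_cen_of_tr_zero (h2 : (2 : F) ≠ 0) {g : SL2} (h : tr g = 0) : ¬ Cen g := by
  rintro (rfl | rfl)
  · rw [tr_one] at h; exact h2 h
  · rw [tr_neg, tr_one, neg_eq_zero] at h; exact h2 h

theorem inv_eq_neg {g : SL2} (h : tr g = 0) : g⁻¹ = -g :=
  inv_eq_of_mul_eq_one_right (by rw [mul_neg, sq_cen_of_tr h, neg_neg])

theorem cen_mem {H : Subgroup SL2} (hc : -1 ∈ H) {g : SL2} (hg : Cen g) : g ∈ H := by
  rcases hg with rfl | rfl
  · exact one_mem _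
  · exact hc

theorem neg_mem_iff' {H : Subgroup SL2} (hc : -1 ∈ H) {g : SL2} : -g ∈ H ↔ g ∈ H := by
  constructor
  · intro h; simpa using mul_mem hc h
  · intro h; simpa using mul_mem hc h

theorem conj_neg (P g : SL2) : P * -g * P⁻¹ = -(P * g * P⁻¹) := by simp

theorem comm_conj {P g x u : SL2} (hP : P * g * P⁻¹ = x) (h : P⁻¹ * u * P * g = g * (P⁻¹ * u * P)) :
    u * x = x * u := by
  rw [← hP]
  calc u * (P * g * P⁻¹) = P * (P⁻¹ * u * P * g) * P⁻¹ := by group
    _ = P * g * P⁻¹ * u := by rw [h]; group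

theorem inverts_conj {P g x u : SL2} (hP : P * g * P⁻¹ = x)
    (h : P⁻¹ * u * P * g * (P⁻¹ * u * P)⁻¹ = g⁻¹) : u * x * u⁻¹ = x⁻¹ := by
  rw [← hP]
  calc u * (P * g * P⁻¹) * u⁻¹ = P * (P⁻¹ * u * P * g * (P⁻¹ * u * P)⁻¹) * P⁻¹ := by group
    _ = (P * g * P⁻¹)⁻¹ := by rw [h]; group

theorem inverts_inv {g x : SL2} (h : g * x * g⁻¹ = x⁻¹) : g⁻¹ * x * g = x⁻¹ := by
  calc g⁻¹ * x * g = (g⁻¹ * (g * x * g⁻¹) * g)⁻¹ := by rw [h]; group
    _ = x⁻¹ := by group

theorem inverts_mul {g x : SL2} (h : g * x * g⁻¹ = x⁻¹) {c : SL2} (hc : c * x = x * c) :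
    (c * g) * x * (c * g)⁻¹ = x⁻¹ := by
  calc c * g * x * (c * g)⁻¹ = c * (g * x * g⁻¹) * c⁻¹ := by group
    _ = x⁻¹ * c * c⁻¹ := by rw [h, (Commute.inv_right (show Commute c x from hc)).eq]
    _ = x⁻¹ := by group

theorem comm_of_inverts {g g' x : SL2} (h : g * x * g⁻¹ = x⁻¹) (h' : g' * x * g'⁻¹ = x⁻¹) :
    g⁻¹ * g' * x = x * (g⁻¹ * g') := by
  calc g⁻¹ * g' * x = g⁻¹ * (g' * x * g'⁻¹) * g' := by group
    _ = x * (g⁻¹ * g') := by rw [h', ← h]; group

/-- Two commuting elements of trace zero agree up to sign. -/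
theorem eq_of_comm_tr_zero (h2 : (2 : F) ≠ 0) {u v : SL2} (hu : tr u = 0) (hv : tr v = 0)
    (hc : v * u = u * v) : v = u ∨ v = -u := by
  obtain ⟨α, β, e00, e01, e10, e11⟩ := exists_coeff (not_cen_of_tr_zero h2 hu) hc
  simp only [tr] at hu hv
  have ha : α = 0 := (mul_eq_zero.mp (by linear_combination hv - e00 - e11 - β * hu : (2 : F) * α = 0)).resolve_left h2
  rw [ha, zero_add] at e00 e11
  have hd := det_eq v
  rw [e00, e01, e10, e11] at hd
  rcases mul_self_eq_one_iff.mp (by linear_combination hd - β ^ 2 * det_eq u : β * β = 1) with hb | hb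
  · left; apply sl_ext
    · rw [e00, hb, one_mul]
    · rw [e01, hb, one_mul]
    · rw [e10, hb, one_mul]
    · rw [e11, hb, one_mul]
  · right; apply sl_ext <;> rw [neg_apply]
    · rw [e00, hb, neg_one_mul]
    · rw [e01, hb, neg_one_mul]
    · rw [e10, hb, neg_one_mul]
    · rw [e11, hb, neg_one_mul]

/-- Two commuting elements with the same trace are equal or inverse. -/
theorem eq_of_comm_same_tr {u v : SL2} (h4 : tr u ^ 2 ≠ 4) (he : tr v = tr u) (hc : v * u = u * v) :
    v = u ∨ v = u⁻¹ := by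
  obtain ⟨α, β, e00, e01, e10, e11⟩ := exists_coeff (not_cen_of_tr h4) hc
  simp only [tr] at he h4
  have hd := det_eq v
  rw [e00, e01, e10, e11] at hd
  rw [e00, e11] at he
  obtain ⟨t, ht⟩ : ∃ t, t = u.1 0 0 + u.1 1 1 := ⟨_, rfl⟩
  rw [← ht] at h4
  have E1 : 2 * α + β * t = t := by linear_combination he + (β - 1) * ht
  have E2 : α * (t - α) = 1 - β * β := by linear_combination hd - α * E1 - β ^ 2 * det_eq u + α * β * ht
  have hb : β * β = 1 := by
    refine (sub_eq_zero.mp ((mul_eq_zero.mp (?_ : (t ^ 2 - 4) * (1 - β * β) = 0)).resolve_left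
      (sub_ne_zero.mpr h4))).symm
    linear_combination (-(t * (1 + β) - 2 * α)) * E1 + 4 * E2
  rw [hb, sub_self] at E2
  have hleft : α = 0 → β = 1 → v = u := by
    intro ha hb'
    apply sl_ext
    · rw [e00, ha, hb']; ring
    · rw [e01, hb']; ring
    · rw [e10, hb']; ring
    · rw [e11, ha, hb']; ring
  have hright : α = t → β = -1 → v = u⁻¹ := by
    intro ha hb'
    apply sl_ext
    · rw [inv_00, e00, ha, hb']; linear_combination ht
    · rw [inv_01, e01, hb']; ring
    · rw [inv_10, e10, hb']; ring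
    · rw [inv_11, e11, ha, hb']; linear_combination ht
  by_cases h2 : (2 : F) = 0
  · have hone : β = 1 ∧ β = -1 := by
      rcases mul_self_eq_one_iff.mp hb with h | h
      · exact ⟨h, by linear_combination h + h2⟩
      · exact ⟨by linear_combination h - h2, h⟩
    rcases mul_eq_zero.mp E2 with ha | ha
    · exact Or.inl (hleft ha hone.1)
    · exact Or.inr (hright (sub_eq_zero.mp ha).symm hone.2)
  · rcases mul_eq_zero.mp E2 with ha | ha
    · rcases mul_self_eq_one_iff.mp hb with h | h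
      · exact Or.inl (hleft ha h)
      · have t0 : t = 0 := (mul_eq_zero.mp
          (by linear_combination -E1 + t * h + 2 * ha : (2 : F) * t = 0)).resolve_left h2
        exact Or.inr (hright (ha.trans t0.symm) h)
    · have hat : α = t := (sub_eq_zero.mp ha).symm
      rcases mul_self_eq_one_iff.mp hb with h | h
      · have t0 : t = 0 := (mul_eq_zero.mp
          (by linear_combination E1 - t * h - 2 * hat : (2 : F) * t = 0)).resolve_left h2
        exact Or.inl (hleft (hat.trans t0) h)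
      · exact Or.inr (hright hat h)

/-- A pair with prescribed traces. -/
theorem exists_pair (h2 : (2 : F) ≠ 0) {t r : F} (ht : t ^ 2 ≠ 4) :
    ∃ x y : SL2, tr x = t ∧ tr y = t ∧ tr (x⁻¹ * y) = r ∧ (x * y = y * x → r = 2 ∨ r = t ^ 2 - 2) := by
  have hodd : Fintype.card F % 2 = 1 := FiniteField.odd_card_of_char_ne_two fun h => h2 (by
    haveI : CharP F 2 := h ▸ ringChar.charP F
    exact_mod_cast CharP.cast_eq_zero F 2)
  obtain ⟨D, hD⟩ : ∃ D, D = 1 - t ^ 2 / 4 := ⟨_, rfl⟩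
  have h4 : (4 : F) ≠ 0 := by rw [show (4 : F) = 2 * 2 by norm_num]; exact mul_ne_zero h2 h2
  have hD0 : D ≠ 0 := by
    rw [hD]; intro e; field_simp at e; exact ht (by linear_combination -e)
  obtain ⟨w, b, hwb⟩ := FiniteField.exists_root_sum_quadratic (R := F) (f := Polynomial.X ^ 2)
    (g := Polynomial.C D * Polynomial.X ^ 2 + Polynomial.C (r - t ^ 2 / 2) * Polynomial.X + Polynomial.C D)
    (Polynomial.degree_X_pow 2) (by compute_degree! <;> simp [hD0]) hodd
  simp [hD] at hwb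
  obtain ⟨a, ha⟩ : ∃ a, a = w + (t * b + t) / 2 := ⟨_, rfl⟩
  field_simp at hwb ha
  refine ⟨mk2 0 (-1) 1 t (by ring), mk2 a b (r - t * a + b) (t - a) ?_, ?_, ?_, ?_, ?_⟩
  · refine mul_left_cancel₀ (mul_ne_zero h4 h2) ?_
    linear_combination (-1) * hwb + 2 * (-(2 * a - t * b - t) - 2 * w) * ha
  · simp [tr, mk2]
  · simp [tr, mk2]
  · simp only [tr, mul_00, mul_11, inv_00, inv_01, inv_10, inv_11]
    simp [mk2]
    ring
  · intro hc
    have e00 := congrArg (fun m : SL2 => m.1 0 0) hc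
    have e01 := congrArg (fun m : SL2 => m.1 0 1) hc
    simp only [mul_00, mul_01] at e00 e01
    simp [mk2] at e00 e01
    have e1 : 2 * a = t * (1 + b) := by linear_combination e01
    have hd := det_eq (mk2 a b (r - t * a + b) (t - a) (by
      refine mul_left_cancel₀ (mul_ne_zero h4 h2) ?_
      linear_combination (-1) * hwb + 2 * (-(2 * a - t * b - t) - 2 * w) * ha))
    simp [mk2] at hd
    have e2 : (1 - b * b) * (t ^ 2 - 4) = 0 := by
      linear_combination 4 * hd - 4 * b * e00 + (2 * a - t + t * b) * e1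
    rcases mul_self_eq_one_iff.mp
      (sub_eq_zero.mp ((mul_eq_zero.mp e2).resolve_right (sub_ne_zero.mpr ht))).symm with hb | hb
    · right
      subst hb
      have hat : a = t := mul_left_cancel₀ h2 (by linear_combination e1)
      subst hat
      linear_combination -e00
    · left
      subst hb
      have hat : a = 0 := (mul_eq_zero.mp (by linear_combination e1 : (2 : F) * a = 0)).resolve_left h2
      subst hat
      linear_combination -e00

theorem comm_of_cen {g x : SL2} (h : Cen g) : g * x = x * g := by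
  rcases h with rfl | rfl <;> simp

theorem not_cen_sq {g : SL2} (ht0 : tr g ≠ 0) (ht4 : tr g ^ 2 ≠ 4) : ¬ Cen (g * g) := fun h =>
  ht0 (tr_eq_zero_of_sq (not_cen_of_tr ht4) h)

/-- A triangle of rotations with a common trace. -/
theorem exists_triangle {t : F} (ht0 : t ≠ 0) (ht4 : t ^ 2 ≠ 4) (ht1 : (2 : F) = 0 → t ≠ 1) :
    ∃ x y : SL2, tr x = t ∧ tr y = t ∧ (tr (x⁻¹ * y) = t ∨ tr (x⁻¹ * y) = -t) ∧ x * y ≠ y * x := by
  by_cases h2 : (2 : F) = 0
  · haveI : CharP F 2 := CharTwo.of_one_ne_zero_of_two_eq_zero one_ne_zero h2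
    obtain ⟨c, hc⟩ := (frobeniusEquiv F 2).surjective t
    have hc' : c ^ 2 = t := hc
    obtain ⟨x, hx⟩ : ∃ x, x = mk2 t 1 1 0 (by linear_combination -h2) := ⟨_, rfl⟩
    refine ⟨x, uM c * x * uM c, by rw [hx]; simp [tr, mk2], ?_, Or.inl ?_, fun e => ?_⟩
    · rw [hx]
      simp only [tr, mul_00, mul_01, mul_10, mul_11]
      simp [uM, mk2]
      linear_combination c * h2
    · rw [hx]
      simp only [tr, mul_00, mul_01, mul_10, mul_11, inv_00, inv_01, inv_10, inv_11]
      simp [uM, mk2]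
      linear_combination hc' + (t * c - 1) * h2 - (t * c + c ^ 2) * h2
    · have e00 := congrArg (fun m : SL2 => m.1 0 1) e
      rw [hx] at e00
      simp only [mul_00, mul_01, mul_10, mul_11] at e00
      simp [uM, mk2] at e00
      have hc0 : c ≠ 0 := fun h => ht0 (by rw [← hc', h]; ring)
      have htc : t + c = 0 := (mul_eq_zero.mp
        (by linear_combination e00 : t * c * (t + c) = 0)).resolve_left (mul_ne_zero ht0 hc0)
      have : c = t := by linear_combination htc - t * h2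
      rw [this] at hc'
      exact ht1 h2 (mul_left_cancel₀ ht0 (by linear_combination hc'))
  · obtain ⟨r, hr, hr2⟩ : ∃ r, (r = t ∨ r = -t) ∧ r ≠ t ^ 2 - 2 ∧ r ≠ 2 := by
      by_cases h : t = t ^ 2 - 2
      · refine ⟨-t, Or.inr rfl, fun e => ht0 ((mul_eq_zero.mp ?_).resolve_left h2), fun e => ht4 ?_⟩
        · linear_combination h - e
        · linear_combination (-(t - 2)) * e
      · exact ⟨t, Or.inl rfl, h, fun e => ht4 (by rw [e]; norm_num)⟩
    obtain ⟨x, y, hx, hy, hz, hc⟩ := exists_pair h2 (r := r) ht4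
    refine ⟨x, y, hx, hy, by rw [hz]; exact hr, fun e => ?_⟩
    rcases hc e with h | h
    exacts [hr2.2 h, hr2.1 h]

/-- Stabilisers inside the centraliser of a semisimple element. -/
theorem cyclic_case {H : Subgroup SL2} (hb : IsBin H) (hc : -1 ∈ H) {g : SL2} (hgH : g ∈ H)
    (ht0 : tr g ≠ 0) (ht4 : tr g ^ 2 ≠ 4) (ht1 : (2 : F) = 0 → tr g ≠ 1)
    (hcomm : ∀ u ∈ H, u * g = g * u) : False := by
  obtain ⟨x, y, hx, hy, hz, hxy⟩ := exists_triangle ht0 ht4 ht1
  have hg := not_cen_of_tr ht4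
  obtain ⟨α, hα⟩ := exists_conj hg (h := x) (not_cen_of_tr (hx ▸ ht4)) hx.symm (Or.inl ht4)
  obtain ⟨β, hβ⟩ := exists_conj hg (h := y) (not_cen_of_tr (hy ▸ ht4)) hy.symm (Or.inl ht4)
  obtain ⟨g', hg'H, hg', hgg⟩ : ∃ g' ∈ H, tr g' = tr (x⁻¹ * y) ∧ ∀ u, u * g = g * u → u * g' = g' * u := by
    rcases hz with h | h
    · exact ⟨g, hgH, h.symm, fun u hu => hu⟩
    · exact ⟨-g, (neg_mem_iff' hc).mpr hgH, by rw [tr_neg, h], fun u hu => by simp [hu]⟩
  have hg'4 : tr g' ^ 2 ≠ 4 := by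
    rw [hg']
    rcases hz with h | h <;> rw [h]
    exacts [ht4, by rw [neg_sq]; exact ht4]
  obtain ⟨γ, hγ⟩ := exists_conj (not_cen_of_tr hg'4) (h := x⁻¹ * y) (not_cen_of_tr (hg' ▸ hg'4)) hg' (Or.inl hg'4)
  obtain ⟨h, h1, h2, h3⟩ := hb.tri (α := α) (β := β) (γ := γ) (x := x) (y := y)
    (by rw [← hα, show α⁻¹ * (α * g * α⁻¹) * α = g by group]; exact hgH)
    (by rw [← hβ, show β⁻¹ * (β * g * β⁻¹) * β = g by group]; exact hgH)
    (by rw [← hγ, show γ⁻¹ * (γ * g' * γ⁻¹) * γ = g' by group]; exact hg'H)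
  have hh := cen_of_comm (comm_conj hα (hcomm _ h1)) (comm_conj hβ (hcomm _ h2)) hxy
  have hxz : h⁻¹ * x * (x⁻¹ * y) = x⁻¹ * y * (h⁻¹ * x) := comm_conj hγ (hgg _ (hcomm _ h3))
  have hi : ∀ z : SL2, h⁻¹ * z = z * h⁻¹ := fun z => by
    rcases hh with rfl | rfl <;> simp
  refine hxy ?_
  calc x * y = x * (h * (h⁻¹ * x * (x⁻¹ * y))) := by group
    _ = x * (h * (x⁻¹ * y * (h⁻¹ * x))) := by rw [hxz]
    _ = x * (h * (x⁻¹ * y * (x * h⁻¹))) := by rw [hi x]
    _ = x * (h * (x⁻¹ * y * x) * h⁻¹) := by group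
    _ = x * (x⁻¹ * y * x * h * h⁻¹) := by rw [show h * (x⁻¹ * y * x) = x⁻¹ * y * x * h from comm_of_cen hh]
    _ = y * x := by group

/-- An element anticommuting with one of trace zero has trace zero. -/
theorem tr_zero_of_anti (h2 : (2 : F) ≠ 0) {g x : SL2} (hx : tr x = 0) (h : g * x = -(x * g)) : tr g = 0 := by
  have e00 := congrArg (fun m : SL2 => m.1 0 0) h
  have e01 := congrArg (fun m : SL2 => m.1 0 1) h
  have e10 := congrArg (fun m : SL2 => m.1 1 0) h
  have e11 := congrArg (fun m : SL2 => m.1 1 1) h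
  simp only [neg_apply, mul_00, mul_01, mul_10, mul_11] at e00 e01 e10 e11
  simp only [tr] at hx ⊢
  by_contra ht
  refine not_cen_of_tr_zero h2 hx (cen_iff.mpr ⟨?_, ?_, ?_⟩)
  · exact (mul_eq_zero.mp (by linear_combination e01 - g.1 0 1 * hx :
      x.1 0 1 * (g.1 0 0 + g.1 1 1) = 0)).resolve_right ht
  · exact (mul_eq_zero.mp (by linear_combination e10 - g.1 1 0 * hx :
      x.1 1 0 * (g.1 0 0 + g.1 1 1) = 0)).resolve_right ht
  · have h00 : (2 : F) * (x.1 0 0 * (g.1 0 0 + g.1 1 1)) = 0 := by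
      linear_combination e00 - e11 + 2 * g.1 1 1 * hx
    have := (mul_eq_zero.mp ((mul_eq_zero.mp h00).resolve_left h2)).resolve_right ht
    linear_combination hx - 2 * this

/-- The product of two anticommuting elements has trace zero. -/
theorem tr_mul_zero_of_anti (h2 : (2 : F) ≠ 0) {g x : SL2} (h : g * x = -(x * g)) : tr (g * x) = 0 := by
  have e := congrArg tr h
  rw [tr_neg, tr_mul_comm x g] at e
  exact (mul_eq_zero.mp (by linear_combination e : (2 : F) * tr (g * x) = 0)).resolve_left h2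

/-- Stabilisers all of whose elements are involutions modulo the centre. -/
theorem inv_case (h2 : (2 : F) ≠ 0) (hq : 7 ≤ Fintype.card F) {H : Subgroup SL2} (hb : IsBin H) (hc : -1 ∈ H)
    (hH : ∀ u ∈ H, Cen u ∨ tr u = 0) {s : SL2} (hs : s ∈ H) (hst : tr s = 0) : False := by
  classical
  have hpair : ∀ {u v : SL2}, u ∈ H → v ∈ H → tr u = 0 → tr v = 0 → (v = u ∨ v = -u) ∨ v * u = -(u * v) := by
    intro u v hu hv tu tv
    rcases hH _ (mul_mem hu hv) with hcen | h0
    · left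
      refine eq_of_comm_tr_zero h2 tu tv ?_
      calc v * u = u⁻¹ * (u * v * u) := by group
        _ = u⁻¹ * (u * (u * v)) := by rw [comm_of_cen hcen]
        _ = u * v := by group
    · right
      rw [← inv_eq_neg h0, _root_.mul_inv_rev, inv_eq_neg tu, inv_eq_neg tv, neg_mul_neg]
  have hns := not_cen_of_tr_zero h2 hst
  have h04 : ∀ {g : SL2}, tr g = 0 → tr g ^ 2 ≠ 4 ∨ (2 : F) = 0 := fun {g} hg =>
    Or.inl (by rw [hg]; intro e; exact h2 (mul_self_eq_zero.mp (by linear_combination -e)))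
  obtain ⟨y, hyt, hyH, hys⟩ : ∃ y : SL2, tr y = 0 ∧ y ∉ H ∧ y * s = -(s * y) := by
    obtain ⟨a, b, hab⟩ := Cfsg.Lib.Dickson.exists_sq_add_sq_eq_neg_one h2
    obtain ⟨J, hJ⟩ : ∃ J : SL2, J = mk2 0 (-1) 1 0 (by ring) := ⟨_, rfl⟩
    have hJ0 : tr J = 0 := by rw [hJ]; simp [tr, mk2]
    obtain ⟨P, hP⟩ := exists_conj (not_cen_of_tr_zero h2 hJ0) hns (hJ0.trans hst.symm) (h04 hJ0)
    obtain ⟨K, hK⟩ : ∃ K : SL2, K = mk2 a b b (-a) (by linear_combination -hab) := ⟨_, rfl⟩
    have hKJ : K * J = -(J * K) := by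
      rw [hK, hJ]
      apply sl_ext <;> simp only [neg_apply, mul_00, mul_01, mul_10, mul_11] <;> simp [mk2]
    obtain ⟨y0, hy0⟩ : ∃ y0, y0 = P * K * P⁻¹ := ⟨_, rfl⟩
    have hy0s : y0 * s = -(s * y0) := by
      rw [hy0, ← hP, show P * K * P⁻¹ * (P * J * P⁻¹) = P * (K * J) * P⁻¹ by group, hKJ, conj_neg]
      group
    obtain ⟨C, hC, hcomm⟩ := card_comm hns
    obtain ⟨c, hcC, hcy⟩ : ∃ c ∈ C, c * y0 ∉ H := by
      by_contra hall
      push Not at hall
      obtain ⟨c₀, hc₀⟩ : C.Nonempty := Finset.card_pos.mp (by omega)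
      have hsub : C ⊆ {c₀, -c₀, s * c₀, -(s * c₀)} := fun c hcC => by
        have hd : c * c₀⁻¹ ∈ H := by
          have := mul_mem (hall c hcC) (inv_mem (hall c₀ hc₀))
          rwa [show c * y0 * (c₀ * y0)⁻¹ = c * c₀⁻¹ by group] at this
        have hds : c * c₀⁻¹ * s = s * (c * c₀⁻¹) :=
          ((show Commute c s from hcomm c hcC).mul_left (show Commute c₀ s from hcomm c₀ hc₀).inv_left).eq
        simp only [Finset.mem_insert, Finset.mem_singleton]
        rcases hH _ hd with (h | h) | h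
        · left; exact mul_inv_eq_one.mp h
        · right; left; rw [← inv_mul_cancel_right c c₀, h, neg_one_mul]
        · rcases eq_of_comm_tr_zero h2 hst h hds with e | e
          · right; right; left; rw [← inv_mul_cancel_right c c₀, e]
          · right; right; right; rw [← inv_mul_cancel_right c c₀, e, neg_mul]
      have := (Finset.card_le_card hsub).trans Finset.card_le_four
      omega
    have hanti : c * y0 * s = -(s * (c * y0)) := by
      rw [mul_assoc, hy0s, mul_neg, ← mul_assoc, hcomm c hcC, mul_assoc]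
    exact ⟨c * y0, tr_zero_of_anti h2 hst hanti, hcy, hanti⟩
  have hex : ∀ y : SL2, tr y = 0 → y ∉ H → y * s = -(s * y) →
      ∃ β : SL2, β⁻¹ * y * β ∈ H ∧ β⁻¹ * s * β ∉ H := by
    intro y hy0 hyH hys
    obtain ⟨σ, hσ⟩ := exists_conj hns (not_cen_of_tr_zero h2 hy0) (hst.trans hy0.symm) (h04 hst)
    have hσy : σ⁻¹ * y * σ = s := by rw [← hσ]; group
    by_cases hb' : σ⁻¹ * s * σ ∈ H
    swap
    · exact ⟨σ, hσy ▸ hs, hb'⟩
    obtain ⟨b, hb⟩ : ∃ b, b = σ⁻¹ * s * σ := ⟨_, rfl⟩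
    rw [← hb] at hb'
    refine ⟨σ * σ, ?_, fun hw => ?_⟩
    · rw [show (σ * σ)⁻¹ * y * (σ * σ) = σ⁻¹ * (σ⁻¹ * y * σ) * σ by group, hσy, ← hb]; exact hb'
    rw [show (σ * σ)⁻¹ * s * (σ * σ) = σ⁻¹ * b * σ by rw [hb]; group] at hw
    have hbt : tr b = 0 := by rw [hb, tr_conj', hst]
    have hbs : s * b = -(b * s) := by
      calc s * b = σ⁻¹ * (y * s) * σ := by rw [hb, ← hσy]; group
        _ = -(σ⁻¹ * (s * y) * σ) := by rw [hys]; simp
        _ = -(b * s) := by rw [hb, ← hσy]; group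
    obtain ⟨w, hw'⟩ : ∃ w, w = σ⁻¹ * b * σ := ⟨_, rfl⟩
    rw [← hw'] at hw
    have hwt : tr w = 0 := by rw [hw', tr_conj', hbt]
    have hwb : b * w = -(w * b) := by
      calc b * w = σ⁻¹ * (s * b) * σ := by rw [hw', hb]; group
        _ = -(σ⁻¹ * (b * s) * σ) := by rw [hbs]; simp
        _ = -(w * b) := by rw [hw', hb]; group
    have hσw : σ * w * σ⁻¹ = b := by rw [hw']; group
    rcases hpair hs hw hst hwt with h | h
    · rcases h with e | e <;> rw [e] at hσw
      · exact hyH (by rw [← hσ, hσw]; exact hb')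
      · rw [conj_neg, hσ] at hσw
        exact hyH ((neg_mem_iff' hc).mp (hσw ▸ hb'))
    · have hws : w * (s * b) = s * b * w := by
        rw [← mul_assoc, h, neg_mul, mul_assoc, mul_assoc, hwb, mul_neg]
      have hys' : σ * (s * b) * σ⁻¹ = y * s := by
        rw [hb, ← hσ]; group
      rcases eq_of_comm_tr_zero h2 (tr_mul_zero_of_anti h2 hbs) hwt hws with e | e <;> rw [e] at hσw
      · refine hyH ?_
        rw [hys'] at hσw
        have := mul_mem hb' (inv_mem hs)
        rwa [← hσw, mul_inv_cancel_right] at this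
      · refine hyH ((neg_mem_iff' hc).mp ?_)
        rw [conj_neg, hys'] at hσw
        have := mul_mem hb' (inv_mem hs)
        rwa [← hσw, neg_mul, mul_inv_cancel_right] at this
  have hsy : s * y = -(y * s) := by rw [hys, neg_neg]
  obtain ⟨z, hz⟩ : ∃ z, z = s⁻¹ * y := ⟨_, rfl⟩
  have hzs : z * s = -(s * z) := by
    rw [hz, mul_assoc, hys, mul_neg]
    group
  have hzH : z ∉ H := fun h => hyH (by
    have := mul_mem hs h
    rwa [hz, mul_inv_cancel_left] at this)
  obtain ⟨β, hβy, hβs⟩ := hex y hyt hyH hys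
  obtain ⟨γ, hγz, hγs⟩ := hex z (tr_zero_of_anti h2 hst hzs) hzH hzs
  obtain ⟨h, h1, hh2, hh3⟩ := hb.tri (α := 1) (β := β) (γ := γ) (x := s) (y := y) (by simpa using hs) hβy
    (hz ▸ hγz)
  rw [inv_one, one_mul, mul_one] at h1
  rcases hH h h1 with (rfl | rfl) | ht
  · exact hγs (by simpa using hh3)
  · exact hγs (by simpa [neg_mem_iff' hc] using hh3)
  rcases hpair hs h1 hst ht with (e | e) | e
  · exact hβs (e ▸ hh2)
  · rw [e] at hh2
    exact hβs ((neg_mem_iff' hc).mp (by simpa using hh2))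
  have hhy0 : h * y = -(y * h) ∨ y ∈ H := by
    rcases hpair hβy hh2 (by rw [tr_conj', hyt]) (by rw [tr_conj', ht]) with (e' | e') | e'
    · right
      rwa [← mul_left_cancel (mul_right_cancel e')]
    · right
      have : h = -y := by
        have := congrArg (fun m : SL2 => β * m * β⁻¹) e'
        simpa [mul_assoc] using this
      exact (neg_mem_iff' hc).mp (this ▸ h1)
    · left
      calc h * y = β * (β⁻¹ * h * β * (β⁻¹ * y * β)) * β⁻¹ := by group
        _ = -(β * (β⁻¹ * y * β * (β⁻¹ * h * β)) * β⁻¹) := by rw [e', conj_neg]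
        _ = -(y * h) := by group
  rcases hhy0 with hhy | hhy
  swap
  · exact hyH hhy
  have hhsy : h * (s * y) = s * y * h := by
    rw [← mul_assoc, e, neg_mul, mul_assoc, mul_assoc, hhy, mul_neg, neg_neg]
  rcases eq_of_comm_tr_zero h2 (tr_mul_zero_of_anti h2 hsy) ht hhsy with e' | e'
  · refine hyH ?_
    have := mul_mem (inv_mem hs) h1
    rwa [e', inv_mul_cancel_left] at this
  · refine hyH ((neg_mem_iff' hc).mp ?_)
    have := mul_mem (inv_mem hs) h1
    rwa [e', mul_neg, inv_mul_cancel_left] at this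

theorem ne_neg_self (h2 : (2 : F) ≠ 0) (u : SL2) : u ≠ -u := fun e => by
  have key : ∀ i j, u.1 i j = 0 := fun i j => by
    have := congrArg (fun m : SL2 => m.1 i j) e
    simp only [neg_apply] at this
    exact (mul_eq_zero.mp (by linear_combination this : (2 : F) * u.1 i j = 0)).resolve_left h2
  have := det_eq u
  simp [key] at this

theorem cen_of_char_two (h2 : (2 : F) = 0) {g h : SL2} (hg : ¬ Cen g) (hc : h * g = g * h) (ht : tr g ≠ 0)
    (h0 : tr h = 0) : Cen h := by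
  obtain ⟨α, β, e00, e01, e10, e11⟩ := exists_coeff hg hc
  have hb : β = 0 := by
    refine (mul_eq_zero.mp ?_).resolve_right ht
    simp only [tr, e00, e11] at h0 ⊢
    linear_combination h0 - α * h2
  exact cen_iff.mpr ⟨by rw [e01, hb, zero_mul], by rw [e10, hb, zero_mul],
    by rw [e00, e11, hb, zero_mul, zero_mul]⟩

end Cfsg.Lib.Binary
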