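import Cfsg.Agent.Lib.Binary.PSLBasic
import Cfsg.Agent.Lib.Binary.PSLTorus
import Cfsg.Agent.Lib.Dickson.PSLTwo

/-!
# The field with seven elements
-/

set_option autoImplicit false
set_option linter.unusedSectionVars false
set_option synthInstance.maxSize 4000
set_option synthInstance.maxHeartbeats 400000

namespace Cfsg.Lib.Binary

/-- Matrices over the field with seven elements. -/
abbrev Quad := ZMod 7 × ZMod 7 × ZMod 7 × ZMod 7

/-- Matrix product. -/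
def qmul : Quad → Quad → Quad
  | (a, b, c, d), (e, f, g, h) => (a * e + b * g, a * f + b * h, c * e + d * g, c * f + d * h)

/-- The adjugate. -/
def qinv : Quad → Quad
  | (a, b, c, d) => (d, -b, -c, a)

/-- The determinant. -/
def qdet : Quad → ZMod 7
  | (a, b, c, d) => a * d - b * c

/-- A triangle witnessing nonbinarity. -/
def Tri7 (L : List Quad) (x b y g : Quad) : Prop :=
  L.Nodup ∧ qdet x = 1 ∧ qdet b = 1 ∧ qdet y = 1 ∧ qdet g = 1 ∧ x ∈ L ∧ qmul (qmul (qinv b) y) b ∈ L ∧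
    qmul (qmul (qinv g) (qmul (qinv x) y)) g ∈ L ∧
    ∀ h ∈ L, qmul (qmul (qinv b) h) b ∈ L → qmul (qmul (qinv g) (qmul (qinv h) x)) g ∈ L → False

instance (L : List Quad) (x b y g : Quad) : Decidable (Tri7 L x b y g) := by
  unfold Tri7; infer_instance

/-- An explicit subgroup. -/
def seg8 : List Quad :=
  [(0, 1, 6, 0), (0, 6, 1, 0), (1, 0, 0, 1), (2, 2, 5, 2), (2, 3, 3, 5), (2, 4, 4, 5),
    (2, 5, 2, 2), (3, 2, 2, 4), (3, 5, 5, 4), (4, 2, 2, 3), (4, 5, 5, 3), (5, 2, 5, 5),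
    (5, 3, 3, 2), (5, 4, 4, 2), (5, 5, 2, 5), (6, 0, 0, 6)]

theorem seg8_tri : Tri7 seg8 (3, 2, 2, 4) (0, 1, 6, 5) (4, 3, 6, 3) (0, 2, 3, 0) := by decide +kernel

/-- An explicit subgroup. -/
def seg12a : List Quad :=
  [(0, 1, 6, 0), (0, 2, 3, 6), (0, 3, 2, 6), (0, 4, 5, 1), (0, 5, 4, 1), (0, 6, 1, 0),
    (1, 0, 0, 1), (1, 2, 3, 0), (1, 3, 2, 0), (2, 0, 6, 4), (2, 4, 4, 5), (2, 6, 0, 4),
    (3, 0, 6, 5), (3, 2, 2, 4), (3, 6, 0, 5), (4, 0, 1, 2), (4, 1, 0, 2), (4, 5, 5, 3),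
    (5, 0, 1, 3), (5, 1, 0, 3), (5, 3, 3, 2), (6, 0, 0, 6), (6, 4, 5, 0), (6, 5, 4, 0)]

theorem seg12a_tri : Tri7 seg12a (0, 5, 4, 1) (0, 1, 6, 1) (5, 3, 0, 3) (0, 1, 6, 6) := by decide +kernel

/-- An explicit subgroup. -/
def seg12b : List Quad :=
  [(0, 1, 6, 0), (0, 2, 3, 1), (0, 3, 2, 1), (0, 4, 5, 6), (0, 5, 4, 6), (0, 6, 1, 0),
    (1, 0, 0, 1), (1, 4, 5, 0), (1, 5, 4, 0), (2, 0, 1, 4), (2, 1, 0, 4), (2, 3, 3, 5),
    (3, 0, 1, 5), (3, 1, 0, 5), (3, 5, 5, 4), (4, 0, 6, 2), (4, 2, 2, 3), (4, 6, 0, 2),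
    (5, 0, 6, 3), (5, 4, 4, 2), (5, 6, 0, 3), (6, 0, 0, 6), (6, 2, 3, 0), (6, 3, 2, 0)]

theorem seg12b_tri : Tri7 seg12b (0, 4, 5, 6) (0, 1, 6, 1) (4, 2, 0, 2) (0, 1, 6, 4) := by decide +kernel

/-- An explicit subgroup. -/
def seg24a : List Quad :=
  [(0, 1, 6, 0), (0, 2, 3, 6), (0, 3, 2, 6), (0, 4, 5, 1), (0, 5, 4, 1), (0, 6, 1, 0),
    (1, 0, 0, 1), (1, 1, 5, 6), (1, 2, 3, 0), (1, 3, 2, 0), (1, 4, 4, 3), (1, 5, 1, 6),
    (1, 6, 6, 2), (2, 0, 6, 4), (2, 1, 1, 1), (2, 2, 5, 2), (2, 3, 3, 5), (2, 4, 4, 5),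
    (2, 5, 2, 2), (2, 6, 0, 4), (3, 0, 6, 5), (3, 1, 4, 4), (3, 2, 2, 4), (3, 3, 3, 1),
    (3, 4, 1, 4), (3, 5, 5, 4), (3, 6, 0, 5), (4, 0, 1, 2), (4, 1, 0, 2), (4, 2, 2, 3),
    (4, 3, 6, 3), (4, 4, 4, 6), (4, 5, 5, 3), (4, 6, 3, 3), (5, 0, 1, 3), (5, 1, 0, 3),
    (5, 2, 5, 5), (5, 3, 3, 2), (5, 4, 4, 2), (5, 5, 2, 5), (5, 6, 6, 6), (6, 0, 0, 6),
    (6, 1, 1, 5), (6, 2, 6, 1), (6, 3, 3, 4), (6, 4, 5, 0), (6, 5, 4, 0), (6, 6, 2, 1)]

theorem seg24a_tri : Tri7 seg24a (6, 6, 2, 1) (0, 1, 6, 1) (5, 3, 0, 3) (0, 1, 6, 4) := by decide +kernel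

/-- An explicit subgroup. -/
def seg24b : List Quad :=
  [(0, 1, 6, 0), (0, 2, 3, 1), (0, 3, 2, 1), (0, 4, 5, 6), (0, 5, 4, 6), (0, 6, 1, 0),
    (1, 0, 0, 1), (1, 1, 1, 2), (1, 2, 6, 6), (1, 3, 3, 3), (1, 4, 5, 0), (1, 5, 4, 0),
    (1, 6, 2, 6), (2, 0, 1, 4), (2, 1, 0, 4), (2, 2, 5, 2), (2, 3, 3, 5), (2, 4, 4, 5),
    (2, 5, 2, 2), (2, 6, 6, 1), (3, 0, 1, 5), (3, 1, 0, 5), (3, 2, 2, 4), (3, 3, 6, 4),
    (3, 4, 4, 1), (3, 5, 5, 4), (3, 6, 3, 4), (4, 0, 6, 2), (4, 1, 4, 3), (4, 2, 2, 3),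
    (4, 3, 3, 6), (4, 4, 1, 3), (4, 5, 5, 3), (4, 6, 0, 2), (5, 0, 6, 3), (5, 1, 1, 6),
    (5, 2, 5, 5), (5, 3, 3, 2), (5, 4, 4, 2), (5, 5, 2, 5), (5, 6, 0, 3), (6, 0, 0, 6),
    (6, 1, 5, 1), (6, 2, 3, 0), (6, 3, 2, 0), (6, 4, 4, 4), (6, 5, 1, 1), (6, 6, 6, 5)]

theorem seg24b_tri : Tri7 seg24b (0, 4, 5, 6) (0, 1, 6, 1) (4, 2, 0, 2) (0, 1, 6, 2) := by decide +kernel

/-- The scalar elements, the standard involution and a second one. -/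
def qv (a b : ZMod 7) : List Quad :=
  [(1, 0, 0, 1), (-1, 0, 0, -1), (0, -1, 1, 0), (0, 1, -1, 0), (a, b, b, -a), (-a, -b, -b, a),
    (-b, a, a, b), (b, -a, -a, -b)]

theorem seg8_mem : ∀ a b c d : ZMod 7, a * d - b * c = 1 →
    (qmul (qmul (a, b, c, d) (0, -1, 1, 0)) (qinv (a, b, c, d)) ∈ [((0 : ZMod 7), (-1 : ZMod 7), (1 : ZMod 7), (0 : ZMod 7)), (0, 1, -1, 0)]) →
    (a, b, c, d) ∈ seg8 := by decide +kernel

theorem seg24_mem : ∀ p q : ZMod 7, p * p + q * q = -1 → ∃ L ∈ [(seg24a, seg12a), (seg24b, seg12b)],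
    ∀ a b c d : ZMod 7, a * d - b * c = 1 →
      qmul (qmul (a, b, c, d) (0, -1, 1, 0)) (qinv (a, b, c, d)) ∈ qv p q →
      qmul (qmul (a, b, c, d) (p, q, q, -p)) (qinv (a, b, c, d)) ∈ qv p q →
      (a, b, c, d) ∈ L.1 ∧ ((a, b, c, d) ∈ qv p q ∨
        qmul (qmul (a, b, c, d) (a, b, c, d)) (a, b, c, d) ∈ [((1 : ZMod 7), (0 : ZMod 7), (0 : ZMod 7), (1 : ZMod 7)), (-1, 0, 0, -1)] →
          (a, b, c, d) ∈ L.2) := by decide +kernel

theorem qv_eq : ∀ a b c d : ZMod 7, a * d - b * c = 1 → a + d = 0 →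
    qmul (a, b, c, d) (0, -1, 1, 0) = qmul (qmul (-1, 0, 0, -1) (0, -1, 1, 0)) (a, b, c, d) →
    d = -a ∧ c = b ∧ a * a + b * b = -1 := by decide +kernel

theorem seg_lengths : seg8.length = 16 ∧ seg12a.length = 24 ∧ seg12b.length = 24 ∧ seg24a.length = 48 ∧
    seg24b.length = 48 := by decide +kernel

theorem prime_seven : Fact (Nat.Prime 7) := ⟨by norm_num⟩

attribute [local instance] prime_seven

local notation "S7" => Matrix.SpecialLinearGroup (Fin 2) (ZMod 7)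

/-- Reading off the entries. -/
def toQ (g : S7) : Quad := (g.1 0 0, g.1 0 1, g.1 1 0, g.1 1 1)

theorem toQ_mul (g h : S7) : toQ (g * h) = qmul (toQ g) (toQ h) := by
  simp only [toQ, qmul, mul_00, mul_01, mul_10, mul_11]

theorem toQ_inv (g : S7) : toQ g⁻¹ = qinv (toQ g) := by
  simp only [toQ, qinv, inv_00, inv_01, inv_10, inv_11]

theorem toQ_injective : Function.Injective toQ := fun g h e => by
  simp only [toQ, Prod.mk.injEq] at e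
  exact sl_ext e.1 e.2.1 e.2.2.1 e.2.2.2

theorem exists_toQ {x : Quad} (h : qdet x = 1) : ∃ g : S7, toQ g = x := by
  obtain ⟨a, b, c, d⟩ := x
  exact ⟨mk2 a b c d h, by simp [toQ, mk2]⟩

theorem toQ_neg (g : S7) : toQ (-g) = qmul (-1, 0, 0, -1) (toQ g) := by
  simp only [toQ, qmul, neg_apply]
  ring_nf

theorem surj_of_card {G β : Type*} [Group G] [Finite G] [DecidableEq β] {H : Subgroup G} (f : G → β)
    (hf : Function.Injective f) {L : List β} (hnd : L.Nodup) (hsub : ∀ u ∈ H, f u ∈ L)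
    (hcard : Nat.card H = L.length) : ∀ l ∈ L, ∃ u ∈ H, f u = l := by
  classical
  haveI := Fintype.ofFinite G
  intro l hl
  have hS : (Finset.univ.filter fun u => u ∈ H).image f = L.toFinset := by
    refine Finset.eq_of_subset_of_card_le (fun v hv => ?_) ?_
    · obtain ⟨u, hu, rfl⟩ := Finset.mem_image.mp hv
      exact List.mem_toFinset.mpr (hsub u (Finset.mem_filter.mp hu).2)
    · rw [List.toFinset_card_of_nodup hnd, Finset.card_image_of_injective _ hf, ← hcard,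
        Nat.card_eq_fintype_card, Fintype.card_subtype]
  obtain ⟨u, hu, e⟩ := Finset.mem_image.mp (hS ▸ List.mem_toFinset.mpr hl : l ∈ _)
  exact ⟨u, (Finset.mem_filter.mp hu).2, e⟩

theorem seven_false {H : Subgroup S7} (hb : IsBin H) {L : List Quad} (hsub : ∀ u ∈ H, toQ u ∈ L)
    (hcard : Nat.card H = L.length) {x b y g : Quad} (hT : Tri7 L x b y g) : False := by
  obtain ⟨hnd, -, hb1, hy1, hg1, hxL, hy, hg, hno⟩ := hT
  have hsurj := surj_of_card toQ toQ_injective hnd hsub hcard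
  have hback : ∀ u : S7, toQ u ∈ L → u ∈ H := fun u hu => by
    obtain ⟨v, hv, e⟩ := hsurj _ hu
    exact toQ_injective e ▸ hv
  obtain ⟨X, hXH, hX⟩ := hsurj x hxL
  obtain ⟨B, rfl⟩ := exists_toQ hb1
  obtain ⟨Y, rfl⟩ := exists_toQ hy1
  obtain ⟨G, rfl⟩ := exists_toQ hg1
  obtain ⟨h, h1, h2, h3⟩ := hb.tri (α := 1) (β := B) (γ := G) (x := X) (y := Y) (by simpa using hXH)
    (hback _ (by rw [toQ_mul, toQ_mul, toQ_inv]; exact hy))
    (hback _ (by rw [toQ_mul, toQ_mul, toQ_mul, toQ_inv, toQ_inv, hX]; exact hg))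
  rw [inv_one, one_mul, mul_one] at h1
  have h2' := hsub _ h2
  have h3' := hsub _ h3
  simp only [toQ_mul, toQ_inv, hX] at h2' h3'
  exact hno _ (hsub h h1) h2' h3'

variable {F : Type*} [Field F] [Fintype F]

/-- Stabilisers normalising a four-group when the field has seven elements. -/
theorem seven_case (hq : Fintype.card F = 7) {H : Subgroup (Matrix.SpecialLinearGroup (Fin 2) F)}
    (hb : IsBin H) {s t : Matrix.SpecialLinearGroup (Fin 2) F} (hs : tr s = 0) (ht : tr t = 0)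
    (hts : t * s = -(s * t))
    (hV : ∀ u ∈ H, u * s * u⁻¹ ∈ [1, -1, s, -s, t, -t, s * t, -(s * t)] ∧
      u * t * u⁻¹ ∈ [1, -1, s, -s, t, -t, s * t, -(s * t)])
    (hcases : (Nat.card H = 16 ∧ ∀ u ∈ H, u * s * u⁻¹ = s ∨ u * s * u⁻¹ = -s) ∨
      (Nat.card H = 24 ∧ ∀ u ∈ H, u ∈ [1, -1, s, -s, t, -t, s * t, -(s * t)] ∨ Cen (u * u * u)) ∨
      Nat.card H = 48) : False := by
  have h27 : (2 : ZMod 7) ≠ 0 := by decide
  obtain ⟨φ⟩ : Nonempty (F ≃+* ZMod 7) := ⟨FiniteField.ringEquivOfCardEq (by rw [hq, ZMod.card])⟩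
  have trmap : ∀ u, tr (Cfsg.Lib.Dickson.slEquiv φ u) = φ (tr u) := fun u => by
    simp [tr, Cfsg.Lib.Dickson.slEquiv]
  obtain ⟨J, hJ⟩ : ∃ J : S7, J = mk2 0 (-1) 1 0 (by ring) := ⟨_, rfl⟩
  have hJ0 : tr J = 0 := by rw [hJ]; simp [tr, mk2]
  obtain ⟨P, hP⟩ := exists_conj (g := Cfsg.Lib.Dickson.slEquiv φ s) (h := J)
    (not_cen_of_tr_zero h27 (by rw [trmap, hs, map_zero])) (not_cen_of_tr_zero h27 hJ0)
    (by rw [trmap, hs, map_zero, hJ0]) (Or.inl (by rw [trmap, hs, map_zero]; decide))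
  obtain ⟨e, he⟩ : ∃ e : Matrix.SpecialLinearGroup (Fin 2) F ≃* S7,
      e = (Cfsg.Lib.Dickson.slEquiv φ).trans (MulAut.conj P) := ⟨_, rfl⟩
  have hes : e s = J := by rw [he]; exact hP
  have etr : ∀ u, tr (e u) = φ (tr u) := fun u => by
    rw [he]
    show tr (P * Cfsg.Lib.Dickson.slEquiv φ u * P⁻¹) = _
    rw [tr_conj, trmap]
  have eneg : ∀ u, e (-u) = -e u := fun u => by
    have hm : Cfsg.Lib.Dickson.slEquiv φ (-u) = -Cfsg.Lib.Dickson.slEquiv φ u := by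
      apply sl_ext <;> simp [Cfsg.Lib.Dickson.slEquiv]
    rw [he]
    show P * Cfsg.Lib.Dickson.slEquiv φ (-u) * P⁻¹ = -(P * Cfsg.Lib.Dickson.slEquiv φ u * P⁻¹)
    rw [hm, conj_neg]
  obtain ⟨T, hT⟩ : ∃ T, T = e t := ⟨_, rfl⟩
  have hT0 : tr T = 0 := by rw [hT, etr, ht, map_zero]
  have hTJ : T * J = -(J * T) := by rw [hT, ← hes, ← map_mul, hts, eneg, map_mul]
  have hJq : toQ J = (0, -1, 1, 0) := by rw [hJ]; simp [toQ, mk2]
  obtain ⟨p, q, hpq, hTq⟩ : ∃ p q : ZMod 7, p * p + q * q = -1 ∧ toQ T = (p, q, q, -p) := by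
    have hd : T.1 0 0 * T.1 1 1 - T.1 0 1 * T.1 1 0 = 1 := det_eq T
    obtain ⟨e1, e2, e3⟩ := qv_eq _ _ _ _ hd hT0 (by
      have := congrArg toQ hTJ
      rw [toQ_neg, toQ_mul, toQ_mul, hJq] at this
      simp only [toQ] at this ⊢
      rw [this]
      simp only [qmul]
      simp)
    exact ⟨_, _, e3, by simp only [toQ, e1, e2]⟩
  have hVq : ∀ v ∈ ([1, -1, s, -s, t, -t, s * t, -(s * t)] : List _), toQ (e v) ∈ qv p q := by
    intro v hv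
    simp only [List.mem_cons, List.not_mem_nil, or_false] at hv
    have h1 : toQ (1 : S7) = (1, 0, 0, 1) := by simp [toQ]
    rcases hv with rfl | rfl | rfl | rfl | rfl | rfl | rfl | rfl <;>
      simp only [eneg, map_one, map_mul, ← hT, hes, toQ_neg, toQ_mul, h1, hJq, hTq] <;> simp [qmul, qv]
  have hK : IsBin (H.map e.toMonoidHom) := hb.map e
  have hcard : Nat.card (H.map e.toMonoidHom : Subgroup S7) = Nat.card H :=
    (Nat.card_congr (H.equivMapOfInjective e.toMonoidHom e.injective).toEquiv).symm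
  have hmem : ∀ u ∈ H.map e.toMonoidHom, ∃ v ∈ H, e v = u := fun u hu => Subgroup.mem_map.mp hu
  obtain ⟨l8, l12a, l12b, l24a, l24b⟩ := seg_lengths
  rcases hcases with ⟨hc, hcen⟩ | hrest
  · refine seven_false hK (L := seg8) (fun u hu => ?_) (by rw [hcard, hc, l8]) seg8_tri
    obtain ⟨v, hv, rfl⟩ := hmem u hu
    refine seg8_mem _ _ _ _ (det_eq (e v)) ?_
    have : e v * J * (e v)⁻¹ = J ∨ e v * J * (e v)⁻¹ = -J := by
      rw [← hes, ← map_mul, ← map_inv, ← map_mul, ← eneg]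
      exact (hcen v hv).imp (congrArg e) (congrArg e)
    show qmul (qmul (toQ (e v)) (0, -1, 1, 0)) (qinv (toQ (e v))) ∈ _
    rw [← hJq, ← toQ_inv, ← toQ_mul, ← toQ_mul]
    rcases this with h | h <;> rw [h]
    · simp
    · rw [toQ_neg, hJq]; simp [qmul]
  obtain ⟨⟨Lb, Ls⟩, hLmem, hL⟩ := seg24_mem p q hpq
  have hall : ∀ v ∈ H, toQ (e v) ∈ Lb ∧ (toQ (e v) ∈ qv p q ∨
      qmul (qmul (toQ (e v)) (toQ (e v))) (toQ (e v)) ∈
        [((1 : ZMod 7), (0 : ZMod 7), (0 : ZMod 7), (1 : ZMod 7)), (-1, 0, 0, -1)] → toQ (e v) ∈ Ls) := by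
    intro v hv
    have key : ∀ w, qmul (qmul (toQ (e v)) (toQ (e w))) (qinv (toQ (e v))) = toQ (e (v * w * v⁻¹)) := fun w => by
      rw [map_mul, map_mul, map_inv, toQ_mul, toQ_mul, toQ_inv]
    refine hL _ _ _ _ (det_eq (e v)) ?_ ?_
    · show qmul (qmul (toQ (e v)) (0, -1, 1, 0)) (qinv (toQ (e v))) ∈ _
      rw [← hJq, ← hes, key]
      exact hVq _ (hV v hv).1
    · show qmul (qmul (toQ (e v)) (p, q, q, -p)) (qinv (toQ (e v))) ∈ _
      rw [← hTq, hT, key]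
      exact hVq _ (hV v hv).2
  have hsmall : Nat.card H = 24 → (∀ u ∈ H, u ∈ [1, -1, s, -s, t, -t, s * t, -(s * t)] ∨ Cen (u * u * u)) →
      ∀ u ∈ H.map e.toMonoidHom, toQ u ∈ Ls := by
    intro _ h24 u hu
    obtain ⟨v, hv, rfl⟩ := hmem u hu
    refine (hall v hv).2 ((h24 v hv).imp (hVq v) fun h => ?_)
    rw [← toQ_mul, ← toQ_mul, ← map_mul, ← map_mul]
    rcases h with h | h <;> rw [h]
    · simp [toQ]
    · rw [eneg, map_one, toQ_neg]; simp [toQ, qmul]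
  have hbig : ∀ u ∈ H.map e.toMonoidHom, toQ u ∈ Lb := fun u hu => by
    obtain ⟨v, hv, rfl⟩ := hmem u hu
    exact (hall v hv).1
  simp only [List.mem_cons, List.not_mem_nil, or_false, Prod.mk.injEq] at hLmem
  rcases hrest with ⟨hc, h24⟩ | hc
  · have hsm := hsmall hc h24
    rcases hLmem with ⟨-, rfl⟩ | ⟨-, rfl⟩
    · exact seven_false hK hsm (by rw [hcard, hc, l12a]) seg12a_tri
    · exact seven_false hK hsm (by rw [hcard, hc, l12b]) seg12b_tri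
  · rcases hLmem with ⟨rfl, -⟩ | ⟨rfl, -⟩
    · exact seven_false hK hbig (by rw [hcard, hc, l24a]) seg24a_tri
    · exact seven_false hK hbig (by rw [hcard, hc, l24b]) seg24b_tri

end Cfsg.Lib.Binary
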