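import Cfsg.Agent.Lib.Binary.PSLSubfield
import Cfsg.Agent.Lib.Binary.PSLReverse
import Cfsg.Agent.Lib.Binary.PSLDihedral
import Cfsg.Agent.Lib.Binary.PSLExceptional
import Cfsg.Agent.Lib.Binary.PSLSeven
import Cfsg.Agent.Lib.Dickson.Maximal.Common
import Cfsg.Agent.Lib.Dickson.Maximal.SmallGroups
import Cfsg.Agent.Lib.Dickson.Maximal.Subfield
import Cfsg.Agent.Lib.Dickson.Overgroups

/-!
# From subgroups of `PSL(2, q)` to their preimages in `SL(2, q)`
-/

set_option autoImplicit false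
set_option linter.unusedSectionVars false

namespace Cfsg.Lib.Binary

open Matrix

variable {F : Type*} [Field F] [Fintype F]

local notation "SL2" => Matrix.SpecialLinearGroup (Fin 2) F
local notation "PSL2" => Matrix.ProjectiveSpecialLinearGroup (Fin 2) F

/-- The preimage in `SL(2, F)`. -/
def pre (H : Subgroup PSL2) : Subgroup SL2 := H.comap (QuotientGroup.mk' (Subgroup.center SL2))

theorem mem_pre {H : Subgroup PSL2} {g : SL2} : g ∈ pre H ↔ (QuotientGroup.mk g : PSL2) ∈ H := Iff.rfl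

theorem isBin_pre {H : Subgroup PSL2} (hb : IsBin H) : IsBin (pre H) :=
  (isBin_comap_iff (QuotientGroup.mk'_surjective _)).mpr hb

theorem neg_one_mem_pre (H : Subgroup PSL2) : (-1 : SL2) ∈ pre H := by
  rw [mem_pre, mk_eq_one_iff.mpr (Or.inr rfl)]
  exact one_mem _

theorem mk_neg (g : SL2) : (QuotientGroup.mk (-g) : PSL2) = QuotientGroup.mk g :=
  (mk_eq_mk_iff.mpr (Or.inr rfl)).symm

/-- Lifts with the same image and the same nonzero trace are equal. -/
theorem lift_eq {a b : SL2} (h : (QuotientGroup.mk a : PSL2) = QuotientGroup.mk b) (ht : tr a = tr b)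
    (h0 : tr a ≠ 0) : b = a := by
  rcases mk_eq_mk_iff.mp h with e | e
  · exact e
  · by_cases h2 : (2 : F) = 0
    · haveI : CharP F 2 := CharTwo.of_one_ne_zero_of_two_eq_zero one_ne_zero h2
      rw [e, neg_eq_of_char_two]
    · rw [e, tr_neg] at ht
      exact absurd ((mul_eq_zero.mp (by linear_combination ht : (2 : F) * tr a = 0)).resolve_left h2) h0

theorem lift_conj {g u : SL2} (h0 : tr g ≠ 0)
    (h : (QuotientGroup.mk u : PSL2) * QuotientGroup.mk g * (QuotientGroup.mk u)⁻¹ = QuotientGroup.mk g ∨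
      (QuotientGroup.mk u : PSL2) * QuotientGroup.mk g * (QuotientGroup.mk u)⁻¹ = (QuotientGroup.mk g)⁻¹) :
    u * g * u⁻¹ = g ∨ u * g * u⁻¹ = g⁻¹ := by
  refine h.imp (fun e => ?_) (fun e => ?_)
  · exact (lift_eq (a := u * g * u⁻¹) (b := g) e (by rw [tr_conj]) (by rw [tr_conj]; exact h0)).symm
  · exact (lift_eq (a := u * g * u⁻¹) (b := g⁻¹) e (by rw [tr_conj, tr_inv]) (by rw [tr_conj]; exact h0)).symm

theorem mk_pow_p (p : ℕ) [Fact p.Prime] [CharP F p] {g : SL2} (h : tr g ^ 2 = 4) :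
    (QuotientGroup.mk g : PSL2) ^ p = 1 := by
  obtain ⟨c, hc, ht⟩ : ∃ c : F, c * c = 1 ∧ tr g = 2 * c := by
    rcases mul_self_eq_mul_self_iff.mp (by linear_combination h : tr g * tr g = 2 * 2) with e | e
    · exact ⟨1, mul_one 1, by rw [e, mul_one]⟩
    · exact ⟨-1, by ring, by rw [e]; ring⟩
  have hN : (g.1 - c • 1) * (g.1 - c • 1) = 0 := by
    rw [tr] at ht
    ext i j
    fin_cases i <;> fin_cases j <;>
      simp [Matrix.mul_apply, Fin.sum_univ_two, Matrix.sub_apply, Matrix.smul_apply]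
    · linear_combination g.1 0 0 * ht + hc - det_eq g
    · linear_combination g.1 0 1 * ht
    · linear_combination g.1 1 0 * ht
    · linear_combination g.1 1 1 * ht + hc - det_eq g
  haveI : CharP (Matrix (Fin 2) (Fin 2) F) p := inferInstance
  have hp : (g.1 - c • 1) ^ p = 0 := by
    obtain ⟨k, hk⟩ : ∃ k, p = 2 + k := ⟨_, (Nat.add_sub_cancel' (Fact.out : p.Prime).two_le).symm⟩
    rw [hk, pow_add, sq, hN, zero_mul]
  rw [sub_pow_char_of_commute p ((Commute.one_right _).smul_right c), smul_pow, one_pow,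
    ← Matrix.SpecialLinearGroup.coe_pow, sub_eq_zero] at hp
  rw [← QuotientGroup.mk_pow, mk_eq_one_iff, cen_iff, hp]
  simp

theorem cube_of_tr_one {g : SL2} (h : tr g = 1) : g * g * g = -1 := by
  unfold tr at h
  apply sl_ext <;> simp only [mul_00, mul_01, mul_10, mul_11, neg_apply] <;> simp
  · linear_combination (g.1 0 0 ^ 2 + g.1 0 0 - g.1 1 1 * 0 + g.1 0 1 * g.1 1 0) * h - (g.1 0 0 + 1) * det_eq g
  · linear_combination g.1 0 1 * (g.1 0 0 + g.1 1 1 + 1) * h - g.1 0 1 * det_eq g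
  · linear_combination g.1 1 0 * (g.1 0 0 + g.1 1 1 + 1) * h - g.1 1 0 * det_eq g
  · linear_combination (g.1 1 1 ^ 2 + g.1 1 1 + g.1 0 1 * g.1 1 0) * h - (g.1 1 1 + 1) * det_eq g

/-- The stabiliser fixes a point: only the Sylow subgroup is possible. -/
theorem borel_route (p : ℕ) [Fact p.Prime] [CharP F p] {H : Subgroup PSL2} (hb : IsBin H)
    (hdvd : p ∣ Nat.card H)
    (hP : ∃ P : Sylow p PSL2, H ≤ Subgroup.normalizer ((P : Subgroup PSL2) : Set PSL2)) :
    p = 2 ∧ ∃ P : Sylow 2 PSL2, H = P := by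
  obtain ⟨P, hle⟩ := hP
  obtain ⟨g, hg⟩ := MulAction.exists_smul_eq PSL2 (Cfsg.Lib.Dickson.stdSylow (F := F) p) P
  have hPS : (P : Subgroup PSL2) =
      ((Cfsg.Lib.Dickson.stdSylow (F := F) p) : Subgroup PSL2).map (MulAut.conj g).toMonoidHom := by
    rw [← hg, Sylow.coe_subgroup_smul]; rfl
  obtain ⟨K, hK⟩ : ∃ K, K = H.map (MulAut.conj g⁻¹).toMonoidHom := ⟨_, rfl⟩
  have hKN : ∀ u ∈ K, u ∈ Subgroup.normalizer
      (((Cfsg.Lib.Dickson.stdSylow (F := F) p) : Subgroup PSL2) : Set PSL2) := by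
    intro u hu
    rw [hK, mem_map_conj, inv_inv] at hu
    have h1 : (g * u * g⁻¹) • P = P := Sylow.smul_eq_iff_mem_normalizer.mpr (hle hu)
    rw [← hg, mul_smul, mul_smul, inv_smul_smul, smul_left_cancel_iff] at h1
    exact Sylow.smul_eq_iff_mem_normalizer.mp h1
  have hupper : ∀ u ∈ pre K, u.1 1 0 = 0 := by
    intro u hu
    have := hKN _ hu
    rw [Cfsg.Lib.Dickson.normalizer_stdSylow] at this
    obtain ⟨b, hb', e⟩ := this
    rcases mk_eq_mk_iff.mp e with h | h <;> rw [h]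
    · exact hb'
    · rw [neg_apply, show b.1 1 0 = 0 from hb', neg_zero]
  have hbK : IsBin (pre K) := isBin_pre (hK ▸ isBin_conj hb g⁻¹)
  obtain ⟨v, hv, hvK⟩ : ∃ v : F, v ≠ 0 ∧ uM v ∈ pre K := by
    have hcard : p ∣ Nat.card K := by
      rwa [hK, ← Nat.card_congr (H.equivMapOfInjective _ (MulAut.conj g⁻¹).injective).toEquiv]
    obtain ⟨x, hx⟩ := exists_prime_orderOf_dvd_card' (G := ↥K) p hcard
    obtain ⟨X, hX⟩ := QuotientGroup.mk_surjective (x : PSL2)
    have hXp : (QuotientGroup.mk X : PSL2) ^ p = 1 := by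
      rw [hX, ← hx, ← Subgroup.coe_pow, pow_orderOf_eq_one, Subgroup.coe_one]
    have hX1 : ¬ Cen X := fun h => by
      have h1 : (x : PSL2) = 1 := hX.symm.trans (mk_eq_one_iff.mpr h)
      rw [OneMemClass.coe_eq_one] at h1
      rw [h1, orderOf_one] at hx
      exact (Fact.out : p.Prime).one_lt.ne hx
    have hXK : X ∈ pre K := by rw [mem_pre, hX]; exact x.2
    have h10 := hupper X hXK
    have hd := det_eq X
    rw [h10, mul_zero, sub_zero] at hd
    have key : ∀ Y : SL2, Y ∈ pre K → Y.1 1 0 = 0 → Y.1 0 0 * Y.1 1 1 = 1 → Y.1 0 0 + Y.1 1 1 = 2 → ¬ Cen Y →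
        ∃ v : F, v ≠ 0 ∧ uM v ∈ pre K := by
      intro Y hY y10 yd yt yc
      have y00 : Y.1 0 0 = 1 := sub_eq_zero.mp (pow_eq_zero_iff two_ne_zero |>.mp
        (by linear_combination -yd + Y.1 0 0 * yt))
      have y11 : Y.1 1 1 = 1 := by linear_combination yt - y00
      have e : Y = uM (Y.1 0 1) := by apply sl_ext <;> simp [uM, mk2, y00, y11, y10]
      refine ⟨Y.1 0 1, fun h0 => yc (Or.inl ?_), e ▸ hY⟩
      rw [e, h0, uM_zero]
    rcases Cfsg.Lib.Dickson.trace_of_pow_char p hXp with ht | ht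
    · exact key X hXK h10 hd ht hX1
    · refine key (-X) ((neg_mem_iff' (neg_one_mem_pre K)).mpr hXK) ?_ ?_ ?_ (fun h => hX1 ?_)
      · rw [neg_apply, h10, neg_zero]
      · rw [neg_apply, neg_apply, neg_mul_neg, hd]
      · rw [neg_apply, neg_apply]; linear_combination -ht
      · rcases h with h | h
        · exact Or.inr (by rw [← h, neg_neg])
        · exact Or.inl (neg_inj.mp h)
  by_cases hbig : ∃ u ∈ pre K, u.1 0 0 ^ 4 ≠ 1
  · obtain ⟨u, hu, hu4⟩ := hbig
    exact (borel_split hbK hupper hv hvK hu hu4).elim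
  push Not at hbig
  rcases eq_or_ne p 2 with rfl | hp2
  · refine ⟨rfl, P, ?_⟩
    have hfull := borel_even hbK hupper hbig hv hvK
    have hKS : K = ((Cfsg.Lib.Dickson.stdSylow (F := F) 2) : Subgroup PSL2) := by
      rw [Cfsg.Lib.Dickson.stdSylow_coe]
      ext y
      obtain ⟨Y, rfl⟩ := QuotientGroup.mk_surjective y
      constructor
      · intro hy
        refine ⟨Y, ?_, rfl⟩
        rw [SetLike.mem_coe, Cfsg.Lib.Linear.Two.mem_UT]
        rw [eq_uM_of_char_two (hupper Y hy) (hbig Y hy)]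
        simp [uM, mk2]
      · rintro ⟨Z, hZ, e⟩
        obtain ⟨z00, z11, z10⟩ := Cfsg.Lib.Linear.Two.mem_UT.mp hZ
        have e' : Z = uM (Z.1 0 1) := by apply sl_ext <;> simp [uM, mk2, z00, z11, z10]
        rw [← e, e']
        exact hfull _
    rw [hPS, ← hKS, hK]
    ext u
    simp only [mem_map_conj, inv_inv]
    group
  · refine (borel_odd ?_ hbK (neg_one_mem_pre K) hupper hbig hv hvK).elim
    intro h2
    have hd : p ∣ 2 := (CharP.cast_eq_zero_iff F p 2).mp (by exact_mod_cast h2)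
    exact hp2 ((Nat.prime_dvd_prime_iff_eq Fact.out Nat.prime_two).mp hd)

/-- Subgroups containing a torus element normalising a unipotent one, with traces in a small subfield. -/
theorem subfield_route (p : ℕ) [Fact p.Prime] [CharP F p] {H : Subgroup PSL2} (hb : IsBin H)
    (L : Subfield F) (htr : ∀ g : SL2, (QuotientGroup.mk g : PSL2) ∈ H → tr g ^ 2 ∈ L)
    (hL : 4 * Nat.card L < Fintype.card F + 3) {ν τ ω : PSL2} (hν : ν ∈ H) (hτ : τ ∈ H) (hω : ω ∈ H)
    (hν1 : ν ≠ 1) (hνp : ν ^ p = 1) (hτ2 : τ * τ ≠ 1) (hτp : τ ^ p ≠ 1)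
    (hcomm : τ * ν * τ⁻¹ * ν = ν * (τ * ν * τ⁻¹)) (hnc : ω * ν * ω⁻¹ * ν ≠ ν * (ω * ν * ω⁻¹)) : False := by
  obtain ⟨s, hs0, hs⟩ := exists_fourth_not_mem L hL
  obtain ⟨Q, hQ⟩ := (IsPGroup.of_card (p := p) (n := 1) (by
    rw [Nat.card_zpowers, pow_one, orderOf_eq_prime hνp hν1]) :
      IsPGroup p (Subgroup.zpowers ν)).exists_le_sylow
  obtain ⟨g, hg⟩ := MulAction.exists_smul_eq PSL2 (Cfsg.Lib.Dickson.stdSylow (F := F) p) Q
  have hνQ : ν ∈ (Q : Subgroup PSL2) := hQ (Subgroup.mem_zpowers ν)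
  rw [← hg, Sylow.coe_subgroup_smul, Cfsg.Lib.Dickson.stdSylow_coe] at hνQ
  obtain ⟨_, ⟨U, hU, rfl⟩, hUν⟩ := hνQ
  simp only [MulDistribMulAction.toMonoidEnd_apply, MulDistribMulAction.toMonoidHom_apply, MulAut.smul_def,
    MulAut.conj_apply, QuotientGroup.mk'_apply] at hUν
  obtain ⟨G, rfl⟩ := QuotientGroup.mk_surjective g
  obtain ⟨u00, u11, u10⟩ := Cfsg.Lib.Linear.Two.mem_UT.mp hU
  have hUe : U = uM (U.1 0 1) := by apply sl_ext <;> simp [uM, mk2, u00, u11, u10]
  obtain ⟨v, hvdef⟩ : ∃ v, v = U.1 0 1 := ⟨_, rfl⟩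
  rw [← hvdef] at hUe
  subst hUe
  obtain ⟨T, hT⟩ := QuotientGroup.mk_surjective τ
  obtain ⟨W, hW⟩ := QuotientGroup.mk_surjective ω
  obtain ⟨T', hT'⟩ : ∃ T', T' = G⁻¹ * T * G := ⟨_, rfl⟩
  obtain ⟨W', hW'⟩ : ∃ W', W' = G⁻¹ * W * G := ⟨_, rfl⟩
  have hv0 : v ≠ 0 := fun h0 => hν1 (by rw [← hUν, h0, uM_zero, QuotientGroup.mk_one]; group)
  have htr2 : ∀ w : F, tr (uM w : SL2) = 2 := fun w => by simp [tr, uM, mk2, one_add_one_eq_two]
  -- commutation in `PSL` gives commutation in `SL`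
  have hlift : ∀ X : SL2, (QuotientGroup.mk X : PSL2) * QuotientGroup.mk (uM v) =
      QuotientGroup.mk (uM v) * QuotientGroup.mk X → X * uM v = uM v * X := by
    intro X h
    by_cases h2 : (2 : F) = 0
    · haveI : CharP F 2 := CharTwo.of_one_ne_zero_of_two_eq_zero one_ne_zero h2
      rw [← QuotientGroup.mk_mul, ← QuotientGroup.mk_mul, mk_eq_mk_iff, neg_eq_of_char_two, or_self] at h
      exact h.symm
    · exact lift_comm (by rw [htr2]; exact h2) h
  have hcomm' : T' * uM v * T'⁻¹ * uM v = uM v * (T' * uM v * T'⁻¹) := by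
    refine hlift _ ?_
    simp only [hT', QuotientGroup.mk_mul, QuotientGroup.mk_inv, hT]
    have h := congrArg (fun z => (QuotientGroup.mk G : PSL2)⁻¹ * z * QuotientGroup.mk G) hcomm
    rw [← hUν] at h
    calc _ = (QuotientGroup.mk G : PSL2)⁻¹ * (τ * (QuotientGroup.mk G * QuotientGroup.mk (uM v) *
          (QuotientGroup.mk G)⁻¹) * τ⁻¹ * (QuotientGroup.mk G * QuotientGroup.mk (uM v) *
          (QuotientGroup.mk G)⁻¹)) * QuotientGroup.mk G := by group
      _ = _ := h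
      _ = _ := by group
  have hT10 : T'.1 1 0 = 0 := by
    have e := congrArg (fun m : SL2 => m.1 0 0) hcomm'
    simp only [mul_00, mul_01, mul_10, mul_11, inv_00, inv_01, inv_10, inv_11] at e
    simp [uM, mk2] at e
    refine mul_self_eq_zero.mp (mul_left_cancel₀ (mul_ne_zero hv0 hv0) ?_)
    linear_combination -v * e.resolve_left hv0
  have hd := det_eq T'
  rw [hT10, mul_zero, sub_zero] at hd
  have hmkT : (QuotientGroup.mk T' : PSL2) = (QuotientGroup.mk G)⁻¹ * τ * QuotientGroup.mk G := by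
    rw [hT', QuotientGroup.mk_mul, QuotientGroup.mk_mul, QuotientGroup.mk_inv, hT]
  obtain ⟨a, hadef⟩ : ∃ a, a = T'.1 0 0 := ⟨_, rfl⟩
  rw [← hadef] at hd
  have ha : a ≠ 0 := fun h => by rw [h, zero_mul] at hd; exact zero_ne_one hd
  have ha11 : T'.1 1 1 = a⁻¹ := eq_inv_of_mul_eq_one_right hd
  have ha4 : a ^ 4 ≠ 1 := by
    intro h4
    rcases mul_eq_zero.mp (by linear_combination h4 : (a ^ 2 + 1) * (a ^ 2 - 1) = 0) with e | e
    · have ht : tr T' = 0 := by
        rw [tr, ← hadef, ha11]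
        field_simp
        linear_combination e
      have h := mk_sq_cen (C := T') ht
      rw [hmkT, show (QuotientGroup.mk G : PSL2)⁻¹ * τ * QuotientGroup.mk G *
        ((QuotientGroup.mk G)⁻¹ * τ * QuotientGroup.mk G) =
          (QuotientGroup.mk G)⁻¹ * (τ * τ) * QuotientGroup.mk G by group] at h
      exact hτ2 (by
        calc τ * τ = QuotientGroup.mk G * ((QuotientGroup.mk G)⁻¹ * (τ * τ) * QuotientGroup.mk G) *
              (QuotientGroup.mk G)⁻¹ := by group
          _ = 1 := by rw [h]; group)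
    · have h := mk_pow_p p (g := T') (by
        rw [tr, ← hadef, ha11]
        field_simp
        linear_combination (a ^ 2 - 1) * e)
      rw [hmkT] at h
      have h' := conj_pow (a := ((QuotientGroup.mk G : PSL2))⁻¹) (b := τ) (i := p)
      rw [inv_inv, h] at h'
      exact hτp (by
        calc τ ^ p = QuotientGroup.mk G * ((QuotientGroup.mk G)⁻¹ * τ ^ p * QuotientGroup.mk G) *
              (QuotientGroup.mk G)⁻¹ := by group
          _ = 1 := by rw [← h']; group)
  have hs2 : a ^ 2 - 1 ≠ 0 := fun h => ha4 (by linear_combination (a ^ 2 + 1) * h)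
  obtain ⟨P, hP⟩ : ∃ P : SL2, P = uM (T'.1 0 1 * a / (a ^ 2 - 1)) := ⟨_, rfl⟩
  obtain ⟨M, hM⟩ : ∃ M, M = (pre H).map (MulAut.conj (P * G⁻¹)).toMonoidHom := ⟨_, rfl⟩
  have hmemM : ∀ X : SL2, G * X * G⁻¹ ∈ pre H → P * X * P⁻¹ ∈ M := fun X hX => by
    rw [hM, mem_map_conj, show (P * G⁻¹)⁻¹ * (P * X * P⁻¹) * (P * G⁻¹) = G * X * G⁻¹ by group]
    exact hX
  have hback : ∀ {X : SL2}, X ∈ M → G * (P⁻¹ * X * P) * G⁻¹ ∈ pre H := fun {X} hX => by
    rw [hM, mem_map_conj] at hX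
    rwa [show G * (P⁻¹ * X * P) * G⁻¹ = (P * G⁻¹)⁻¹ * X * (P * G⁻¹) by group]
  have huM : uM v ∈ M := by
    have := hmemM (uM v) (by
      rw [mem_pre, QuotientGroup.mk_mul, QuotientGroup.mk_mul, QuotientGroup.mk_inv, hUν]; exact hν)
    rwa [hP, uM_inv, uM_mul, uM_mul, show ∀ x y : F, x + y + -x = y from fun x y => by ring] at this
  have hdM : dM a ha ∈ M := by
    have := hmemM T' (by
      rw [hT', show G * (G⁻¹ * T * G) * G⁻¹ = T by group, mem_pre, hT]; exact hτ)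
    have e : P * T' * P⁻¹ = dM a ha := by
      rw [hP]
      apply sl_ext <;> simp only [mul_00, mul_01, mul_10, mul_11, inv_00, inv_01, inv_10, inv_11] <;>
        simp [uM, dM, mk2, hT10, ha11, ← hadef]
      field_simp
      ring
    rwa [e] at this
  obtain ⟨e, he, he10⟩ : ∃ e ∈ M, e.1 1 0 ≠ 0 := by
    by_contra hall
    push Not at hall
    have hWM := hmemM W' (by rw [hW', show G * (G⁻¹ * W * G) * G⁻¹ = W by group, mem_pre, hW]; exact hω)
    have h10 := hall _ hWM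
    have h10' : W'.1 1 0 = 0 := by
      rw [hP] at h10
      simp only [mul_00, mul_01, mul_10, mul_11, inv_00, inv_01, inv_10, inv_11] at h10
      simpa [uM, mk2] using h10
    have hc : W' * uM v * W'⁻¹ * uM v = uM v * (W' * uM v * W'⁻¹) := by
      apply sl_ext <;> simp only [mul_00, mul_01, mul_10, mul_11, inv_00, inv_01, inv_10, inv_11] <;>
        simp [uM, mk2, h10']
      ring
    refine hnc ?_
    have h := congrArg (fun m : SL2 => (QuotientGroup.mk (G * m * G⁻¹) : PSL2)) hc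
    simp only [hW', QuotientGroup.mk_mul, QuotientGroup.mk_inv, hW] at h
    rw [← hUν]
    refine Eq.trans ?_ (h.trans ?_) <;> group
  refine subfield_case (hM ▸ isBin_conj (isBin_pre hb) _) L (fun u hu => ?_) hs0 hs ha ha4 hdM hv0 huM he he10
  have := htr _ (hback hu)
  rwa [tr_conj, tr_conj'] at this

/-- `A₄` or `S₄` over the field with seven elements. -/
theorem seven_klein (hq : Fintype.card F = 7) {H : Subgroup PSL2} (hb : IsBin H) {T : Type*} [Group T]
    (e : ↥H ≃* T) (va vb : T) (ha : va * va = 1) (hb' : vb * vb = 1) (hab : va * vb = vb * va)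
    (ha1 : va ≠ 1) (hb1 : vb ≠ 1) (hne : va ≠ vb)
    (hconj : ∀ x : T, x * va * x⁻¹ ∈ [va, vb, va * vb] ∧ x * vb * x⁻¹ ∈ [va, vb, va * vb])
    (hcases : (Nat.card T = 12 ∧ ∀ x : T, x ∈ [1, va, vb, va * vb] ∨ x * x * x = 1) ∨ Nat.card T = 24) :
    False := by
  have h2 : (2 : F) ≠ 0 := Cfsg.Lib.Dickson.two_ne_zero_of_odd (by omega)
  obtain ⟨S, hS⟩ := QuotientGroup.mk_surjective ((e.symm va : ↥H) : PSL2)
  obtain ⟨U, hU⟩ := QuotientGroup.mk_surjective ((e.symm vb : ↥H) : PSL2)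
  have inv0 : ∀ {X : SL2} {v : T}, (QuotientGroup.mk X : PSL2) = (e.symm v : PSL2) → v * v = 1 → v ≠ 1 →
      tr X = 0 := by
    intro X v hX hv hv1
    refine tr_eq_zero_of_sq (fun h => hv1 ((symm_data e v).1.mp (hX ▸ mk_eq_one_iff.mpr h)))
      (mk_eq_one_iff.mp ?_)
    rw [QuotientGroup.mk_mul, hX, (symm_data e v).2, hv, map_one, Subgroup.coe_one]
  have hS0 := inv0 hS ha ha1
  have hU0 := inv0 hU hb' hb1
  have hUS : U * S = -(S * U) := by
    have h : (QuotientGroup.mk (S * U) : PSL2) = QuotientGroup.mk (U * S) := by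
      rw [QuotientGroup.mk_mul, QuotientGroup.mk_mul, hS, hU, (symm_data e _).2, (symm_data e _).2, hab]
    rcases mk_eq_mk_iff.mp h with h' | h'
    · exfalso
      refine hne (e.symm.injective (Subtype.ext ?_))
      rw [← hS, ← hU]
      exact mk_eq_mk_iff.mpr (eq_of_comm_tr_zero h2 hS0 hU0 h')
    · exact h'
  have hlist : ∀ {X : SL2} {v : T}, (QuotientGroup.mk X : PSL2) = (e.symm v : PSL2) → v ∈ [va, vb, va * vb] →
      X ∈ [1, -1, S, -S, U, -U, S * U, -(S * U)] := by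
    intro X v hX hv
    simp only [List.mem_cons, List.not_mem_nil, or_false] at hv ⊢
    rcases hv with rfl | rfl | rfl
    · rcases mk_eq_mk_iff.mp (hS.trans hX.symm) with h | h <;> simp [h]
    · rcases mk_eq_mk_iff.mp (hU.trans hX.symm) with h | h <;> simp [h]
    · rw [map_mul, Subgroup.coe_mul, ← hS, ← hU, ← QuotientGroup.mk_mul] at hX
      rcases mk_eq_mk_iff.mp hX.symm with h | h <;> simp [h]
  have hconj' : ∀ u : SL2, ∀ hu : u ∈ pre H, ∀ {X : SL2} {v : T}, (QuotientGroup.mk X : PSL2) = (e.symm v : PSL2) →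
      (QuotientGroup.mk (u * X * u⁻¹) : PSL2) = (e.symm (e ⟨_, hu⟩ * v * (e ⟨_, hu⟩)⁻¹) : PSL2) := by
    intro u hu X v hX
    simp only [map_mul, map_inv, MulEquiv.symm_apply_apply, Subgroup.coe_mul, InvMemClass.coe_inv,
      QuotientGroup.mk_mul, QuotientGroup.mk_inv, hX]
    rfl
  have hcard : Nat.card (pre H) = 2 * Nat.card T := by
    rw [pre, Cfsg.Lib.Dickson.card_comap_mk, hq, Nat.card_congr e.toEquiv]
    norm_num
  refine seven_case hq (isBin_pre hb) (s := S) (t := U) hS0 hU0 hUS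
    (fun u hu => ⟨hlist (hconj' u hu hS) (hconj _).1, hlist (hconj' u hu hU) (hconj _).2⟩) ?_
  rcases hcases with ⟨h12, hcube⟩ | h24
  · refine Or.inr (Or.inl ⟨by rw [hcard, h12], fun u hu => ?_⟩)
    obtain ⟨x, hx⟩ : ∃ x, x = e ⟨_, hu⟩ := ⟨_, rfl⟩
    have hxu : (QuotientGroup.mk u : PSL2) = (e.symm x : PSL2) := by rw [hx, e.symm_apply_apply]; rfl
    rcases hcube x with h | h
    · left
      simp only [List.mem_cons, List.not_mem_nil, or_false] at h
      rcases h with h | h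
      · rw [h, map_one, Subgroup.coe_one, mk_eq_one_iff] at hxu
        rcases hxu with rfl | rfl <;> simp
      · exact hlist hxu (by simpa using h)
    · right
      rw [← mk_eq_one_iff, QuotientGroup.mk_mul, QuotientGroup.mk_mul, hxu, (symm_data e _).2, (symm_data e _).2,
        h, map_one, Subgroup.coe_one]
  · exact Or.inr (Or.inr (by rw [hcard, h24]))

end Cfsg.Lib.Binary
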