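import Cfsg.Agent.Lib.Binary.PSLBasic

/-!
# Stabilisers containing a split semisimple element give nonbinary actions
-/

set_option autoImplicit false
set_option linter.unusedSectionVars false

namespace Cfsg.Lib.Binary

open Matrix

variable {F : Type*} [Field F] [Fintype F]

local notation "SL2" => Matrix.SpecialLinearGroup (Fin 2) F
local notation "M2" => Matrix (Fin 2) (Fin 2) F

theorem dM_mul_entries (a : F) (ha : a ≠ 0) (g : SL2) :
    (dM a ha * g).1 0 0 = a * g.1 0 0 ∧ (dM a ha * g).1 0 1 = a * g.1 0 1 ∧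
      (dM a ha * g).1 1 0 = a⁻¹ * g.1 1 0 ∧ (dM a ha * g).1 1 1 = a⁻¹ * g.1 1 1 := by
  refine ⟨?_, ?_, ?_, ?_⟩ <;> simp only [mul_00, mul_01, mul_10, mul_11] <;> simp [dM, mk2]

theorem mul_dM_entries (a : F) (ha : a ≠ 0) (g : SL2) :
    (g * dM a ha).1 0 0 = g.1 0 0 * a ∧ (g * dM a ha).1 0 1 = g.1 0 1 * a⁻¹ ∧
      (g * dM a ha).1 1 0 = g.1 1 0 * a ∧ (g * dM a ha).1 1 1 = g.1 1 1 * a⁻¹ := by
  refine ⟨?_, ?_, ?_, ?_⟩ <;> simp only [mul_00, mul_01, mul_10, mul_11] <;> simp [dM, mk2]

/-- The key configuration. -/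
theorem split_false {W D : Subgroup SL2} (hT : TriIn W D)
    (hD : ∀ g ∈ D, (g.1 0 1 = 0 ∧ g.1 1 0 = 0) ∨ (g.1 0 0 = 0 ∧ g.1 1 1 = 0))
    {a : F} (ha : a ≠ 0) (ha4 : a ^ 4 ≠ 1) (hd : dM a ha ∈ D) {c : F} (hc : c ≠ 0)
    (hu1 : uM c ∈ W) (hu2 : uM ((a ^ 2 + 1) * c) ∈ W) : False := by
  have hs1 : a ^ 2 + 1 ≠ 0 := fun e => ha4 (by linear_combination (a ^ 2 - 1) * e)
  have hs2 : a ^ 2 - 1 ≠ 0 := fun e => ha4 (by linear_combination (a ^ 2 + 1) * e)
  obtain ⟨v, hv⟩ : ∃ v, v = (a ^ 2 + 1) * c := ⟨_, rfl⟩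
  rw [← hv] at hu2
  have hv0 : v ≠ 0 := hv ▸ mul_ne_zero hs1 hc
  obtain ⟨x, hx⟩ : ∃ x, x = dM a ha := ⟨_, rfl⟩
  obtain ⟨y, hy⟩ : ∃ y, y = uM v * x⁻¹ * (uM v)⁻¹ := ⟨_, rfl⟩
  have hz : (uM c)⁻¹ * (x⁻¹ * y) * uM c = x⁻¹ * x⁻¹ := by
    rw [hy, hx, hv]
    apply sl_ext <;>
      simp only [mul_00, mul_01, mul_10, mul_11, inv_00, inv_01, inv_10, inv_11] <;> simp [uM, dM, mk2]
    field_simp
    ring
  obtain ⟨h, h1, h2, h3⟩ := hT 1 (one_mem _) (uM v) hu2 (uM c) hu1 x y
    (by simpa [hx] using hd)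
    (by rw [hy, show (uM v)⁻¹ * (uM v * x⁻¹ * (uM v)⁻¹) * uM v = x⁻¹ by group, hx]; exact inv_mem hd)
    (by rw [hz, hx]; exact mul_mem (inv_mem hd) (inv_mem hd))
  rw [inv_one, one_mul, mul_one] at h1
  rcases hD h h1 with ⟨h01, h10⟩ | ⟨h00, h11⟩
  · have hdet := det_eq h
    rw [h01, zero_mul, sub_zero] at hdet
    have hh : h.1 0 0 = h.1 1 1 := by
      rcases hD _ h2 with ⟨e, -⟩ | ⟨e, -⟩
      · simp only [mul_01, mul_00, inv_00, inv_01] at e
        simp [uM, mk2, h01, h10] at e
        exact mul_left_cancel₀ hv0 (by linear_combination e)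
      · simp only [mul_00, inv_00, inv_01] at e
        simp [uM, mk2, h01, h10] at e
        rw [e, zero_mul] at hdet
        exact absurd hdet zero_ne_one
    rcases hD _ h3 with ⟨e, -⟩ | ⟨e, -⟩
    · simp only [hx, mul_01, mul_00, mul_10, mul_11, inv_00, inv_01, inv_10, inv_11] at e
      simp [uM, dM, mk2, h01, h10, ← hh] at e
      have hne : h.1 0 0 ≠ 0 := fun e' => by rw [e', zero_mul] at hdet; exact zero_ne_one hdet
      refine mul_ne_zero (mul_ne_zero hne hc) hs2 ?_
      field_simp at e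
      linear_combination e
    · simp only [hx, mul_01, mul_00, mul_10, mul_11, inv_00, inv_01, inv_10, inv_11] at e
      simp [uM, dM, mk2, h01, h10, ← hh, ha] at e
      rw [e, zero_mul] at hdet
      exact zero_ne_one hdet
  · have hdet := det_eq h
    rw [h00, zero_mul, zero_sub] at hdet
    have h10 : h.1 1 0 ≠ 0 := fun e => by rw [e, mul_zero, neg_zero] at hdet; exact zero_ne_one hdet
    rcases hD _ h2 with ⟨-, e⟩ | ⟨e, -⟩
    · simp only [mul_10, mul_11, inv_10, inv_11] at e
      simp [uM, mk2, h00, h11] at e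
      exact h10 e
    · simp only [mul_00, mul_01, inv_00, inv_01] at e
      simp [uM, mk2, h00, h11] at e
      exact e.elim hv0 h10

theorem isBin_conj {G : Type*} [Group G] {H : Subgroup G} (hb : IsBin H) (P : G) :
    IsBin (H.map (MulAut.conj P).toMonoidHom) :=
  hb.map (MulAut.conj P)

theorem mem_map_conj {G : Type*} [Group G] {H : Subgroup G} {P g : G} :
    g ∈ H.map (MulAut.conj P).toMonoidHom ↔ P⁻¹ * g * P ∈ H := by
  rw [Subgroup.mem_map]
  constructor
  · rintro ⟨y, hy, rfl⟩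
    simpa [mul_assoc] using hy
  · intro h
    exact ⟨_, h, by simp [mul_assoc]⟩

/-- Elements fixed by the `q`-th power have an eigenvalue in the field. -/
theorem exists_eigen {g : SL2} (hg : ¬ Cen (g * g)) (hq : g ^ Fintype.card F = g) :
    ∃ (a : F) (ha : a ≠ 0), a ^ 4 ≠ 1 ∧ tr (dM a ha) = tr g := by
  classical
  let ψ : Polynomial F → F := fun f => (Polynomial.aeval (g : M2) f).det
  let Ψ : Polynomial F →* F :=
    { toFun := ψ
      map_one' := by simp [ψ]
      map_mul' := fun f f' => by simp [ψ] }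
  have h0 : Ψ (Polynomial.X ^ Fintype.card F - Polynomial.X) = 0 := by
    show (Polynomial.aeval (g : M2) _).det = 0
    rw [map_sub, map_pow, Polynomial.aeval_X, ← Matrix.SpecialLinearGroup.coe_pow, hq, sub_self]
    exact Matrix.det_zero
  have hm : (Polynomial.X ^ Fintype.card F - Polynomial.X : Polynomial F).Monic := by
    refine Polynomial.monic_X_pow_sub ?_
    rw [Polynomial.degree_X]
    exact_mod_cast Fintype.one_lt_card
  have hprod := Polynomial.prod_multiset_X_sub_C_of_monic_of_roots_card_eq hm (by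
    rw [FiniteField.roots_X_pow_card_sub_X, FiniteField.X_pow_card_sub_X_natDegree_eq F Fintype.one_lt_card]
    rfl)
  rw [FiniteField.roots_X_pow_card_sub_X] at hprod
  rw [← hprod, map_multiset_prod, Multiset.map_map, Multiset.prod_eq_zero_iff, Multiset.mem_map] at h0
  obtain ⟨a, -, ha⟩ := h0
  have ha' : a ^ 2 - tr g * a + 1 = 0 := by
    simp [Ψ, ψ, Matrix.det_fin_two, Matrix.algebraMap_eq_diagonal, Matrix.sub_apply, Matrix.diagonal] at ha
    rw [tr]
    linear_combination ha - det_eq g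
  have ha0 : a ≠ 0 := fun e => by simp [e] at ha'
  refine ⟨a, ha0, fun h4 => ?_, ?_⟩
  · rcases mul_eq_zero.mp (by linear_combination h4 : (a ^ 2 + 1) * (a ^ 2 - 1) = 0) with e | e
    · refine tr_ne_zero hg ((mul_eq_zero.mp ?_).resolve_right ha0)
      linear_combination e - ha'
    · -- trace `± 2`: the element would be scalar
      obtain ⟨p, n, hp, hn⟩ := FiniteField.card' F
      haveI := Fact.mk hn.1
      haveI : CharP M2 p := inferInstance
      have hN : ((g : M2) - a • 1) * ((g : M2) - a • 1) = 0 := by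
        have ht : tr g = 2 * a := mul_right_cancel₀ ha0 (by linear_combination -ha' - e)
        rw [tr] at ht
        ext i j
        fin_cases i <;> fin_cases j <;>
          simp [Matrix.mul_apply, Fin.sum_univ_two, Matrix.sub_apply, Matrix.smul_apply]
        · linear_combination g.1 0 0 * ht + e - det_eq g
        · linear_combination g.1 0 1 * ht
        · linear_combination g.1 1 0 * ht
        · linear_combination g.1 1 1 * ht + e - det_eq g
      have hq2 : 2 ≤ Fintype.card F := Fintype.one_lt_card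
      have hpow : ((g : M2) - a • 1) ^ Fintype.card F = 0 := by
        obtain ⟨k, hk⟩ : ∃ k, Fintype.card F = 2 + k := ⟨_, (Nat.add_sub_cancel' hq2).symm⟩
        rw [hk, pow_add, sq, hN, zero_mul]
      rw [hn.2, sub_pow_char_pow_of_commute _ _ ((Commute.one_right _).smul_right a), ← hn.2, smul_pow, one_pow,
        FiniteField.pow_card, ← Matrix.SpecialLinearGroup.coe_pow, hq, sub_eq_zero] at hpow
      refine not_cen_of_sq hg (cen_iff.mpr ?_)
      rw [hpow]
      simp
  · simp only [tr, dM, mk2] at ha' ⊢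
    simp
    field_simp
    linear_combination ha'

/-- No binary action when the stabiliser is the normaliser of a split torus element. -/
theorem split_case {H : Subgroup SL2} (hb : IsBin H) {g : SL2} (hgH : g ∈ H) (hg : ¬ Cen (g * g))
    (hq : g ^ Fintype.card F = g) (hN : ∀ u ∈ H, u * g * u⁻¹ = g ∨ u * g * u⁻¹ = g⁻¹) : False := by
  obtain ⟨a, ha, ha4, htr⟩ := exists_eigen hg hq
  have hs2 : a ^ 2 - 1 ≠ 0 := fun e => ha4 (by linear_combination (a ^ 2 + 1) * e)
  obtain ⟨P, hP⟩ := exists_conj (h := dM a ha) (not_cen_of_sq hg) (fun h => hs2 (by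
      have := (cen_iff.mp h).2.2
      simp [dM, mk2] at this
      field_simp at this
      linear_combination -this)) htr.symm
    (Or.inl fun e => by
      rw [← htr] at e
      simp [tr, dM, mk2] at e
      field_simp at e
      exact hs2 (pow_eq_zero_iff two_ne_zero |>.mp (by linear_combination e)))
  refine split_false (isBin_conj hb P).triIn_top (fun u hu => ?_) ha ha4 ?_ (c := 1) one_ne_zero
    (Subgroup.mem_top _) (Subgroup.mem_top _)
  · rw [mem_map_conj] at hu
    have hinv : (dM a ha)⁻¹ = dM a⁻¹ (inv_ne_zero ha) := by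
      apply sl_ext <;> simp only [inv_00, inv_01, inv_10, inv_11] <;> simp [dM, mk2]
    rcases hN _ hu with e | e
    · left
      have e' : u * dM a ha = dM a ha * u := by
        rw [← hP]
        calc u * (P * g * P⁻¹) = P * (P⁻¹ * u * P * g * (P⁻¹ * u * P)⁻¹) * P⁻¹ * u := by group
          _ = P * g * P⁻¹ * u := by rw [e]
      obtain ⟨-, r01, r10, -⟩ := mul_dM_entries a ha u
      obtain ⟨-, l01, l10, -⟩ := dM_mul_entries a ha u
      rw [e', l01] at r01
      rw [e', l10] at r10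
      field_simp at r01 r10
      constructor
      · exact (mul_eq_zero.mp (by linear_combination r01 : u.1 0 1 * (a ^ 2 - 1) = 0)).resolve_right hs2
      · exact (mul_eq_zero.mp (by linear_combination -r10 : u.1 1 0 * (a ^ 2 - 1) = 0)).resolve_right hs2
    · right
      have e' : u * dM a ha = dM a⁻¹ (inv_ne_zero ha) * u := by
        rw [← hinv, ← hP]
        calc u * (P * g * P⁻¹) = P * (P⁻¹ * u * P * g * (P⁻¹ * u * P)⁻¹) * P⁻¹ * u := by group
          _ = (P * g * P⁻¹)⁻¹ * u := by rw [e]; group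
      obtain ⟨r00, -, -, r11⟩ := mul_dM_entries a ha u
      obtain ⟨l00, -, -, l11⟩ := dM_mul_entries a⁻¹ (inv_ne_zero ha) u
      rw [e', l00] at r00
      rw [e', l11] at r11
      field_simp at r00 r11
      constructor
      · exact (mul_eq_zero.mp (by linear_combination -r00 : u.1 0 0 * (a ^ 2 - 1) = 0)).resolve_right hs2
      · exact (mul_eq_zero.mp (by linear_combination r11 : u.1 1 1 * (a ^ 2 - 1) = 0)).resolve_right hs2
  · rw [mem_map_conj, ← hP, show P⁻¹ * (P * g * P⁻¹) * P = g by group]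
    exact hgH

end Cfsg.Lib.Binary
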