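import Cfsg.Agent.Lib.Binary.PSLBorel

/-!
# Subfield stabilisers
-/

set_option autoImplicit false
set_option linter.unusedSectionVars false

namespace Cfsg.Lib.Binary

open Matrix

variable {F : Type*} [Field F] [Fintype F]

local notation "SL2" => Matrix.SpecialLinearGroup (Fin 2) F

/-- A small subfield misses some fourth power. -/
theorem exists_fourth_not_mem (L : Subfield F) (hL : 4 * Nat.card L < Fintype.card F + 3) :
    ∃ s : F, s ≠ 0 ∧ s ^ 4 ∉ L := by
  classical
  by_contra hall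
  push Not at hall
  obtain ⟨S, hS⟩ : ∃ S : Finset F, S = Finset.univ.filter fun c => c ∈ L ∧ c ≠ 0 := ⟨_, rfl⟩
  have hsub : (Finset.univ : Finset F) ⊆
      insert 0 (S.biUnion fun c => (Polynomial.nthRoots 4 c).toFinset) := by
    intro x _
    simp only [hS, Finset.mem_insert, Finset.mem_biUnion, Finset.mem_filter, Finset.mem_univ, true_and,
      Multiset.mem_toFinset, Polynomial.mem_nthRoots (show 0 < 4 by norm_num)]
    by_cases hx : x = 0
    · exact Or.inl hx
    · exact Or.inr ⟨x ^ 4, ⟨hall x hx, pow_ne_zero 4 hx⟩, rfl⟩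
  have h1 := ((Finset.card_le_card hsub).trans (Finset.card_insert_le _ _)).trans
    (Nat.succ_le_succ (Finset.card_biUnion_le_card_mul _ _ 4 fun c _ =>
      (Multiset.toFinset_card_le _).trans (Polynomial.card_nthRoots 4 c)))
  rw [Finset.card_univ] at h1
  have e : Nat.card L = S.card + 1 := by
    rw [Nat.card_eq_fintype_card, Fintype.card_subtype, ← Finset.card_insert_of_notMem (a := (0 : F)) (by simp [hS])]
    congr 1
    ext x
    simp only [hS, Finset.mem_insert, Finset.mem_filter, Finset.mem_univ, true_and]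
    constructor
    · intro hx
      by_cases h0 : x = 0
      exacts [Or.inl h0, Or.inr ⟨hx, h0⟩]
    · rintro (rfl | ⟨hx, -⟩)
      exacts [zero_mem L, hx]
  omega

/-- Stabilisers with squared traces in a small subfield. -/
theorem subfield_case {H : Subgroup SL2} (hb : IsBin H) (L : Subfield F) (htr : ∀ u ∈ H, tr u ^ 2 ∈ L)
    {s : F} (hs0 : s ≠ 0) (hs : s ^ 4 ∉ L) {a : F} (ha : a ≠ 0) (ha4 : a ^ 4 ≠ 1) (hd : dM a ha ∈ H)
    {v : F} (hv : v ≠ 0) (hvH : uM v ∈ H) {e : SL2} (he : e ∈ H) (he10 : e.1 1 0 ≠ 0) : False := by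
  have hs2 : a ^ 2 - 1 ≠ 0 := fun h => ha4 (by linear_combination (a ^ 2 + 1) * h)
  have key : ∀ w ∈ H, ∀ r : F, uM r ∈ H → (w.1 1 0 * r) ^ 2 ∈ L := by
    intro w hw r hr
    have t0 := htr w hw
    have t1 := htr _ (mul_mem hw hr)
    have t2 := htr _ (mul_mem hw (inv_mem hr))
    have e1 : tr (w * uM r) = tr w + w.1 1 0 * r := by
      simp only [tr, mul_00, mul_11]; simp [uM, mk2]; ring
    have e2 : tr (w * (uM r)⁻¹) = tr w - w.1 1 0 * r := by
      simp only [tr, mul_00, mul_11, inv_00, inv_01, inv_10, inv_11]; simp [uM, mk2]; ring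
    rw [e1] at t1
    rw [e2] at t2
    by_cases h2 : (2 : F) = 0
    · have := L.sub_mem t1 t0
      rwa [show (tr w + w.1 1 0 * r) ^ 2 - tr w ^ 2 = (w.1 1 0 * r) ^ 2 by
        linear_combination (tr w * (w.1 1 0 * r)) * h2] at this
    · have hm := L.mul_mem (L.inv_mem (show (2 : F) ∈ L by
        rw [← one_add_one_eq_two]; exact L.add_mem L.one_mem L.one_mem))
        (L.sub_mem (L.add_mem t1 t2) (L.add_mem t0 t0))
      rwa [show (tr w + w.1 1 0 * r) ^ 2 + (tr w - w.1 1 0 * r) ^ 2 - (tr w ^ 2 + tr w ^ 2) =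
        2 * (w.1 1 0 * r) ^ 2 by ring, inv_mul_cancel_left₀ h2] at hm
  have hratio : ∀ z : F, z ≠ 0 → z ^ 2 ∈ L → (z * s ^ 2) ^ 2 ∈ L → False := fun z hz h1 h2 => hs (by
    have := L.div_mem h2 h1
    rwa [mul_pow, mul_div_cancel_left₀ _ (pow_ne_zero 2 hz), ← pow_mul] at this)
  refine split_false (hb.triIn_suborbit (dM s hs0)) (fun u hu => ?_) ha ha4 ?_ hv hvH ?_
  · obtain ⟨h1, h2⟩ := Subgroup.mem_inf.mp hu
    obtain ⟨u', hu', hu'H⟩ : ∃ u', u' = (dM s hs0)⁻¹ * u * dM s hs0 ∧ u' ∈ H :=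
      ⟨_, rfl, by simpa using Subgroup.mem_comap.mp h2⟩
    have e10 : u'.1 1 0 = u.1 1 0 * s ^ 2 := by
      rw [hu']
      simp only [mul_10, mul_11, mul_00, mul_01, inv_10, inv_11, inv_00, inv_01]
      simp [dM, mk2]
      ring
    have e00 : u'.1 0 0 = u.1 0 0 := by
      rw [hu']
      simp only [mul_10, mul_11, mul_00, mul_01, inv_10, inv_11, inv_00, inv_01]
      simp [dM, mk2]
      field_simp
    have e01 : u'.1 0 1 * s ^ 2 = u.1 0 1 := by
      rw [hu']
      simp only [mul_10, mul_11, mul_00, mul_01, inv_10, inv_11, inv_00, inv_01]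
      simp [dM, mk2]
      field_simp
    have hγ : u.1 1 0 = 0 := by
      by_contra hγ
      refine hratio _ (mul_ne_zero hγ hv) (key u h1 v hvH) ?_
      rw [show u.1 1 0 * v * s ^ 2 = u.1 1 0 * s ^ 2 * v by ring, ← e10]
      exact key u' hu'H v hvH
    left
    refine ⟨?_, hγ⟩
    by_contra hβ
    have comm : ∀ w ∈ H, w.1 1 0 = 0 → uM ((a ^ 2 - 1) * (w.1 0 0 * w.1 0 1)) ∈ H := fun w hw h10 => by
      have := mul_mem (mul_mem (mul_mem hd hw) (inv_mem hd)) (inv_mem hw)
      have hdw := det_eq w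
      rw [h10, mul_zero, sub_zero] at hdw
      have e' : dM a ha * w * (dM a ha)⁻¹ * w⁻¹ = uM ((a ^ 2 - 1) * (w.1 0 0 * w.1 0 1)) := by
        apply sl_ext <;> simp only [mul_00, mul_01, mul_10, mul_11, inv_00, inv_01, inv_10, inv_11] <;>
          simp [uM, dM, mk2, h10, ha]
        · field_simp
          linear_combination hdw
        · field_simp
          ring
        · field_simp
          linear_combination hdw
      rwa [e'] at this
    have hα : u.1 0 0 ≠ 0 := fun h => by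
      have := det_eq u
      rw [h, hγ, zero_mul, mul_zero, sub_zero] at this
      exact zero_ne_one this
    have r1 := key e he _ (comm u h1 hγ)
    have r2 := key e he _ (comm u' hu'H (by rw [e10, hγ, zero_mul]))
    rw [e00] at r2
    refine hratio (e.1 1 0 * ((a ^ 2 - 1) * (u.1 0 0 * u'.1 0 1)))
      (mul_ne_zero he10 (mul_ne_zero hs2 (mul_ne_zero hα fun h => hβ (by rw [← e01, h, zero_mul])))) r2 ?_
    rw [← e01] at r1
    rwa [show e.1 1 0 * ((a ^ 2 - 1) * (u.1 0 0 * u'.1 0 1)) * s ^ 2 =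
      e.1 1 0 * ((a ^ 2 - 1) * (u.1 0 0 * (u'.1 0 1 * s ^ 2))) by ring]
  · refine Subgroup.mem_inf.mpr ⟨hd, Subgroup.mem_comap.mpr ?_⟩
    simp only [MulEquiv.coe_toMonoidHom, MulAut.conj_apply, inv_inv]
    have : (dM s hs0)⁻¹ * dM a ha * dM s hs0 = dM a ha := by
      apply sl_ext <;> simp only [mul_00, mul_01, mul_10, mul_11, inv_00, inv_01, inv_10, inv_11] <;>
        simp [dM, mk2] <;> field_simp
    rw [this]
    exact hd
  · rw [show (a ^ 2 + 1) * v = a ^ 2 * v + v by ring, ← uM_mul, ← dM_conj_uM a ha]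
    exact mul_mem (mul_mem (mul_mem hd hvH) (inv_mem hd)) hvH

end Cfsg.Lib.Binary
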