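import Cfsg.Agent.Lib.Binary.Basic

/-!
# Binary linear groups: the plane of two non-commuting members
-/

set_option autoImplicit false
set_option linter.unusedSectionVars false

namespace Cfsg.Lib.Binary

variable {H V : Type*} [Group H] [AddCommGroup V] [DistribMulAction H V] [Finite V]
variable {p : ℕ} (P : Hyp H V p) {a b : H} (ha : InR V a) (hb : InR V b) (hab : a * b ≠ b * a)
include P ha hb hab

theorem Hyp.plane_inf {u v : V} (hu : u ∈ Mv a) (hv : v ∈ Mv b) (h1 : a • (u + v) = u + v)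
    (h2 : b • (u + v) = u + v) : u = 0 ∧ v = 0 := by
  by_cases hp : p = 2
  · have hau : a • u = u := P.Mv_le_Fx hp ha hu
    have hbv : b • v = v := P.Mv_le_Fx hp hb hv
    rw [smul_add, hau] at h1
    rw [smul_add, hbv] at h2
    exact ⟨P.not_fix hb ha (Ne.symm hab) hu (add_right_cancel h2), P.not_fix ha hb hab hv (add_left_cancel h1)⟩
  have ht : u + v = 0 := by
    refine P.eq_zero_of_two hp (P.quad hp (g := a * b) (u := u) ?_ ?_)
    · rw [smul_add, mul_smul a b (u + v), h2, h1]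
    · rw [smul_add, P.smul_Mv hb hv] at h2
      rw [smul_add, P.smul_Mv ha hu] at h1
      have hbu : b • u = u + v + v := by
        calc b • u = b • u + -v + v := by abel
          _ = _ := by rw [h2]
      have hav : a • v = v + u + u := by
        calc a • v = -u + a • v + u := by abel
          _ = u + v + u := by rw [h1]
          _ = _ := by abel
      rw [mul_smul, hbu, smul_add, smul_add, P.smul_Mv ha hu, hav]
      abel
  have hu0 : u = 0 := by
    by_contra hne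
    refine hab ?_
    rw [P.eq_of_Mv ha hb hne hu (by rw [show u = -v from eq_neg_of_add_eq_zero_left ht]; exact neg_mem hv)]
  exact ⟨hu0, by rwa [hu0, zero_add] at ht⟩

theorem Hyp.plane_card :
    Nat.card (Mv (V := V) a) * Nat.card (Mv (V := V) a) * Nat.card ↥(Fx (V := V) a ⊓ Fx b) = Nat.card V ∧
      ∀ x : V, ∃ u ∈ Mv (V := V) a, ∃ v ∈ Mv (V := V) b, ∃ w : V, a • w = w ∧ b • w = w ∧ x = u + v + w := by
  classical
  let f : Mv (V := V) a × Mv (V := V) b × ↥(Fx (V := V) a ⊓ Fx b) → V := fun t => t.1 + t.2.1 + t.2.2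
  have hinj : Function.Injective f := by
    rintro ⟨u, v, w⟩ ⟨u', v', w'⟩ e
    have e' : (u : V) + v + w = u' + v' + w' := e
    have e2 : ((u : V) - u') + ((v : V) - v') = (w' : V) - w := by
      calc ((u : V) - u') + ((v : V) - v') = (u + v + w) - (u' + v' + w) := by abel
        _ = _ := by rw [e']; abel
    have hw : (w' : V) - w ∈ Fx (V := V) a ⊓ Fx b := sub_mem w'.2 w.2
    rw [← e2] at hw
    obtain ⟨h1, h2⟩ := P.plane_inf ha hb hab (sub_mem u.2 u'.2) (sub_mem v.2 v'.2) hw.1 hw.2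
    rw [h1, h2, add_zero] at e2
    exact Prod.ext (Subtype.ext (sub_eq_zero.1 h1))
      (Prod.ext (Subtype.ext (sub_eq_zero.1 h2)) (Subtype.ext (sub_eq_zero.1 e2.symm).symm))
  have hge : Nat.card V ≤ Nat.card (Mv (V := V) a) * Nat.card (Mv (V := V) a) * Nat.card ↥(Fx (V := V) a ⊓ Fx b) := by
    let g : Fx (V := V) a →+ Mv (V := V) b :=
      AddMonoidHom.mk' (fun v => ⟨b • (v : V) - v, sub_mem_Mv b _⟩) fun x y => Subtype.ext ((df (V := V) b).map_add (x : V) (y : V))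
    have h := g.ker.card_mul_index
    rw [AddSubgroup.index_ker] at h
    have hk : Nat.card g.ker ≤ Nat.card ↥(Fx (V := V) a ⊓ Fx b) := Nat.card_le_card_of_injective
      (fun x => (⟨((x : Fx (V := V) a) : V), (x : Fx (V := V) a).2,
        sub_eq_zero.1 (congrArg Subtype.val (AddMonoidHom.mem_ker.1 x.2))⟩ : ↥(Fx (V := V) a ⊓ Fx b)))
      fun x y e => Subtype.ext (Subtype.ext (Subtype.ext_iff.1 e :))
    have hr : Nat.card g.range ≤ Nat.card (Mv (V := V) b) := Nat.card_le_card_of_injective _ Subtype.val_injective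
    rw [← card_Fx_mul a, ← h]
    refine le_trans (Nat.mul_le_mul_right _ (Nat.mul_le_mul hk hr)) (le_of_eq ?_)
    rw [P.card_eq_of_noncomm ha hb hab]; ring
  have hc : Nat.card (Mv (V := V) a × Mv (V := V) b × ↥(Fx (V := V) a ⊓ Fx b)) =
      Nat.card (Mv (V := V) a) * Nat.card (Mv (V := V) a) * Nat.card ↥(Fx (V := V) a ⊓ Fx b) := by
    rw [Nat.card_prod, Nat.card_prod, P.card_eq_of_noncomm ha hb hab]; ring
  have heq := le_antisymm (hc ▸ Nat.card_le_card_of_injective f hinj) hge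
  refine ⟨heq, fun x => ?_⟩
  obtain ⟨⟨u, v, w⟩, hx⟩ := ((Nat.bijective_iff_injective_and_card f).2 ⟨hinj, hc.trans heq⟩).2 x
  exact ⟨u, u.2, v, v.2, w, w.2.1, w.2.2, hx.symm⟩

/-- The product fixes only the common fixed space. -/
theorem Hyp.plane_fix {x : V} (hx : (a * b) • x = x) : a • x = x ∧ b • x = x := by
  rw [mul_smul] at hx
  have e : b • x = a • x := by
    have := congrArg (fun v => a • v) hx
    simp only [P.smul_smul_self ha] at this
    exact this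
  by_cases h : a • x = x
  · exact ⟨h, e.trans h⟩
  · exact absurd (P.eq_of_Mv ha hb (sub_ne_zero.2 h) (sub_mem_Mv a x) (by rw [← e]; exact sub_mem_Mv b x))
      (fun h' => hab (by rw [h']))

theorem Hyp.plane_solve {d : V} (hd : d ∈ Mv (V := V) a ⊔ Mv b) :
    ∃ z ∈ Mv (V := V) a ⊔ Mv b, (a * b) • z - z = d := by
  let f : ↥(Mv (V := V) a ⊔ Mv b) → ↥(Mv (V := V) a ⊔ Mv b) := fun z => ⟨(a * b) • (z : V) - z, by
    rw [mul_smul, show a • b • (z : V) - z = (a • b • (z : V) - b • (z : V)) + (b • (z : V) - z) by abel]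
    exact add_mem (AddSubgroup.mem_sup_left (sub_mem_Mv a _)) (AddSubgroup.mem_sup_right (sub_mem_Mv b _))⟩
  have hinj : Function.Injective f := by
    intro x y e
    have e' : (a * b) • (x : V) - x = (a * b) • (y : V) - y := congrArg Subtype.val e
    have hfix : (a * b) • ((x : V) - y) = x - y := by
      rw [smul_sub]
      calc (a * b) • (x : V) - (a * b) • (y : V)
          = ((a * b) • (x : V) - x) - ((a * b) • (y : V) - y) + ((x : V) - y) := by abel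
        _ = _ := by rw [e']; abel
    obtain ⟨h1, h2⟩ := P.plane_fix ha hb hab hfix
    obtain ⟨u, hu, v, hv, huv⟩ := AddSubgroup.mem_sup.1 (sub_mem x.2 y.2)
    rw [← huv] at h1 h2
    obtain ⟨hu0, hv0⟩ := P.plane_inf ha hb hab hu hv h1 h2
    exact Subtype.ext (sub_eq_zero.1 (by rw [← huv, hu0, hv0, add_zero]))
  obtain ⟨z, hz⟩ := (Finite.injective_iff_surjective.1 hinj) ⟨d, hd⟩
  exact ⟨z, z.2, congrArg Subtype.val hz⟩

/-- What fixes the common fixed space is non-commuting with one of the pair. -/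
theorem Hyp.plane_noncomm {f : H} (hf : InR V f) (hW : Fx (V := V) a ⊓ Fx b ≤ Fx f) :
    (f * a ≠ a * f ∨ f * b ≠ b * f) ∧ Nat.card (Mv (V := V) f) = Nat.card (Mv (V := V) a) ∧
      ∀ e ∈ Mv (V := V) f, a • e = e → b • e = e → e = 0 := by
  have h : f * a ≠ a * f ∨ f * b ≠ b * f := by
    by_contra hcon
    push Not at hcon
    by_cases hfa : f = a
    · exact hab (hfa ▸ hcon.2)
    by_cases hfb : f = b
    · exact hab (hfb ▸ hcon.1).symm
    refine hf.1 (P.faith f fun x => ?_)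
    obtain ⟨u, hu, v, hv, w, hwa, hwb, rfl⟩ := (P.plane_card ha hb hab).2 x
    rw [smul_add, smul_add, show f • u = u from P.le_of_comm hf ha hfa hcon.1 hu,
      show f • v = v from P.le_of_comm hf hb hfb hcon.2 hv, show f • w = w from hW ⟨hwa, hwb⟩]
  refine ⟨h, ?_, fun e he h1 h2 => ?_⟩
  · rcases h with h | h
    · exact (P.card_eq_of_noncomm hf ha h).symm
    · exact (P.card_eq_of_noncomm hf hb h).symm.trans (P.card_eq_of_noncomm ha hb hab)
  · rcases h with h | h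
    · exact P.not_fix ha hf (Ne.symm h) he h1
    · exact P.not_fix hb hf (Ne.symm h) he h2

/-- In characteristic two the fixed space of such a member is its moved space plus the common one. -/
theorem Hyp.plane_Fx (hp : p = 2) {f : H} (hf : InR V f) (hW : Fx (V := V) a ⊓ Fx b ≤ Fx f) {x : V}
    (hx : f • x = x) : ∃ u ∈ Mv (V := V) f, ∃ w : V, a • w = w ∧ b • w = w ∧ x = u + w := by
  obtain ⟨-, hq, h0⟩ := P.plane_noncomm ha hb hab hf hW
  let φ : Mv (V := V) f × ↥(Fx (V := V) a ⊓ Fx b) → Fx (V := V) f :=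
    fun t => ⟨(t.1 : V) + t.2, add_mem (P.Mv_le_Fx hp hf t.1.2) (hW t.2.2)⟩
  have hinj : Function.Injective φ := by
    rintro ⟨u, w⟩ ⟨u', w'⟩ e
    have e' : (u : V) + w = u' + w' := congrArg Subtype.val e
    have e2 : (u : V) - u' = w' - w := by
      calc (u : V) - u' = (u + w) - (u' + w) := by abel
        _ = _ := by rw [e']; abel
    have hu : (u : V) - u' = 0 :=
      h0 _ (sub_mem u.2 u'.2) (e2 ▸ (sub_mem w'.2 w.2).1) (e2 ▸ (sub_mem w'.2 w.2).2)
    exact Prod.ext (Subtype.ext (sub_eq_zero.1 hu)) (Subtype.ext (sub_eq_zero.1 (e2 ▸ hu)).symm)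
  have hpos : 0 < Nat.card (Mv (V := V) a) := Nat.card_pos
  have hc : Nat.card (Mv (V := V) f × ↥(Fx (V := V) a ⊓ Fx b)) = Nat.card (Fx (V := V) f) := by
    refine Nat.eq_of_mul_eq_mul_right hpos ?_
    have h2 := card_Fx_mul (V := V) f
    rw [hq] at h2
    rw [Nat.card_prod, hq, h2, ← (P.plane_card ha hb hab).1]; ring
  obtain ⟨⟨u, w⟩, he⟩ := ((Nat.bijective_iff_injective_and_card φ).2 ⟨hinj, hc⟩).2 ⟨x, hx⟩
  exact ⟨u, u.2, w, w.2.1, w.2.2, (congrArg Subtype.val he).symm⟩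

/-- Every vector of the plane is moved by a member fixing the common fixed space. -/
theorem Hyp.plane_good {d : V} (hd : d ∈ Mv (V := V) a ⊔ Mv b) (hd0 : d ≠ 0) :
    ∃ h : H, InR V h ∧ Fx (V := V) a ⊓ Fx b ≤ Fx h ∧ d ∈ Mv h ∧ (h * a ≠ a * h ∨ h * b ≠ b * h) := by
  classical
  obtain ⟨z, hzP, hz⟩ := P.plane_solve ha hb hab hd
  obtain ⟨h, h1, h2, h3, -⟩ := P.swap (a * b) z
  obtain ⟨s, hs⟩ : ∃ s, s = z + (a * b) • z := ⟨_, rfl⟩
  rw [← hs] at h2
  have hhz : h • z - z = d := by rw [h3, hz]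
  have hh1 : h ≠ 1 := fun e => hd0 (by rw [← hhz, e, one_smul, sub_self])
  have hhW : ∀ w : V, a • w = w → b • w = w → h • w = w :=
    fun w hwa hwb => h1 w (by rw [mul_smul, hwb, hwa])
  have hs0 : ¬ (a • s = s ∧ b • s = s) := by
    rintro ⟨hsa, hsb⟩
    have hsP : s ∈ Mv (V := V) a ⊔ Mv b := by
      have hsd : s = d + (z + z) := by rw [hs, ← hz]; abel
      rw [hsd]; exact add_mem hd (add_mem hzP hzP)
    obtain ⟨u, hu, v, hv, huv⟩ := AddSubgroup.mem_sup.1 hsP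
    rw [← huv] at hsa hsb
    obtain ⟨rfl, rfl⟩ := P.plane_inf ha hb hab hu hv hsa hsb
    rw [add_zero] at huv
    have hgz : (a * b) • z = -z := eq_neg_of_add_eq_zero_right (hs.symm.trans huv.symm)
    by_cases hp : p = 2
    · exact hd0 (by rw [← hz, hgz, sub_eq_add_neg, ← neg_add, P.two_zero hp, neg_zero])
    obtain ⟨u, hu, v, hv, rfl⟩ := AddSubgroup.mem_sup.1 hzP
    rw [mul_smul] at hgz
    have e := congrArg (fun x => a • x) hgz
    simp only [P.smul_smul_self ha, smul_neg, smul_add, P.smul_Mv ha hu, P.smul_Mv hb hv] at e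
    have e2 : b • u - u = -(a • v - v) := by
      calc b • u - u = (b • u + -v) + v - u := by abel
        _ = -(-u + a • v) + v - u := by rw [e]
        _ = _ := by abel
    have hbu : b • u - u = 0 := by
      by_contra hne
      exact hab (by rw [P.eq_of_Mv ha hb hne (by rw [e2]; exact neg_mem (sub_mem_Mv a v)) (sub_mem_Mv b u)])
    have hu0 := P.not_fix hb ha (Ne.symm hab) hu (sub_eq_zero.1 hbu)
    rw [hbu, eq_comm, neg_eq_zero] at e2
    have hv0 := P.not_fix ha hb hab hv (sub_eq_zero.1 e2)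
    exact hd0 (by rw [← hz, hu0, hv0, add_zero, smul_zero, sub_zero])
  -- the common fixed space with `s`
  obtain ⟨f, hf, hfh⟩ := P.exists_inR hh1
  have hfW : Fx (V := V) a ⊓ Fx b ≤ Fx f := fun w hw => hfh (hhW w hw.1 hw.2)
  have hfs : f • s = s := hfh h2
  obtain ⟨hnc, hfq, hf0⟩ := P.plane_noncomm ha hb hab hf hfW
  have hTW : ∀ g : H, InR V g → Fx (V := V) a ⊓ Fx b ≤ Fx g → g • s = s → Fx (V := V) g ≤ Fx f := by
    intro g hg hgW hgs
    by_cases hgf : g = f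
    · rw [hgf]
    obtain ⟨-, hgq, -⟩ := P.plane_noncomm ha hb hab hg hgW
    have hcomm : f * g = g * f := by
      by_contra hne
      have hc := (P.plane_card hf hg hne).1
      rw [hfq] at hc
      have hle : Fx (V := V) a ⊓ Fx b ≤ Fx f ⊓ Fx g := le_inf hfW hgW
      have : Fx (V := V) a ⊓ Fx b = Fx f ⊓ Fx g := AddSubgroup.eq_of_le_of_card_ge hle (le_of_eq
        (Nat.eq_of_mul_eq_mul_left (mul_pos Nat.card_pos Nat.card_pos) (hc.trans (P.plane_card ha hb hab).1.symm)))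
      exact hs0 (this.symm ▸ (⟨hfs, hgs⟩ : s ∈ Fx (V := V) f ⊓ Fx g) : s ∈ Fx (V := V) a ⊓ Fx b)
    have hle1 := P.le_of_comm hg hf hgf hcomm.symm
    by_cases hp : p = 2
    · have h5 : Fx (V := V) f ≤ Fx g := fun x hx => by
        obtain ⟨u, hu, w, hwa, hwb, rfl⟩ := P.plane_Fx ha hb hab hp hf hfW hx
        exact add_mem (hle1 hu) (hgW ⟨hwa, hwb⟩)
      exact hf.2 g hg.1 h5
    exfalso
    let φ : Mv (V := V) f × ↥(Fx (V := V) f ⊓ Fx g) → Fx (V := V) g :=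
      fun t => ⟨(t.1 : V) + t.2, add_mem (hle1 t.1.2) t.2.2.2⟩
    have hinj : Function.Injective φ := by
      rintro ⟨u, w⟩ ⟨u', w'⟩ e
      have e' : (u : V) + w = u' + w' := congrArg Subtype.val e
      have e2 : (u : V) - u' = w' - w := by
        calc (u : V) - u' = (u + w) - (u' + w) := by abel
          _ = _ := by rw [e']; abel
      have hu : (u : V) - u' = 0 := P.Mv_inf_Fx hp hf (sub_mem u.2 u'.2) (e2 ▸ (sub_mem w'.2 w.2).1)
      exact Prod.ext (Subtype.ext (sub_eq_zero.1 hu)) (Subtype.ext (sub_eq_zero.1 (e2 ▸ hu)).symm)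
    have hc := Nat.card_le_card_of_injective φ hinj
    rw [Nat.card_prod, hfq] at hc
    have hle : Nat.card ↥(Fx (V := V) f ⊓ Fx g) ≤ Nat.card ↥(Fx (V := V) a ⊓ Fx b) := by
      have h1 := Nat.mul_le_mul_right (Nat.card (Mv (V := V) g)) hc
      rw [card_Fx_mul, hgq, ← (P.plane_card ha hb hab).1] at h1
      exact Nat.le_of_mul_le_mul_left (by linarith)
        (mul_pos (Nat.card_pos (α := Mv (V := V) a)) (Nat.card_pos (α := Mv (V := V) a)))
    exact hs0 ((AddSubgroup.eq_of_le_of_card_ge (le_inf hfW hgW) hle).symm ▸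
      (⟨hfs, hgs⟩ : s ∈ Fx (V := V) f ⊓ Fx g) : s ∈ Fx (V := V) a ⊓ Fx b)
  obtain ⟨y, hy⟩ : ∃ y : V, f • y ≠ y := by
    by_contra hcon
    push Not at hcon
    exact hf.1 (P.faith f hcon)
  let S : Set V := {w | a • w = w ∧ b • w = w} ∪ {s}
  have hSh : ∀ w ∈ S, h • w = w := by
    rintro w (hw | rfl)
    · exact hhW w hw.1 hw.2
    · exact h2
  have hSf : ∀ w ∈ S, f • w = w := by
    rintro w (hw | rfl)
    · exact hfW hw
    · exact hfs
  have hfree : ∀ y : V, f • y ≠ y → ∀ g : H, (∀ w ∈ S, g • w = w) → g • y = y → g = 1 := by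
    intro y hy g hgS hgy
    by_contra hg
    obtain ⟨g', hg', hle⟩ := P.exists_inR hg
    exact hy (hTW g' hg' (fun w hw => hle (hgS w (Or.inl hw))) (hle (hgS s (Or.inr rfl))) (hle hgy))
  by_cases hhf : h = f
  · exact ⟨f, hf, hfW, hhf ▸ ⟨z, hhz⟩, hnc⟩
  have hcomm : h * f = f * h := P.comm_of_free hSh hSf (hfree y hy)
  have hhU : ∀ e ∈ Mv (V := V) f, h • e = e := by
    intro e he
    by_contra hne
    have h6 : h • e ∈ Mv (V := V) f := by
      have := P.Mv_conj h f he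
      rwa [hcomm, mul_inv_cancel_right] at this
    obtain ⟨he', -⟩ := P.agree hf (sub_mem h6 he) hne
    refine hhf (inv_mul_eq_one.1 (hfree e (fun hfe => hne (he'.trans hfe)) (h⁻¹ * f) (fun w hw => ?_) ?_))
    · rw [mul_smul, hSf w hw]; exact inv_smul_eq_iff.2 (hSh w hw).symm
    · rw [mul_smul, ← he', inv_smul_smul]
  by_cases hp : p = 2
  · have hle : Fx (V := V) f ≤ Fx h := fun x hx => by
      obtain ⟨u, hu, w, hwa, hwb, rfl⟩ := P.plane_Fx ha hb hab hp hf hfW hx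
      exact add_mem (hhU u hu) (hhW w hwa hwb)
    have hR : InR V h := ⟨hh1, fun c hc hle' => (hf.2 c hc (hle.trans hle')).trans hle⟩
    have hW' : Fx (V := V) a ⊓ Fx b ≤ Fx h := fun w hw => hhW w hw.1 hw.2
    exact ⟨h, hR, hW', ⟨z, hhz⟩, (P.plane_noncomm ha hb hab hR hW').1⟩
  · obtain ⟨e, he, he0⟩ := P.Mv_ne hf.1
    exact absurd (P.Mv_inf_Fx hp hf he (hfh (hhU e he))) he0

omit ha hb hab in
theorem Hyp.two_pow_card (hp : p = 2) (G : AddSubgroup V) : ∃ i, Nat.card G = 2 ^ i := by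
  have : Fact (Nat.Prime 2) := ⟨Nat.prime_two⟩
  have h : IsPGroup 2 (Multiplicative G) := fun g =>
    ⟨1, Multiplicative.toAdd.injective (Subtype.ext (by simpa [two_nsmul] using P.two_zero hp (g.toAdd : V)))⟩
  obtain ⟨i, hi⟩ := IsPGroup.iff_card.1 h
  exact ⟨i, by rw [← hi]; exact Nat.card_congr Multiplicative.ofAdd⟩

/-- In characteristic two members fixing the common space are determined by their fixed spaces and move
only the plane. -/
theorem Hyp.plane_unique [Finite H] (hp : p = 2) {f : H} (hf : InR V f) (hfW : Fx (V := V) a ⊓ Fx b ≤ Fx f) :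
    (∀ g : H, InR V g → Fx (V := V) g = Fx f → g = f) ∧ Mv (V := V) f ≤ Mv a ⊔ Mv b := by
  classical
  let Mem : H → Prop := fun g => InR V g ∧ Fx (V := V) a ⊓ Fx b ≤ Fx g
  let G : V → Set V := fun x => {t | (a • t = t ∧ b • t = t) ∧ ∃ g, Mem g ∧ x + t ∈ Mv g}
  have hneg : ∀ v : V, -v = v := fun v => neg_eq_of_add_eq_zero_left (P.two_zero hp v)
  have hsame : ∀ {g g'}, Mem g → Mem g' → g * g' = g' * g → Fx (V := V) g = Fx g' := by
    intro g g' hg hg' hc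
    by_cases e : g = g'
    · rw [e]
    have h5 : Fx (V := V) g ≤ Fx g' := fun x hx => by
      obtain ⟨u, hu, w, hwa, hwb, rfl⟩ := P.plane_Fx ha hb hab hp hg.1 hg.2 hx
      exact add_mem (P.le_of_comm hg'.1 hg.1 (Ne.symm e) hc.symm hu) (hg'.2 ⟨hwa, hwb⟩)
    exact le_antisymm h5 (hg.1.2 g' hg'.1.1 h5)
  have hinfW : ∀ {g g'}, Mem g → Mem g' → g * g' ≠ g' * g → Fx (V := V) g ⊓ Fx g' = Fx a ⊓ Fx b := by
    intro g g' hg hg' hne
    have hc := (P.plane_card hg.1 hg'.1 hne).1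
    rw [(P.plane_noncomm ha hb hab hg.1 hg.2).2.1] at hc
    exact (AddSubgroup.eq_of_le_of_card_ge (le_inf hg.2 hg'.2) (le_of_eq
      (Nat.eq_of_mul_eq_mul_left (mul_pos Nat.card_pos Nat.card_pos) (hc.trans (P.plane_card ha hb hab).1.symm)))).symm
  have hPW : ∀ {x : V}, x ∈ Mv (V := V) a ⊔ Mv b → a • x = x → b • x = x → x = 0 := by
    intro x hx h1 h2
    obtain ⟨u, hu, v, hv, rfl⟩ := AddSubgroup.mem_sup.1 hx
    obtain ⟨rfl, rfl⟩ := P.plane_inf ha hb hab hu hv h1 h2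
    exact add_zero 0
  -- the same vector
  have hcomm : ∀ {x t t' g g'}, x ∈ Mv (V := V) a ⊔ Mv b → x ≠ 0 → Mem g → Mem g' → (a • t = t ∧ b • t = t) →
      (a • t' = t' ∧ b • t' = t') → x + t ∈ Mv (V := V) g → x + t' ∈ Mv g' → g * g' = g' * g := by
    intro x t t' g g' hx hx0 hg hg' ht ht' h1 h2
    by_contra hne
    have hd : -(x + t) + (x + t') = -t + t' := by abel
    have hf1 : g • (-t + t') = -t + t' := add_mem (neg_mem (hg.2 ht)) (hg.2 ht')
    have hf2 : g' • (-t + t') = -t + t' := add_mem (neg_mem (hg'.2 ht)) (hg'.2 ht')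
    obtain ⟨e1, -⟩ := P.plane_inf hg.1 hg'.1 hne (neg_mem h1) h2 (by rw [hd]; exact hf1) (by rw [hd]; exact hf2)
    rw [hneg] at e1
    obtain rfl : x = t := by rw [eq_neg_of_add_eq_zero_left e1, hneg]
    exact hx0 (hPW hx ht.1 ht.2)
  have hne_of : ∀ {g g'}, Mem g → Mem g' → Fx (V := V) g ≠ Fx g' → g * g' ≠ g' * g :=
    fun hg hg' hne hc => hne (hsame hg hg' hc)
  have hsum : ∀ {x y t t' g g'}, x ∈ Mv (V := V) a ⊔ Mv b → x ≠ 0 → y ∈ Mv (V := V) a ⊔ Mv b → Mem g → Mem g' →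
      (a • t = t ∧ b • t = t) → (a • t' = t' ∧ b • t' = t') → x + t ∈ Mv (V := V) g → y + t' ∈ Mv g' →
      g * g' ≠ g' * g → x + y ≠ 0 ∧ ∃ m, Mem m ∧ x + y + (t + t') ∈ Mv (V := V) m ∧ m * g' ≠ g' * m := by
    intro x y t t' g g' hx hx0 hy hg hg' ht ht' h1 h2 hne
    have hxy : x + y ≠ 0 := by
      intro e
      obtain rfl : x = y := by rw [eq_neg_of_add_eq_zero_left e, hneg]
      exact hne (hcomm hx hx0 hg hg' ht ht' h1 h2)
    refine ⟨hxy, ?_⟩
    have hd0 : x + y + (t + t') ≠ 0 := fun e => hxy (hPW (add_mem hx hy) (by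
        rw [eq_neg_of_add_eq_zero_left e, hneg, smul_add, ht.1, ht'.1]) (by
        rw [eq_neg_of_add_eq_zero_left e, hneg, smul_add, ht.2, ht'.2]))
    obtain ⟨m, hm, hmW, hmd, -⟩ := P.plane_good hg.1 hg'.1 hne (d := x + y + (t + t')) (by
      rw [add_add_add_comm]
      exact add_mem (AddSubgroup.mem_sup_left h1) (AddSubgroup.mem_sup_right h2)) hd0
    rw [hinfW hg hg' hne] at hmW
    refine ⟨m, ⟨hm, hmW⟩, hmd, fun hc => ?_⟩
    have he := hsame ⟨hm, hmW⟩ hg' hc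
    have h3 : x + t ∈ Fx (V := V) g' := by
      have := sub_mem (he ▸ P.Mv_le_Fx hp hm hmd) (P.Mv_le_Fx hp hg'.1 h2)
      rwa [show x + y + (t + t') - (y + t') = x + t by abel] at this
    have h4 : x + t ∈ Fx (V := V) a ⊓ Fx b := hinfW hg hg' hne ▸ ⟨P.Mv_le_Fx hp hg.1 h1, h3⟩
    refine hx0 (hPW hx ?_ ?_) <;> rw [show x = x + t - t by abel, smul_sub]
    · rw [ht.1, show a • (x + t) = x + t from h4.1]
    · rw [ht.2, show b • (x + t) = x + t from h4.2]
  have hW0z : a • (0 : V) = 0 ∧ b • (0 : V) = 0 := ⟨smul_zero a, smul_zero b⟩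
  have hgood : ∀ {x}, x ∈ Mv (V := V) a ⊔ Mv b → x ≠ 0 → (0 : V) ∈ G x := by
    intro x hx hx0
    obtain ⟨m, hm, hmW, hmd, -⟩ := P.plane_good ha hb hab hx hx0
    exact ⟨hW0z, m, ⟨hm, hmW⟩, by rwa [add_zero]⟩
  -- the vector of `f`
  obtain ⟨hfnc, -, hf0⟩ := P.plane_noncomm ha hb hab hf hfW
  obtain ⟨e, he, he0⟩ := P.Mv_ne (V := V) hf.1
  obtain ⟨u, hu, v, hv, t0, ht0a, ht0b, rfl⟩ := (P.plane_card ha hb hab).2 e
  obtain ⟨x, hx⟩ : ∃ x, x = u + v := ⟨_, rfl⟩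
  rw [← hx] at he he0
  have hxP : x ∈ Mv (V := V) a ⊔ Mv b := hx ▸ add_mem (AddSubgroup.mem_sup_left hu) (AddSubgroup.mem_sup_right hv)
  have hx0 : x ≠ 0 := fun h => he0 (hf0 _ he (by rw [h, zero_add, ht0a]) (by rw [h, zero_add, ht0b]))
  obtain ⟨g, hg, hgf⟩ : ∃ g, Mem g ∧ f * g ≠ g * f ∧ ∃ y ∈ Mv (V := V) g, y ∈ Mv (V := V) a ⊔ Mv b ∧ y ≠ 0 := by
    rcases hfnc with h | h
    · obtain ⟨y, hy, hy0⟩ := P.Mv_ne (V := V) ha.1
      exact ⟨a, ⟨ha, inf_le_left⟩, h, y, hy, AddSubgroup.mem_sup_left hy, hy0⟩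
    · obtain ⟨y, hy, hy0⟩ := P.Mv_ne (V := V) hb.1
      exact ⟨b, ⟨hb, inf_le_right⟩, h, y, hy, AddSubgroup.mem_sup_right hy, hy0⟩
  obtain ⟨hfg, y, hyg, hyP, hy0⟩ := hgf
  have hgy : y + 0 ∈ Mv (V := V) g := by rwa [add_zero]
  have hfm : Mem f := ⟨hf, hfW⟩
  -- the class of a vector
  have hclass : ∀ {z t t' m m'}, z ∈ Mv (V := V) a ⊔ Mv b → z ≠ 0 → Mem m → Mem m' → (a • t = t ∧ b • t = t) →
      (a • t' = t' ∧ b • t' = t') → z + t ∈ Mv (V := V) m → z + t' ∈ Mv m' → Fx (V := V) m = Fx m' :=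
    fun hz hz0 hm hm' ht ht' h1 h2 => hsame hm hm' (hcomm hz hz0 hm hm' ht ht' h1 h2)
  have hnc : ∀ {m m'}, Mem m → Mem m' → m * m' ≠ m' * m → Fx (V := V) m ≠ Fx m' := by
    intro m m' hm hm' hne e
    obtain ⟨d, hd, hd0⟩ := P.Mv_ne (V := V) hm'.1.1
    exact hne (P.comm_of_mem hm.1 hm'.1 hd hd0 (show d ∈ Fx (V := V) m from e ▸ P.Mv_le_Fx hp hm'.1 hd))
  have hadd : ∀ {z z' t t' m m'}, z ∈ Mv (V := V) a ⊔ Mv b → z ≠ 0 → z' ∈ Mv (V := V) a ⊔ Mv b → z' ≠ 0 →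
      Mem m → Mem m' → m * m' ≠ m' * m → z ∈ Mv (V := V) m → z' ∈ Mv m' → t ∈ G z → t' ∈ G z' →
      t + t' ∈ G (z + z') := by
    intro z z' t t' m m' hz hz0 hz' hz0' hm hm' hne hzm hzm' ⟨ht, k, hk, hkz⟩ ⟨ht', k', hk', hkz'⟩
    have e1 := hclass hz hz0 hk hm ht hW0z hkz (by rwa [add_zero])
    have e2 := hclass hz' hz0' hk' hm' ht' hW0z hkz' (by rwa [add_zero])
    obtain ⟨-, r, hr, hrd, -⟩ := hsum hz hz0 hz' hk hk' ht ht' hkz hkz'
      (hne_of hk hk' (by rw [e1, e2]; exact hnc hm hm' hne))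
    exact ⟨⟨by rw [smul_add, ht.1, ht'.1], by rw [smul_add, ht.2, ht'.2]⟩, r, hr, hrd⟩
  obtain ⟨hxy0, r, hr, hrd, hrg⟩ := hsum hxP hx0 hyP hfm hg ⟨ht0a, ht0b⟩ hW0z he hgy hfg
  obtain ⟨x0m, hx0m, hx0W, hx0d, -⟩ := P.plane_good ha hb hab hxP hx0
  have hxym : ∃ m, Mem m ∧ x + y ∈ Mv (V := V) m := by
    obtain ⟨m, hm, hmW, hmd, -⟩ := P.plane_good ha hb hab (add_mem hxP hyP) hxy0
    exact ⟨m, ⟨hm, hmW⟩, hmd⟩
  obtain ⟨m, hm, hmd⟩ := hxym
  have hXW : Fx (V := V) x0m = Fx f :=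
    hclass hxP hx0 ⟨hx0m, hx0W⟩ hfm hW0z ⟨ht0a, ht0b⟩ (by rwa [add_zero]) he
  have hMW : Fx (V := V) m = Fx r := hclass (add_mem hxP hyP) hxy0 hm hr hW0z
    ⟨by rw [smul_add, ht0a, smul_zero], by rw [smul_add, ht0b, smul_zero]⟩ (by rwa [add_zero]) hrd
  have n1 : x0m * g ≠ g * x0m := hne_of ⟨hx0m, hx0W⟩ hg (hXW ▸ hnc hfm hg hfg)
  have n2 : m * g ≠ g * m := hne_of hm hg (hMW ▸ hnc hr hg hrg)
  have n3 : x0m * m ≠ m * x0m := by
    obtain ⟨-, r', hr', hrd', hrg'⟩ := hsum hyP hy0 hxP hg ⟨hx0m, hx0W⟩ hW0z hW0z hgy (by rwa [add_zero]) (Ne.symm n1)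
    have : Fx (V := V) r' = Fx m := hclass (add_mem hxP hyP) hxy0 hr' hm
      ⟨by rw [smul_add, smul_zero, add_zero], by rw [smul_add, smul_zero, add_zero]⟩ hW0z
      (by rwa [add_comm x y]) (by rwa [add_zero])
    exact hne_of ⟨hx0m, hx0W⟩ hm (this ▸ (hnc hr' ⟨hx0m, hx0W⟩ hrg').symm)
  have hxyy : x + y + y = x := by rw [add_assoc, P.two_zero hp, add_zero]
  have hxxy : x + (x + y) = y := by rw [← add_assoc, P.two_zero hp, zero_add]
  have eq1 : ∀ t, t ∈ G x → t ∈ G (x + y) := fun t ht => by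
    simpa using hadd hxP hx0 hyP hy0 ⟨hx0m, hx0W⟩ hg n1 hx0d hyg ht (hgood hyP hy0)
  have eq2 : ∀ t, t ∈ G y → t ∈ G x := fun t ht => by
    simpa [hxyy] using hadd (add_mem hxP hyP) hxy0 hyP hy0 hm hg n2 hmd hyg (hgood (add_mem hxP hyP) hxy0) ht
  have eq3 : ∀ t, t ∈ G (x + y) → t ∈ G y := fun t ht => by
    simpa [hxxy] using hadd hxP hx0 (add_mem hxP hyP) hxy0 ⟨hx0m, hx0W⟩ hm n3 hx0d hmd (hgood hxP hx0) ht
  let Gs : AddSubgroup V :=
    { carrier := G x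
      add_mem' := fun {t t'} ht ht' => eq2 _ (eq3 _
        (hadd hxP hx0 hyP hy0 ⟨hx0m, hx0W⟩ hg n1 hx0d hyg ht (eq3 _ (eq1 _ ht'))))
      zero_mem' := hgood hxP hx0
      neg_mem' := fun {t} ht => by rw [hneg]; exact ht }
  -- members with the fixed space of `f`
  let S := {k : H // InR V k ∧ Fx (V := V) k = Fx f}
  have hxW : x ∈ Fx (V := V) f := by
    have := sub_mem (P.Mv_le_Fx hp hf he) (hfW ⟨ht0a, ht0b⟩)
    rwa [add_sub_cancel_right] at this
  have hex : ∀ k : S, ∃ t : Gs, x + (t : V) ∈ Mv (V := V) k.1 := by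
    intro k
    have hk : Mem k.1 := ⟨k.2.1, hfW.trans_eq k.2.2.symm⟩
    obtain ⟨u', hu', w, hwa, hwb, e⟩ := P.plane_Fx ha hb hab hp hk.1 hk.2 (k.2.2.ge hxW)
    have : x + w ∈ Mv (V := V) k.1 := by rwa [e, add_assoc, P.two_zero hp, add_zero]
    exact ⟨⟨w, ⟨hwa, hwb⟩, k.1, hk, this⟩, this⟩
  choose φ hφ using hex
  have hφi : Function.Injective φ := by
    intro k k' e
    refine Subtype.ext (P.eq_of_Mv k.2.1 k'.2.1 (d := x + (φ k : V)) (fun e0 => hx0 ?_) (hφ k) (e ▸ hφ k'))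
    rw [eq_neg_of_add_eq_zero_left e0] at hxP ⊢
    exact hPW hxP (neg_mem (show ((φ k : V)) ∈ Fx (V := V) a from (φ k).2.1.1))
      (neg_mem (show ((φ k : V)) ∈ Fx (V := V) b from (φ k).2.1.2))
  have hφs : Function.Surjective φ := by
    rintro ⟨t, ht, k, hk, hkt⟩
    have e := hclass hxP hx0 hk hfm ht ⟨ht0a, ht0b⟩ hkt he
    refine ⟨⟨k, hk.1, e⟩, Subtype.ext ?_⟩
    have h1 : (φ ⟨k, hk.1, e⟩ : V) - t ∈ Mv (V := V) k := by
      have := sub_mem (hφ ⟨k, hk.1, e⟩) hkt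
      rwa [add_sub_add_left_eq_sub] at this
    exact sub_eq_zero.1 ((P.plane_noncomm ha hb hab hk.1 hk.2).2.2 _ h1
      (sub_mem (show ((φ ⟨k, hk.1, e⟩ : V)) ∈ Fx (V := V) a from (φ _).2.1.1) (show t ∈ Fx (V := V) a from ht.1))
      (sub_mem (show ((φ ⟨k, hk.1, e⟩ : V)) ∈ Fx (V := V) b from (φ _).2.1.2) (show t ∈ Fx (V := V) b from ht.2)))
  have hS : Nat.card S = Nat.card Gs := Nat.card_eq_of_bijective φ ⟨hφi, hφs⟩
  let HW : Subgroup H :=
    { carrier := {k | ∀ v ∈ Fx (V := V) f, k • v = v}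
      mul_mem' := fun {k l} hk hl v hv => by rw [mul_smul, hl v hv, hk v hv]
      one_mem' := fun v _ => one_smul H v
      inv_mem' := fun {k} hk v hv => inv_smul_eq_iff.2 (hk v hv).symm }
  have hHW : ∀ k : HW, (k : H) ≠ 1 → InR V (k : H) ∧ Fx (V := V) (k : H) = Fx f := by
    intro k hk
    have hle : Fx (V := V) f ≤ Fx (k : H) := fun v hv => k.2 v hv
    exact ⟨⟨hk, fun c hc h => (hf.2 c hc (hle.trans h)).trans hle⟩, le_antisymm (hf.2 _ hk hle) hle⟩
  let ψ : Option S → HW := fun o => o.elim 1 fun k => ⟨k.1, fun v hv => by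
    rw [← k.2.2] at hv; exact hv⟩
  have hψ : Function.Bijective ψ := by
    refine ⟨?_, fun k => ?_⟩
    · rintro (_ | k) (_ | k') e
      · rfl
      · exact absurd (congrArg Subtype.val e).symm k'.2.1.1
      · exact absurd (congrArg Subtype.val e) k.2.1.1
      · exact congrArg some (Subtype.ext (congrArg Subtype.val e :))
    · by_cases hk : (k : H) = 1
      · exact ⟨none, Subtype.ext hk.symm⟩
      · exact ⟨some ⟨k, hHW k hk⟩, rfl⟩
  have hHW2 : IsPGroup 2 HW := fun k => ⟨1, by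
    by_cases hk : (k : H) = 1
    · exact Subtype.ext (by simp [hk])
    · exact Subtype.ext (by simp [pow_two, P.sq (hHW k hk).1])⟩
  have : Fact (Nat.Prime 2) := ⟨Nat.prime_two⟩
  obtain ⟨j, hj⟩ := IsPGroup.iff_card.1 hHW2
  obtain ⟨i, hi⟩ := P.two_pow_card hp Gs
  rw [← Nat.card_eq_of_bijective ψ hψ, Finite.card_option, hS, hi] at hj
  have hi0 : i = 0 := by
    by_contra h
    obtain ⟨i', rfl⟩ := Nat.exists_eq_succ_of_ne_zero h
    rcases j with _ | j
    · simp at hj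
    · rw [pow_succ, pow_succ] at hj; omega
  rw [hi0, pow_zero] at hi
  have hsub : ∀ t ∈ Gs, t = 0 := fun t ht => by
    have h := (Nat.card_eq_one_iff_unique.1 hi).1
    exact congrArg Subtype.val (h.elim (⟨t, ht⟩ : Gs) 0)
  refine ⟨fun k hk hkf => ?_, ?_⟩
  · have h1 := hφ ⟨k, hk, hkf⟩
    have h2 := hφ ⟨f, hf, rfl⟩
    rw [hsub _ (φ _).2] at h1 h2
    exact P.eq_of_Mv hk hf (by rwa [add_zero]) h1 h2
  · intro d hd
    obtain ⟨u', hu', v', hv', w, hwa, hwb, rfl⟩ := (P.plane_card ha hb hab).2 d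
    by_cases hz : u' + v' = 0
    · rw [hz, zero_add] at hd ⊢
      rw [hf0 w hd hwa hwb]; exact zero_mem _
    have hzP : u' + v' ∈ Mv (V := V) a ⊔ Mv b :=
      add_mem (AddSubgroup.mem_sup_left hu') (AddSubgroup.mem_sup_right hv')
    obtain ⟨k, hk, hkW, hkd, -⟩ := P.plane_good ha hb hab hzP hz
    have e := hclass hzP hz ⟨hk, hkW⟩ hfm hW0z ⟨hwa, hwb⟩ (by rwa [add_zero]) hd
    have h1 := hφ ⟨k, hk, e⟩
    have h2 := hφ ⟨f, hf, rfl⟩
    rw [hsub _ (φ _).2] at h1 h2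
    have hkf : k = f := P.eq_of_Mv hk hf (by rwa [add_zero]) h1 h2
    have hw : w ∈ Mv (V := V) f := by
      have := sub_mem hd (hkf ▸ hkd)
      rwa [add_sub_cancel_left] at this
    rw [hf0 w hw hwa hwb, add_zero]
    exact hzP

end Cfsg.Lib.Binary
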