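import Cfsg.Agent.Lib.Binary.Basic

/-!
# Binary primitive affine groups: reduction to a binary linear group

An abelian normal subgroup of a faithful primitive group is regular and turns the point set into a vector group,
on which a point stabiliser acts irreducibly. A classification of binary linear groups gives one of the affine groups.
-/

set_option autoImplicit false
set_option linter.unusedSectionVars false
set_option linter.style.haveILetI false

namespace Cfsg.Lib.Binary

open MulAction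

universe u w

/-- The two possibilities for a binary linear group. -/
def LinConcl (H V : Type*) [Group H] [AddCommGroup V] [DistribMulAction H V] : Prop :=
  ((Nat.card V).Prime ∧ Nat.card H ≤ 2) ∨
  ∃ (F E : Type) (_ : Field F) (_ : Fintype F) (_ : Field E) (_ : Fintype E) (_ : Algebra F E)
    (e : V ≃+ E), Module.finrank F E = 2 ∧
      (∀ h : H, ∃ (a : E) (φ : E ≃ₐ[F] E), Algebra.norm F a = 1 ∧ ∀ v, e (h • v) = a * φ (e v)) ∧
      (∀ (a : E) (φ : E ≃ₐ[F] E), Algebra.norm F a = 1 → ∃ h : H, ∀ v, e (h • v) = a * φ (e v))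

/-- A binary primitive affine group comes from a binary linear group. -/
theorem affine_of_linear {G : Type u} {Ω : Type w} [Group G] [Finite G] [MulAction G Ω] [FaithfulSMul G Ω]
    [Fintype Ω] (hprim : IsPreprimitive G Ω)
    (haff : ∃ N : Subgroup G, N.Normal ∧ N ≠ ⊥ ∧ IsMulCommutative ↥N)
    (hbin : ∀ (n : ℕ) (I J : Fin n → Ω), 2 ≤ n →
      (∀ i j : Fin n, i ≠ j → ∃ g : G, g • I i = J i ∧ g • I j = J j) → ∃ g : G, ∀ i, g • I i = J i)
    (hlin : ∀ (H V : Type u) [Group H] [AddCommGroup V] [DistribMulAction H V] [Finite H] [Finite V]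
      [Nontrivial V] (p : ℕ), Hyp H V p → LinConcl H V) :
    ((Fintype.card Ω).Prime ∧ ∀ ω : Ω, Nat.card ↥(stabilizer G ω) ≤ 2) ∨
    (∃ (F E : Type) (_ : Field F) (_ : Fintype F) (_ : Field E) (_ : Fintype E) (_ : Algebra F E) (e : Ω ≃ E),
        Module.finrank F E = 2 ∧
        ∀ σ : Equiv.Perm Ω, σ ∈ (toPermHom G Ω).range ↔
          ∃ (a b : E) (φ : E ≃ₐ[F] E), Algebra.norm F a = 1 ∧ ∀ ω : Ω, e (σ ω) = a * φ (e ω) + b) := by
  classical
  obtain ⟨N, hNn, hN1, hNc⟩ := haff
  haveI := hNn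
  letI : CommGroup N := { (inferInstance : Group N) with mul_comm := fun x y => hNc.is_comm.comm x y }
  obtain ⟨n1, hn1, hn1'⟩ : ∃ n ∈ N, n ≠ 1 := N.ne_bot_iff_exists_ne_one.1 hN1 |>.elim
    fun n hn => ⟨n, n.2, fun h => hn (Subtype.ext h)⟩
  obtain ⟨ω0, hω0⟩ : ∃ ω : Ω, n1 • ω ≠ ω := by
    by_contra h
    push Not at h
    exact hn1' (eq_of_smul_eq_smul (α := Ω) fun ω => by rw [h ω, one_smul])
  haveI : Nontrivial Ω := ⟨_, _, hω0⟩
  haveI hQ : IsQuasiPreprimitive G Ω := inferInstance
  haveI htr : IsPretransitive N Ω := hQ.isPretransitive_of_normal fun h =>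
    hω0 ((mem_fixedPoints.1 (h ▸ Set.mem_univ ω0)) ⟨n1, hn1⟩)
  have hreg : ∀ n : N, (n : G) • ω0 = ω0 → n = 1 := fun n hn => Subtype.ext
    (eq_of_smul_eq_smul (α := Ω) fun ω => by
      obtain ⟨m, rfl⟩ := exists_smul_eq N ω0 ω
      show (n : G) • ((m : G) • ω0) = (1 : G) • ((m : G) • ω0)
      rw [one_smul, ← mul_smul, show (n : G) * m = m * n from congrArg Subtype.val (mul_comm n m), mul_smul, hn])
  let H := stabilizer G ω0
  letI : DistribMulAction H (Additive N) :=
    { smul := fun h v => Additive.ofMul (MulAut.conjNormal (h : G) v.toMul)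
      one_smul := fun v => by
        show Additive.ofMul (MulAut.conjNormal ((1 : H) : G) v.toMul) = v
        rw [OneMemClass.coe_one, map_one]; rfl
      mul_smul := fun h k v => by
        show Additive.ofMul (MulAut.conjNormal ((h * k : H) : G) v.toMul) = _
        rw [Subgroup.coe_mul, map_mul]; rfl
      smul_zero := fun h => by
        show Additive.ofMul (MulAut.conjNormal (h : G) (1 : N)) = 0
        rw [map_one]; rfl
      smul_add := fun h v v' => by
        show Additive.ofMul (MulAut.conjNormal (h : G) (v.toMul * v'.toMul)) = _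
        rw [map_mul]; rfl }
  let V := Additive N
  let pos : V → Ω := fun v => (v.toMul : G) • ω0
  have hpos_inj : Function.Injective pos := fun v v' h => by
    have h' : ((v'.toMul⁻¹ * v.toMul : N) : G) • ω0 = ω0 := by
      rw [Subgroup.coe_mul, mul_smul, show (v.toMul : G) • ω0 = (v'.toMul : G) • ω0 from h, Subgroup.coe_inv,
        inv_smul_smul]
    exact (inv_mul_eq_one.1 (hreg _ h')).symm
  have hpos_surj : Function.Surjective pos := fun ω => by
    obtain ⟨m, hm⟩ := exists_smul_eq N ω0 ω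
    exact ⟨Additive.ofMul m, hm⟩
  have hpos0 : pos 0 = ω0 := one_smul G ω0
  have hpos_add : ∀ v v' : V, (v.toMul : G) • pos v' = pos (v + v') := fun v v' => by
    show _ = ((v.toMul * v'.toMul : N) : G) • ω0
    rw [Subgroup.coe_mul, mul_smul]
  have hpos_H : ∀ (h : H) (v : V), (h : G) • pos v = pos (h • v) := fun h v => by
    show _ = ((MulAut.conjNormal (h : G) v.toMul : N) : G) • ω0
    rw [MulAut.conjNormal_apply, mul_smul, mul_smul, show (h : G)⁻¹ • ω0 = ω0 from (H.inv_mem h.2 : _)]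
  have hdec : ∀ g : G, ∃ (v : V) (h : H), g = (v.toMul : G) * h := fun g => by
    obtain ⟨v, hv⟩ := hpos_surj (g • ω0)
    refine ⟨v, ⟨(v.toMul : G)⁻¹ * g, ?_⟩, (mul_inv_cancel_left _ _).symm⟩
    show ((v.toMul : G)⁻¹ * g) • ω0 = ω0
    rw [mul_smul, ← hv]
    exact inv_smul_smul _ _
  haveI : Nontrivial V := ⟨Additive.ofMul ⟨n1, hn1⟩, 0, fun h => hn1' (congrArg Subtype.val h)⟩
  have hfaith : ∀ h : H, (∀ v : V, h • v = v) → h = 1 := fun h hh => Subtype.ext
    (eq_of_smul_eq_smul (α := Ω) fun ω => by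
      obtain ⟨v, rfl⟩ := hpos_surj ω
      rw [hpos_H, hh]
      exact (one_smul G _).symm)
  have hirr : ∀ M : AddSubgroup V, (∀ h : H, ∀ v ∈ M, h • v ∈ M) → M = ⊥ ∨ M = ⊤ := by
    intro M hM
    let K : Subgroup G :=
      { carrier := {g | ∃ v ∈ M, g • ω0 = pos v}
        one_mem' := ⟨0, M.zero_mem, by rw [one_smul, hpos0]⟩
        mul_mem' := by
          rintro g g' ⟨v, hv, hg⟩ ⟨v', hv', hg'⟩
          obtain ⟨u, h, rfl⟩ := hdec g
          rw [mul_smul, show (h : G) • ω0 = ω0 from h.2] at hg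
          obtain rfl : u = v := hpos_inj hg
          exact ⟨u + h • v', M.add_mem hv (hM h _ hv'),
            by rw [mul_smul, hg', mul_smul, hpos_H, hpos_add]⟩
        inv_mem' := by
          rintro g ⟨v, hv, hg⟩
          obtain ⟨u, h, rfl⟩ := hdec g
          rw [mul_smul, show (h : G) • ω0 = ω0 from h.2] at hg
          obtain rfl : u = v := hpos_inj hg
          refine ⟨h⁻¹ • -u, hM _ _ (M.neg_mem hv), ?_⟩
          rw [mul_inv_rev, mul_smul, ← hpos_H]
          rfl }
    have hle : H ≤ K := fun g hg => ⟨0, M.zero_mem, by rw [hpos0]; exact hg⟩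
    rcases eq_or_lt_of_le hle with hK | hK
    · left
      refine (AddSubgroup.eq_bot_iff_forall M).2 fun v hv => ?_
      have hmem : (v.toMul : G) ∈ H := by rw [hK]; exact ⟨v, hv, rfl⟩
      exact hpos_inj ((show pos v = ω0 from hmem).trans hpos0.symm)
    · right
      have htop := (haveI := hprim; IsPreprimitive.isCoatom_stabilizer_of_isPreprimitive G ω0).2 K hK
      refine AddSubgroup.eq_top_iff' M |>.2 fun v => ?_
      obtain ⟨w, hw, e⟩ := (htop ▸ Subgroup.mem_top (v.toMul : G) : (v.toMul : G) ∈ K)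
      exact (hpos_inj e : v = w) ▸ hw
  obtain ⟨p, hp, x, hx⟩ : ∃ p, p.Prime ∧ ∃ x : V, addOrderOf x = p := by
    obtain ⟨p, hp, hpd⟩ := Nat.exists_prime_and_dvd (n := Nat.card V) (by
      have := Finite.one_lt_card (α := V); omega)
    haveI : Fact p.Prime := ⟨hp⟩
    exact ⟨p, hp, exists_prime_addOrderOf_dvd_card' p hpd⟩
  have htors : ∀ v : V, p • v = 0 := by
    rcases hirr (nsmulAddMonoidHom p : V →+ V).ker (fun h v hv => by
      rw [AddMonoidHom.mem_ker, nsmulAddMonoidHom_apply] at hv ⊢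
      rw [← smul_comm, hv, smul_zero]) with h | h
    · have hx' : x ∈ (nsmulAddMonoidHom p : V →+ V).ker := by
        rw [AddMonoidHom.mem_ker, nsmulAddMonoidHom_apply, ← hx]; exact addOrderOf_nsmul_eq_zero x
      rw [h, AddSubgroup.mem_bot] at hx'
      rw [hx', addOrderOf_zero] at hx
      exact absurd hx.symm hp.ne_one
    · intro v
      have := AddMonoidHom.mem_ker.1 (h ▸ AddSubgroup.mem_top v)
      exact this
  have hbin' : ∀ (ι : Type u) [Finite ι] (I J : ι → Ω), 2 ≤ Nat.card ι →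
      (∀ i j : ι, i ≠ j → ∃ g : G, g • I i = J i ∧ g • I j = J j) → ∃ g : G, ∀ i, g • I i = J i := by
    intro ι _ I J h2 hpair
    let e := (Finite.equivFin ι).symm
    obtain ⟨g, hg⟩ := hbin _ (I ∘ e) (J ∘ e) h2 fun i j hij => hpair _ _ (e.injective.ne hij)
    refine ⟨g, fun i => ?_⟩
    have := hg (e.symm i)
    simpa using this
  have hstar : ∀ (g b : H) (z y : V), g • z - z = b • y - y →
      ∃ h : H, (∀ v : V, g • v = v → h • v = v) ∧ (∀ v : V, b • v = v → h • v = v) ∧
        h • (z - y) = z - y ∧ h • z = g • z := by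
    intro g b z y he
    let ι := Option (Option ({v : V // g • v = v} ⊕ {v : V // b • v = v}))
    let pt : Option ({v : V // g • v = v} ⊕ {v : V // b • v = v}) → V
      | none => 0
      | some (Sum.inl f) => f.1
      | some (Sum.inr f) => z - y + f.1
    let I : ι → Ω := fun i => match i with
      | none => pos z
      | some r => pos (pt r)
    let J : ι → Ω := fun i => match i with
      | none => pos (g • z)
      | some r => pos (pt r)
    have hpair : ∀ r, ∃ σ : G, σ • pos (pt r) = pos (pt r) ∧ σ • pos z = pos (g • z) := by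
      intro r
      obtain ⟨u, k, h1, h2⟩ : ∃ (u : V) (k : H), u + k • pt r = pt r ∧ u + k • z = g • z := by
        rcases r with _ | ⟨f, hf⟩ | ⟨f, hf⟩
        · exact ⟨0, g, by simp [pt], zero_add _⟩
        · exact ⟨0, g, by simp [pt, hf], zero_add _⟩
        · refine ⟨z - y - b • (z - y), b, by simp [pt, smul_add, hf]; abel, ?_⟩
          rw [smul_sub, eq_add_of_sub_eq he]; abel
      exact ⟨(u.toMul : G) * k, by rw [mul_smul, hpos_H, hpos_add, h1],
        by rw [mul_smul, hpos_H, hpos_add, h2]⟩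
    have h2 : 2 ≤ Nat.card ι := by
      haveI : Nontrivial ι := ⟨none, some none, fun h => Option.some_ne_none _ h.symm⟩
      exact Finite.one_lt_card
    obtain ⟨σ, hσ⟩ := hbin' ι I J h2 (by
      rintro (_ | i) (_ | j) hij
      · exact absurd rfl hij
      · obtain ⟨s, e1, e2⟩ := hpair j; exact ⟨s, e2, e1⟩
      · obtain ⟨s, e1, e2⟩ := hpair i; exact ⟨s, e1, e2⟩
      · exact ⟨1, one_smul _ _, one_smul _ _⟩)
    have hH : σ ∈ H := by
      have := hσ (some none)
      simp only [I, J, pt, hpos0] at this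
      exact this
    have hfix : ∀ r, (⟨σ, hH⟩ : H) • pt r = pt r := fun r => hpos_inj ((hpos_H ⟨σ, hH⟩ _).symm.trans (hσ (some r)))
    have h3 : (⟨σ, hH⟩ : H) • (z - y) = z - y := by
      have := hfix (some (Sum.inr ⟨0, smul_zero b⟩))
      simpa [pt] using this
    refine ⟨⟨σ, hH⟩, fun v hv => hfix (some (Sum.inl ⟨v, hv⟩)), fun v hv => ?_, h3,
      hpos_inj ((hpos_H ⟨σ, hH⟩ _).symm.trans (hσ none))⟩
    have := hfix (some (Sum.inr ⟨v, hv⟩))
    simp only [pt, smul_add, h3] at this
    exact add_left_cancel this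
  let e0 : V ≃ Ω := Equiv.ofBijective pos ⟨hpos_inj, hpos_surj⟩
  haveI : IsPretransitive G Ω := hprim.toIsPretransitive
  rcases hlin H V p ⟨hp, htors, hfaith, hirr, hstar⟩ with
    ⟨h1, h2⟩ | ⟨F, E, iF, iFf, iE, iEf, iA, eV, hfin, hfw, hbw⟩
  · left
    refine ⟨by rwa [← Nat.card_eq_fintype_card, ← Nat.card_congr e0], fun ω => ?_⟩
    obtain ⟨g, rfl⟩ := exists_smul_eq G ω0 ω
    refine le_trans (le_of_eq (Nat.card_congr ?_)) h2
    exact (stabilizerEquivStabilizer (G := G) (a := ω0) (b := g • ω0) rfl).symm.toEquiv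
  · right
    refine ⟨F, E, iF, iFf, iE, iEf, iA, e0.symm.trans eV.toEquiv, hfin, fun σ => ?_⟩
    have he : ∀ v : V, (e0.symm.trans eV.toEquiv) (pos v) = eV v := fun v =>
      congrArg eV (e0.symm_apply_apply v)
    constructor
    · rintro ⟨g, rfl⟩
      obtain ⟨u, h, rfl⟩ := hdec g
      obtain ⟨a, φ, ha, hφ⟩ := hfw h
      refine ⟨a, eV u, φ, ha, fun ω => ?_⟩
      obtain ⟨v, rfl⟩ := hpos_surj ω
      rw [toPermHom_apply, toPerm_apply, mul_smul, hpos_H, hpos_add, he, he, map_add, hφ, add_comm]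
    · rintro ⟨a, b, φ, ha, hσ⟩
      obtain ⟨h, hh⟩ := hbw a φ ha
      refine ⟨((eV.symm b).toMul : G) * h, Equiv.ext fun ω => (e0.symm.trans eV.toEquiv).injective ?_⟩
      obtain ⟨v, rfl⟩ := hpos_surj ω
      rw [hσ, toPermHom_apply, toPerm_apply, mul_smul, hpos_H, hpos_add, he, he, map_add, hh,
        eV.apply_symm_apply, add_comm]

end Cfsg.Lib.Binary
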