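import Cfsg.Agent.Lib.Binary.SuzukiTools
import Cfsg.Agent.Lib.Spec.SuzukiChar.Covering

/-!
# Suzuki groups: decompositions of a torus element into two of its conjugates

There are enough of them that one does not lie in the torus.
-/

set_option autoImplicit false
set_option linter.unusedSectionVars false

namespace Cfsg.Lib.Binary

open Cfsg Cfsg.Lib.Char Cfsg.Lib.Linear.Suz Cfsg.Lib.SuzChar
open scoped ComplexConjugate

variable {F : Type*} [Field F] [Fintype F] [DecidableEq F] {m : ℕ} (h : Params F m)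
include h

variable [Fintype ↥(Cfsg.Sz F m)]
variable (D : Table h)
include D

theorem prodSum_self_lower {a : ↥D.T} (ha : a ≠ 1) :
    ∃ E : ℝ, prodSum h (a : ↥(Cfsg.Sz F m)) a = (E : ℂ) ∧ 1 / 25 ≤ E := by
  obtain ⟨b, hb, hab⟩ : ∃ b : ↥D.T, b ≠ 1 ∧ b = a := ⟨a, ha, rfl⟩
  rw [show prodSum h (a : ↥(Cfsg.Sz F m)) a = prodSum h (a : ↥(Cfsg.Sz F m)) b by rw [hab]]
  classical
  obtain ⟨p, s, hp, hs, h2, hq, ht, ht'⟩ := params h D
  have hfa := D.hT.fpf a a.2 fun e => ha (Subtype.ext e)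
  have hfb := D.hT.fpf b b.2 fun e => hb (Subtype.ext e)
  choose! r hr using fun χ (hχ : χ ∈ family h D.hT D.hn) => family_real h D.hT D.hn ha hχ
  choose! r' hr' using fun χ (hχ : χ ∈ family h D.hT D.hn) => family_real h D.hT D.hn hb hχ
  have hqC : (Fintype.card F : ℂ) = ((2 * p ^ 2 : ℝ) : ℂ) := by rw [← hq]; simp
  have htC : (Nat.card ↥D.T : ℂ) = ((2 * p ^ 2 + 1 + s : ℝ) : ℂ) := by rw [← ht]; simp
  have htC' : (Nat.card ↥D.T' : ℂ) = ((2 * p ^ 2 + 1 - s : ℝ) : ℂ) := by rw [← ht']; simp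
  have hsq : ∀ {c : ↥D.T} (_ : c ≠ 1) (f : IrrCharacter ↥(Cfsg.Sz F m) → ℝ),
      (∀ χ ∈ family h D.hT D.hn, (χ : ↥(Cfsg.Sz F m) → ℂ) c = (f χ : ℂ)) →
      ∑ χ ∈ family h D.hT D.hn, f χ ^ 2 = 2 * p ^ 2 + 1 + s - 4 := by
    intro c hc f hf
    have e := family_sq_sum h D hc
    rw [Finset.sum_congr rfl (fun χ hχ => by rw [hf χ hχ]), htC] at e
    exact_mod_cast e
  obtain ⟨S, hS⟩ : ∃ S : ℝ, S = ∑ χ ∈ family h D.hT D.hn, r χ ^ 2 * r' χ := ⟨_, rfl⟩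
  have hb1 : ∀ χ ∈ family h D.hT D.hn, -((2 * p ^ 2 + 6 + s) / 6) ≤ r' χ := by
    intro χ hχ
    have := (Finset.single_le_sum (f := fun χ => r' χ ^ 2) (fun _ _ => sq_nonneg _) hχ).trans
      (hsq hb r' hr').le
    nlinarith [sq_nonneg (r' χ + 3)]
  have hS1 : -((2 * p ^ 2 + 6 + s) / 6) * (2 * p ^ 2 + 1 + s - 4) ≤ S := by
    rw [← hsq ha r hr, hS, Finset.mul_sum]
    exact Finset.sum_le_sum fun χ hχ => by nlinarith [hb1 χ hχ, sq_nonneg (r χ)]
  have e := prodSum_split h D (a : ↥(Cfsg.Sz F m)) b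
  rw [stIrr_fpf h hfa, stIrr_fpf h hfb, (small_sq h D ha).1, (small_sq h D ha).2,
    Finset.sum_eq_zero (s := pFam h) (fun χ hχ => by rw [pFam_fpf h hχ hfa]; simp),
    Finset.sum_congr (s₁ := family h D.hT D.hn) rfl
      (fun χ hχ => by rw [hr χ hχ, hr' χ hχ, Complex.conj_ofReal]),
    Finset.sum_eq_zero (s := family h D.hT' D.hn')
      (fun χ hχ => by rw [fam_other h D hχ ha]; simp), one_mul, one_mul, ← map_add] at e
  have hsm := small_torus h D hb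
  refine ⟨1 - 1 / (2 * p ^ 2) ^ 2 +
    S / ((2 * p ^ 2 - 1) * (2 * p ^ 2 + 1 - s)) + (s / p) / (p * (2 * p ^ 2 - 1)), ?_, ?_⟩
  · rw [e]
    have hpC : (p : ℂ) ≠ 0 := Complex.ofReal_ne_zero.mpr (by linarith)
    have hsum : (D.u : ↥(Cfsg.Sz F m) → ℂ) b + (D.v : ↥(Cfsg.Sz F m) → ℂ) b =
        ((s / p : ℝ) : ℂ) := by
      rw [h2, hqC, htC'] at hsm
      push_cast at hsm ⊢
      rw [eq_div_iff hpC]
      linear_combination hsm
    rw [hsum, hqC, h2, htC', map_neg, map_one, Complex.conj_ofReal, hS]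
    push_cast
    ring
  · have hp' : (0 : ℝ) < p := by linarith
    have hq1 : (0 : ℝ) < 2 * p ^ 2 - 1 := by nlinarith
    have ht0 : (0 : ℝ) < 2 * p ^ 2 + 1 - s := by rcases hs with rfl | rfl <;> nlinarith
    have b1 : 1 / (2 * p ^ 2) ^ 2 ≤ 1 / 64 := by
      rw [div_le_div_iff₀ (by positivity) (by norm_num)]
      nlinarith [pow_le_pow_left₀ (by norm_num) hp 4]
    have b2 : -(1 / 7 : ℝ) ≤ (s / p) / (p * (2 * p ^ 2 - 1)) := by
      rw [le_div_iff₀ (by positivity), le_div_iff₀ hp']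
      rcases hs with rfl | rfl <;> nlinarith [mul_le_mul hp hp (by norm_num) hp'.le]
    have b3 : -(4 / 5 : ℝ) ≤ S / ((2 * p ^ 2 - 1) * (2 * p ^ 2 + 1 - s)) := by
      rw [le_div_iff₀ (by positivity)]
      refine le_trans ?_ hS1
      obtain ⟨d, hd, rfl⟩ : ∃ d, 0 ≤ d ∧ p = 2 + d := ⟨p - 2, by linarith, by ring⟩
      rcases hs with rfl | rfl <;>
        nlinarith [pow_nonneg hd 2, pow_nonneg hd 3, pow_nonneg hd 4]
    linarith

theorem exists_far_product_torus {x : ↥D.T} (hx : x ≠ 1) :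
    ∃ u v : ↥(Cfsg.Sz F m), (x : ↥(Cfsg.Sz F m)) = (u * x * u⁻¹) * (v * x * v⁻¹) ∧
      u * (x : ↥(Cfsg.Sz F m)) * u⁻¹ ∉ D.T := by
  classical
  obtain ⟨g, hg⟩ : ∃ g : ↥(Cfsg.Sz F m), g = (x : ↥(Cfsg.Sz F m)) := ⟨_, rfl⟩
  have hg1 : g ≠ 1 := fun e => hx (Subtype.ext (hg.symm.trans e))
  have hgT : g ∈ D.T := hg ▸ x.2
  rw [← hg]
  by_contra hcon
  push Not at hcon
  obtain ⟨E, hE, hE25⟩ := prodSum_self_lower h D hx
  obtain ⟨S, hS⟩ : ∃ S, S = (classFinset g ×ˢ classFinset g).filter fun p => p.1 * p.2 = g := ⟨_, rfl⟩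
  have hcount : ((S.card : ℕ) : ℂ) = ((classFinset g).card : ℂ) * (classFinset g).card /
      (Nat.card ↥(Cfsg.Sz F m) : ℂ) * (E : ℂ) := by
    rw [hS, card_class_product g g g, ← hE, hg]; rfl
  -- all decompositions lie in the torus, so there are at most four
  obtain ⟨N, hN⟩ : ∃ N, N = Subgroup.normalizer (D.T : Set ↥(Cfsg.Sz F m)) := ⟨_, rfl⟩
  have h4 : S.card ≤ 4 := by
    have hq : Nat.card (↥N ⧸ D.T.subgroupOf N) = 4 := by
      have hc := (D.T.subgroupOf N).index_mul_card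
      rw [Nat.card_congr (Subgroup.subgroupOfEquivOfLe (hN ▸ D.hT.le_norm)).toEquiv] at hc
      have hn := D.hT.card_norm
      rw [← hN] at hn
      rw [← Subgroup.index_eq_card]
      exact Nat.eq_of_mul_eq_mul_right Nat.card_pos (hc.trans hn)
    haveI := Fintype.ofFinite (↥N ⧸ D.T.subgroupOf N)
    obtain ⟨f, hf⟩ : ∃ f : ↥N ⧸ D.T.subgroupOf N → ↥(Cfsg.Sz F m) × ↥(Cfsg.Sz F m),
        ∀ c, f c = ((c.out : ↥(Cfsg.Sz F m)) * g * (c.out : ↥(Cfsg.Sz F m))⁻¹,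
          ((c.out : ↥(Cfsg.Sz F m)) * g * (c.out : ↥(Cfsg.Sz F m))⁻¹)⁻¹ * g) := ⟨_, fun c => rfl⟩
    refine (Finset.card_le_card (t := Finset.univ.image f) fun p hp => ?_).trans
      (Finset.card_image_le.trans (by rw [Finset.card_univ, ← Nat.card_eq_fintype_card, hq]))
    rw [hS, Finset.mem_filter, Finset.mem_product, mem_classFinset, mem_classFinset] at hp
    obtain ⟨⟨hp1, hp2⟩, hpe⟩ := hp
    obtain ⟨u, hu⟩ := isConj_iff.mp hp1
    obtain ⟨v, hv⟩ := isConj_iff.mp hp2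
    have huT := hcon u v (by rw [hu, hv, hpe])
    have hne : u * g * u⁻¹ ≠ 1 := fun e => hg1 (by rwa [mul_inv_eq_one, mul_eq_left] at e)
    have huN : u ∈ N := by
      rw [hN]
      refine Subgroup.mem_normalizer_fintype fun t ht => ?_
      rw [SetLike.mem_coe] at ht
      rw [← D.hT.cent g hgT hg1] at ht
      rw [SetLike.mem_coe, ← D.hT.cent _ huT hne, Subgroup.mem_centralizer_singleton_iff]
      rw [Subgroup.mem_centralizer_singleton_iff] at ht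
      calc u * t * u⁻¹ * (u * g * u⁻¹) = u * (t * g) * u⁻¹ := by group
        _ = u * g * u⁻¹ * (u * t * u⁻¹) := by rw [ht]; group
    refine Finset.mem_image.mpr ⟨QuotientGroup.mk ⟨u, huN⟩, Finset.mem_univ _, ?_⟩
    obtain ⟨⟨t, ht⟩, ht'⟩ := QuotientGroup.mk_out_eq_mul (D.T.subgroupOf N) (⟨u, huN⟩ : ↥N)
    rw [hf, ht']
    have htg : (t : ↥(Cfsg.Sz F m)) * g = g * t := by
      have h' : (t : ↥(Cfsg.Sz F m)) ∈ D.T := ht
      rw [← D.hT.cent g hgT hg1, Subgroup.mem_centralizer_singleton_iff] at h'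
      exact h'
    have e1 : ((⟨u, huN⟩ * t : ↥N) : ↥(Cfsg.Sz F m)) * g *
        ((⟨u, huN⟩ * t : ↥N) : ↥(Cfsg.Sz F m))⁻¹ = p.1 := by
      rw [← hu, Subgroup.coe_mul, mul_inv_rev, mul_assoc u, htg]; group
    refine Prod.ext e1 ?_
    show (_ : ↥(Cfsg.Sz F m))⁻¹ * g = p.2
    rw [e1, ← hpe, inv_mul_cancel_left]
  -- but the count is larger
  have hcl : (classFinset g).card * Nat.card ↥D.T = Nat.card ↥(Cfsg.Sz F m) := by
    rw [← D.hT.cent g hgT hg1]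
    rw [card_classFinset, Subgroup.index_mul_card]
  obtain ⟨c, hc⟩ : ∃ c : ℝ, c = ((classFinset g).card : ℝ) := ⟨_, rfl⟩
  obtain ⟨t, ht⟩ : ∃ t : ℝ, t = (Nat.card ↥D.T : ℝ) := ⟨_, rfl⟩
  obtain ⟨G, hG⟩ : ∃ G : ℝ, G = (Nat.card ↥(Cfsg.Sz F m) : ℝ) := ⟨_, rfl⟩
  have hG0 : 0 < G := by rw [hG]; exact_mod_cast Nat.card_pos
  have hct : c * t = G := by rw [hc, ht, hG]; exact_mod_cast hcl
  have hSr : (S.card : ℝ) = c * c / G * E := by
    apply Complex.ofReal_injective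
    rw [hc, hG]; push_cast
    exact hcount
  have h4' : c * c / G * E ≤ 4 := by rw [← hSr]; exact_mod_cast h4
  have hbig : 100 * t ^ 2 < G := by
    have hq8 := card_F_ge h
    have hsum := D.add_eq
    have h5 := D.five_le'
    have hGq := card_Sz' h
    rw [← h.card] at hGq
    obtain ⟨q, hq⟩ : ∃ q, q = Fintype.card F := ⟨_, rfl⟩
    rw [← hq] at hq8 hsum hGq
    have hnat : 100 * Nat.card ↥D.T ^ 2 < Nat.card ↥(Cfsg.Sz F m) := by
      rw [hGq]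
      have ht2 : Nat.card ↥D.T ≤ 2 * q := by omega
      have h1 : 100 * Nat.card ↥D.T ^ 2 ≤ 400 * q ^ 2 := by
        have := Nat.pow_le_pow_left ht2 2
        nlinarith
      have h2 : 400 < (q ^ 2 + 1) * (q - 1) := by
        have h64 : 64 ≤ q ^ 2 := by nlinarith
        calc 400 < (64 + 1) * 7 := by norm_num
          _ ≤ (q ^ 2 + 1) * (q - 1) := Nat.mul_le_mul (by omega) (by omega)
      have h3 : q ^ 2 * 400 < q ^ 2 * ((q ^ 2 + 1) * (q - 1)) :=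
        Nat.mul_lt_mul_of_pos_left h2 (by positivity)
      rw [← mul_assoc] at h3
      omega
    rw [ht, hG]; exact_mod_cast hnat
  have hmul : c * c * E ≤ 4 * G := by
    rw [div_mul_eq_mul_div, div_le_iff₀ hG0] at h4'
    exact h4'
  have h25 : c * c ≤ 100 * G := by nlinarith [mul_self_nonneg c]
  have hkey : G * G ≤ 100 * t ^ 2 * G := by
    calc G * G = c * c * t ^ 2 := by rw [← hct]; ring
      _ ≤ 100 * G * t ^ 2 := mul_le_mul_of_nonneg_right h25 (sq_nonneg t)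
      _ = 100 * t ^ 2 * G := by ring
  nlinarith [mul_lt_mul_of_pos_right hbig hG0]

omit D in
/-- A fixed-point-free element is a product of two conjugates of which the first does not
centralise it. -/
theorem exists_far_product {x : ↥(Cfsg.Sz F m)} (hx : Fpf h x) :
    ∃ u v : ↥(Cfsg.Sz F m), x = (u * x * u⁻¹) * (v * x * v⁻¹) ∧
      u * x * u⁻¹ ∉ Subgroup.centralizer ({x} : Set ↥(Cfsg.Sz F m)) := by
  classical
  obtain ⟨D⟩ := exists_table h
  have hx1 := fpf_ne_one h hx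
  have key : ∀ (D' : Table h) (σ : ↥(Cfsg.Sz F m)), σ * x * σ⁻¹ ∈ D'.T →
      ∃ u v : ↥(Cfsg.Sz F m), x = (u * x * u⁻¹) * (v * x * v⁻¹) ∧
        u * x * u⁻¹ ∉ Subgroup.centralizer ({x} : Set ↥(Cfsg.Sz F m)) := by
    intro D' σ hσ
    have hne : σ * x * σ⁻¹ ≠ 1 := fun e => hx1 (by rwa [mul_inv_eq_one, mul_eq_left] at e)
    obtain ⟨u, v, h1, h2⟩ := exists_far_product_torus h D' (x := ⟨_, hσ⟩)
      (fun e => hne (congrArg Subtype.val e))
    dsimp only at h1 h2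
    refine ⟨σ⁻¹ * u * σ, σ⁻¹ * v * σ, ?_, fun hmem => h2 ?_⟩
    · calc x = σ⁻¹ * (σ * x * σ⁻¹) * σ := by group
        _ = _ := by nth_rewrite 1 [h1]; group
    · rw [← D'.hT.cent _ hσ hne]
      rw [Subgroup.mem_centralizer_singleton_iff] at hmem ⊢
      calc u * (σ * x * σ⁻¹) * u⁻¹ * (σ * x * σ⁻¹)
          = σ * ((σ⁻¹ * u * σ) * x * (σ⁻¹ * u * σ)⁻¹ * x) * σ⁻¹ := by group
        _ = σ * (x * ((σ⁻¹ * u * σ) * x * (σ⁻¹ * u * σ)⁻¹)) * σ⁻¹ := by rw [hmem]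
        _ = _ := by group
  rcases D.cover x hx with ⟨-, σ, hσ⟩ | ⟨-, σ, hσ⟩
  · exact key D σ hσ
  · exact key (Table.symm h D) σ hσ

end Cfsg.Lib.Binary
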