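import Cfsg.Agent.Lib.Binary.SuzukiStab

/-!
# Suzuki groups: stabilisers inside the normaliser of a torus

A subgroup of the normaliser of a cyclic component which contains an involution and fixes no point
does not act binarily.
-/

set_option autoImplicit false

namespace Cfsg.Lib.Binary

open Cfsg Cfsg.Lib.Linear.Suz
open scoped Matrix LinearAlgebra.Projectivization

variable {F : Type*} [Field F] [Fintype F] {m : ℕ} (h : Params F m)
include h

theorem pow_four_mem {U : Subgroup ↥(Cfsg.Sz F m)} (hU : IsCyclic ↥U) (hk : Nat.card ↥U ∈ compOrders h)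
    {g : ↥(Cfsg.Sz F m)} (hg : g ∈ Subgroup.normalizer (U : Set ↥(Cfsg.Sz F m))) : g ^ 4 ∈ U := by
  have hn := (U.subgroupOf (Subgroup.normalizer (U : Set ↥(Cfsg.Sz F m)))).pow_index_mem ⟨g, hg⟩
  rw [Subgroup.mem_subgroupOf, SubmonoidClass.coe_pow] at hn
  obtain ⟨d, hd⟩ := comp_index_dvd h hU hk
  generalize hj : (U.subgroupOf (Subgroup.normalizer (U : Set ↥(Cfsg.Sz F m)))).index = j at hn hd
  rw [show g ^ 4 = (g ^ j) ^ d by rw [← pow_mul, ← hd]]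
  exact pow_mem hn d

theorem eq_one_of_pow_four {U : Subgroup ↥(Cfsg.Sz F m)} (hk : Nat.card ↥U ∈ compOrders h)
    {c : ↥(Cfsg.Sz F m)} (hc : c ∈ U) (h4 : c ^ 4 = 1) : c = 1 := by
  have hd := Nat.dvd_gcd (Subgroup.orderOf_dvd_natCard U hc) (orderOf_dvd_of_pow_eq_one h4)
  rwa [show (Nat.card ↥U).gcd 4 = 1 from comp_coprime_four h hk, Nat.dvd_one, orderOf_eq_one_iff] at hd

theorem mem_normalizer_of_conj {U : Subgroup ↥(Cfsg.Sz F m)} (hU : IsCyclic ↥U)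
    (hk : Nat.card ↥U ∈ compOrders h) {σ c : ↥(Cfsg.Sz F m)} (hc : c ∈ U) (hc1 : c ≠ 1)
    (hσ : σ * c * σ⁻¹ ∈ U) : σ ∈ Subgroup.normalizer (U : Set ↥(Cfsg.Sz F m)) := by
  have hne : σ * c * σ⁻¹ ≠ 1 := fun e => hc1 (by rwa [mul_inv_eq_one, mul_eq_left] at e)
  refine Subgroup.mem_normalizer_fintype fun t ht => ?_
  rw [SetLike.mem_coe, (comp_centralizer h hU hk hσ hne).2, Subgroup.mem_centralizer_singleton_iff]
  rw [SetLike.mem_coe, (comp_centralizer h hU hk hc hc1).2, Subgroup.mem_centralizer_singleton_iff] at ht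
  calc σ * t * σ⁻¹ * (σ * c * σ⁻¹) = σ * (t * c) * σ⁻¹ := by group
    _ = σ * c * σ⁻¹ * (σ * t * σ⁻¹) := by rw [ht]; group

theorem exists_not_normalizer {U : Subgroup ↥(Cfsg.Sz F m)} (hU : IsCyclic ↥U)
    (hk : Nat.card ↥U ∈ compOrders h) {f : F → ↥(Cfsg.Sz F m)} (hf : Function.Injective f)
    (hfU : ∀ x, f x ∈ US h) : ∃ x, f x ∉ Subgroup.normalizer (U : Set ↥(Cfsg.Sz F m)) := by
  by_contra hall
  push Not at hall
  obtain ⟨g, hg⟩ : ∃ g : F → ↥(Subgroup.normalizer (U : Set ↥(Cfsg.Sz F m))) ⧸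
      U.subgroupOf (Subgroup.normalizer (U : Set ↥(Cfsg.Sz F m))),
      ∀ x, g x = QuotientGroup.mk ⟨f x, hall x⟩ := ⟨_, fun x => rfl⟩
  have hinj : Function.Injective g := fun x y e => by
    rw [hg, hg, QuotientGroup.eq, Subgroup.mem_subgroupOf] at e
    change (f x)⁻¹ * f y ∈ U at e
    exact hf (inv_mul_eq_one.mp (eq_one_of_pow_four h hk e
      (pow_four_of_mem_US h (mul_mem (inv_mem (hfU x)) (hfU y)))))
  have hle := Nat.card_le_card_of_injective g hinj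
  rw [← Subgroup.index_eq_card, Nat.card_eq_fintype_card, h.card] at hle
  have h4 := Nat.le_of_dvd (by norm_num) (comp_index_dvd h hU hk)
  have := q_ge h
  omega

/-- An involution normalising a component inverts it. -/
theorem invol_inverts {U : Subgroup ↥(Cfsg.Sz F m)} (hU : IsCyclic ↥U)
    (hk : Nat.card ↥U ∈ compOrders h) {t : ↥(Cfsg.Sz F m)} (ht : orderOf t = 2)
    (htN : t ∈ Subgroup.normalizer (U : Set ↥(Cfsg.Sz F m))) {c : ↥(Cfsg.Sz F m)} (hc : c ∈ U) :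
    t * c * t⁻¹ = c⁻¹ := by
  letI := hU.commGroup
  have htc : t * c * t⁻¹ ∈ U := (Subgroup.mem_normalizer_iff.mp htN c).mp hc
  have hcomm : c * (t * c * t⁻¹) = t * c * t⁻¹ * c :=
    congrArg Subtype.val (mul_comm (⟨c, hc⟩ : ↥U) ⟨_, htc⟩)
  obtain ⟨y, hy⟩ : ∃ y, y = c * (t * c * t⁻¹) := ⟨_, rfl⟩
  have hy1 : y = 1 := by
    by_contra hy1
    have hyU : y ∈ U := hy ▸ mul_mem hc htc
    obtain ⟨-, hcy⟩ := comp_centralizer h hU hk hyU hy1
    have htt : t * t = 1 := by rw [← sq, ← ht, pow_orderOf_eq_one]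
    have htU : t ∈ U := by
      rw [hcy, Subgroup.mem_centralizer_singleton_iff, hy]
      have hti : t⁻¹ = t := inv_eq_of_mul_eq_one_right htt
      calc t * (c * (t * c * t⁻¹)) = t * c * t⁻¹ * ((t * t) * c * t⁻¹) := by group
        _ = t * c * t⁻¹ * c * t⁻¹ := by rw [htt]; group
        _ = c * (t * c * t⁻¹) * t := by rw [← hcomm, hti]
    exact (comp_two_le h hk).2 (ht ▸ Subgroup.orderOf_dvd_natCard U htU)
  rw [hy, mul_eq_one_iff_inv_eq] at hy1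
  exact hy1.symm

theorem mem_US_of_pow_four {g : ↥(Cfsg.Sz F m)} (hg : g ∈ bor h) (h4 : g ^ 4 = 1) : g ∈ US h := by
  obtain ⟨a, b, k, rfl⟩ := (mem_stab_inf_iff h).mp hg
  have hp : ∀ n : ℕ, ∃ p r, (uS h a b * dS h k) ^ n = uS h p r * dS h (k ^ n) := by
    intro n
    induction n with
    | zero => exact ⟨0, 0, by rw [pow_zero, pow_zero, uS_zero h, map_one, one_mul]⟩
    | succ n ih =>
      obtain ⟨p, r, e⟩ := ih
      refine ⟨p + ((k ^ n : Fˣ) : F) * a,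
        r + ((k ^ n : Fˣ) : F) * th m ((k ^ n : Fˣ) : F) * b + th m p * (((k ^ n : Fˣ) : F) * a), ?_⟩
      rw [pow_succ, e, mul_assoc, ← mul_assoc (dS h (k ^ n)), dS_mul_uS h, mul_assoc, ← map_mul,
        ← mul_assoc, uS_mul h, pow_succ]
  obtain ⟨p, r, e⟩ := hp 4
  rw [h4, show (1 : ↥(Cfsg.Sz F m)) = uS h 0 0 * dS h 1 by rw [uS_zero h, map_one, one_mul]] at e
  have hk4 : k ^ 4 = 1 := (decomp_injective h (congrArg Subtype.val e)).2.2.symm
  have hk : k = 1 := by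
    haveI := charP_two h
    refine Units.ext (frobenius_inj F 2 (frobenius_inj F 2 ?_))
    simp only [frobenius_def, Units.val_one, one_pow, ← pow_mul]
    rw [← Units.val_pow_eq_pow_val, hk4, Units.val_one]
  exact ⟨a, b, by rw [hk, map_one, mul_one]⟩

/-- The case of the normaliser of a component. -/
theorem not_bin_of_le_normalizer {M U : Subgroup ↥(Cfsg.Sz F m)} (hU : IsCyclic ↥U)
    (hk : Nat.card ↥U ∈ compOrders h) (hle : M ≤ Subgroup.normalizer (U : Set ↥(Cfsg.Sz F m)))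
    (hz : uS h 0 1 ∈ M) (hnot : ¬ M ≤ bor h) : ¬ IsBin M := by
  classical
  haveI : Fact (Nat.Prime 2) := ⟨Nat.prime_two⟩
  intro hb
  obtain ⟨z, hzdef⟩ : ∃ z, z = uS h 0 1 := ⟨_, rfl⟩
  have hz' : z ∈ M := hzdef ▸ hz
  have hzZ : z ∈ ZS h := ⟨1, hzdef⟩
  have hz2 : orderOf z = 2 := hzdef ▸ orderOf_uS_zero h one_ne_zero
  have hz1 : z ≠ 1 := fun e => by rw [e, orderOf_one] at hz2; omega
  have hmeet : ∀ c ∈ U, c ∈ bor h → c = 1 := fun c hc hcb =>
    US_meet h (ZS_le_US h hzZ) hz1 hU hk (hle hz') hc hcb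
  obtain ⟨r, hrM, hrU, hr1⟩ : ∃ r ∈ M, r ∈ U ∧ r ≠ 1 := by
    by_contra hcon
    push Not at hcon
    have hP : IsPGroup 2 ↥M := fun g => ⟨2, Subtype.ext (by
      show g.1 ^ 2 ^ 2 = 1
      exact hcon _ (pow_mem g.2 4) (pow_four_mem h hU hk (hle g.2)))⟩
    exact hnot ((two_group_le_US h hP hz' (ZS_le_US h hzZ) hz1).trans (US_le_bor h))
  by_cases hfour : ∃ x ∈ M, x ∈ US h ∧ x * x ≠ 1
  · -- an element of order four in the point stabiliser
    obtain ⟨x, hxM, hxU, hx2⟩ := hfour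
    have hx1 : x ≠ 1 := fun e => hx2 (by rw [e, one_mul])
    obtain ⟨e, he⟩ := exists_not_normalizer h hU hk (f := fun e => uS h 0 e)
      (fun a b e => (uS_inj h e).2) (fun e => ZS_le_US h ⟨e, rfl⟩)
    obtain ⟨g, hg⟩ : ∃ g, g = uS h 0 e := ⟨_, rfl⟩
    have hgx : g⁻¹ * x * g = x := by
      rw [mul_assoc, ((mem_ZS_iff_commute h).mp ⟨e, hg⟩).2 x hxU, inv_mul_cancel_left]
    have hD : ∀ u ∈ M, g⁻¹ * u * g ∈ M → u ^ 4 = 1 := by
      intro u hu hu'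
      by_contra h4
      refine he (hg ▸ inv_inv g ▸ inv_mem (mem_normalizer_of_conj h hU hk
        (pow_four_mem h hU hk (hle hu)) h4 ?_))
      have := pow_four_mem h hU hk (hle hu')
      have e4 := conj_pow (i := 4) (a := g⁻¹) (b := u)
      rw [inv_inv] at e4 ⊢
      rwa [e4] at this
    obtain ⟨Q, hQ⟩ : ∃ Q : Subgroup ↥(Cfsg.Sz F m), ∀ u, u ∈ Q ↔ u ∈ M ∧ g⁻¹ * u * g ∈ M :=
      ⟨M ⊓ M.comap (MulAut.conj g⁻¹).toMonoidHom, fun u => by simp⟩
    have hQUS : Q ≤ US h := two_group_le_US h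
      (fun u => ⟨2, Subtype.ext (hD _ ((hQ _).mp u.2).1 ((hQ _).mp u.2).2)⟩)
      ((hQ x).mpr ⟨hxM, hgx.symm ▸ hxM⟩) hxU hx1
    have hDiff : ∀ u : ↥M, u ∈ (M.comap (MulAut.conj g⁻¹).toMonoidHom).subgroupOf M →
        (u : ↥(Cfsg.Sz F m)) ∈ US h := fun u hu => hQUS ((hQ _).mpr ⟨u.2, by
      simpa [Subgroup.mem_subgroupOf] using hu⟩)
    -- solve `w x w⁻¹ = v x` in the odd part
    obtain ⟨V, hV⟩ : ∃ V : Subgroup ↥(Cfsg.Sz F m), V = M ⊓ U := ⟨_, rfl⟩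
    have hxN := hle hxM
    have hconjU : ∀ w ∈ U, x * w⁻¹ * x⁻¹ ∈ U := fun w hw =>
      (Subgroup.mem_normalizer_iff.mp hxN _).mp (inv_mem hw)
    have hsurj : ∀ v ∈ V, ∃ w ∈ V, w * x * w⁻¹ = v * x := by
      obtain ⟨φ, hφ⟩ : ∃ φ : ↥V → ↥V, ∀ w, (φ w : ↥(Cfsg.Sz F m)) = w * (x * (w : ↥(Cfsg.Sz F m))⁻¹ * x⁻¹) :=
        ⟨fun w => ⟨w * (x * (w : ↥(Cfsg.Sz F m))⁻¹ * x⁻¹), by
          have hw : (w : ↥(Cfsg.Sz F m)) ∈ M ∧ (w : ↥(Cfsg.Sz F m)) ∈ U := Subgroup.mem_inf.mp (hV.le w.2)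
          exact hV.ge (Subgroup.mem_inf.mpr ⟨mul_mem hw.1 (mul_mem (mul_mem hxM (inv_mem hw.1)) (inv_mem hxM)),
            mul_mem hw.2 (hconjU _ hw.2)⟩)⟩, fun w => rfl⟩
      have hinj : Function.Injective φ := fun w w' e => by
        have e' := congrArg Subtype.val e
        rw [hφ, hφ] at e'
        obtain ⟨d, hd⟩ : ∃ d, d = (w' : ↥(Cfsg.Sz F m))⁻¹ * w := ⟨_, rfl⟩
        have hdx : d * x = x * d := by
          rw [hd]
          calc (w' : ↥(Cfsg.Sz F m))⁻¹ * w * x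
              = (w' : ↥(Cfsg.Sz F m))⁻¹ * (w * (x * (w : ↥(Cfsg.Sz F m))⁻¹ * x⁻¹)) * x * w := by group
            _ = x * ((w' : ↥(Cfsg.Sz F m))⁻¹ * w) := by rw [e']; group
        have hdU : d ∈ U := hd ▸ mul_mem (inv_mem (hV.le w'.2).2) (hV.le w.2).2
        have hd1 := hmeet d hdU (US_le_bor h (centralizer_US h hxU hx1
          (Subgroup.mem_centralizer_singleton_iff.mpr hdx)))
        rw [hd, inv_mul_eq_one] at hd1
        exact Subtype.ext hd1.symm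
      intro v hv
      obtain ⟨w, hw⟩ := Finite.injective_iff_surjective.mp hinj ⟨v, hv⟩
      refine ⟨w, w.2, ?_⟩
      rw [show v = (φ w : ↥(Cfsg.Sz F m)) from (congrArg Subtype.val hw).symm, hφ]
      group
    obtain ⟨v, hv⟩ : ∃ v, v = x⁻¹ * (r * (x * x) * r⁻¹) * x⁻¹ := ⟨_, rfl⟩
    have hvV : v ∈ V := by
      refine hV.ge (Subgroup.mem_inf.mpr ⟨hv ▸ mul_mem (mul_mem (inv_mem hxM) (mul_mem (mul_mem hrM (mul_mem hxM hxM))
        (inv_mem hrM))) (inv_mem hxM), ?_⟩)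
      have hxx : x * x * r⁻¹ * (x * x)⁻¹ ∈ U :=
        (Subgroup.mem_normalizer_iff.mp (mul_mem hxN hxN) _).mp (inv_mem hrU)
      have := (Subgroup.mem_normalizer_iff.mp (inv_mem hxN) _).mp (mul_mem hrU hxx)
      rw [hv, show x⁻¹ * (r * (x * x) * r⁻¹) * x⁻¹ = x⁻¹ * (r * (x * x * r⁻¹ * (x * x)⁻¹)) * x⁻¹⁻¹ by group]
      exact this
    obtain ⟨w, hwV, hw⟩ := hsurj v hvV
    have hwM := (hV.le hwV).1
    have hxD : (⟨x, hxM⟩ : ↥M) ∈ (M.comap (MulAut.conj g⁻¹).toMonoidHom).subgroupOf M := by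
      simp [Subgroup.mem_subgroupOf, hgx, hxM]
    obtain ⟨k, k1, k2, k3⟩ := (hb.suborbit g).tri (α := 1) (β := ⟨r, hrM⟩) (γ := ⟨w, hwM⟩)
      (x := ⟨x, hxM⟩) (y := ⟨r, hrM⟩ * (⟨x, hxM⟩ * ⟨x, hxM⟩) * ⟨r, hrM⟩⁻¹) (by simpa using hxD)
      (by rw [show (⟨r, hrM⟩ : ↥M)⁻¹ * (⟨r, hrM⟩ * (⟨x, hxM⟩ * ⟨x, hxM⟩) * ⟨r, hrM⟩⁻¹) * ⟨r, hrM⟩ =
            ⟨x, hxM⟩ * ⟨x, hxM⟩ by group]
          exact mul_mem hxD hxD)
      (by
        have e : (⟨x, hxM⟩ : ↥M)⁻¹ * (⟨r, hrM⟩ * (⟨x, hxM⟩ * ⟨x, hxM⟩) * ⟨r, hrM⟩⁻¹) =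
            ⟨w, hwM⟩ * ⟨x, hxM⟩ * ⟨w, hwM⟩⁻¹ := Subtype.ext (by
          show x⁻¹ * (r * (x * x) * r⁻¹) = w * x * w⁻¹
          rw [hw, hv, inv_mul_cancel_right])
        rw [e, show (⟨w, hwM⟩ : ↥M)⁻¹ * (⟨w, hwM⟩ * ⟨x, hxM⟩ * ⟨w, hwM⟩⁻¹) * ⟨w, hwM⟩ = ⟨x, hxM⟩ by group]
        exact hxD)
    rw [inv_one, one_mul, mul_one] at k1
    have k1' := hDiff _ k1
    have k2' : r⁻¹ * (k : ↥(Cfsg.Sz F m)) * r ∈ US h := hDiff _ k2
    have hk1 : k = 1 := by
      by_contra hkne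
      refine hr1 (hmeet r hrU ?_)
      have := mem_bor_of_conj h (σ := r⁻¹) k1' (fun e => hkne (Subtype.ext e)) (by rwa [inv_inv])
      exact inv_inv r ▸ inv_mem this
    have k3' : w⁻¹ * x * w ∈ US h := by
      have := hDiff _ k3
      rw [hk1, inv_one, one_mul] at this
      exact this
    have hw1 : w = 1 := by
      refine hmeet w (hV.le hwV).2 ?_
      have := mem_bor_of_conj h (σ := w⁻¹) hxU hx1 (by rwa [inv_inv])
      exact inv_inv w ▸ inv_mem this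
    rw [hw1, one_mul, inv_one, mul_one, hv, eq_comm, inv_mul_cancel_right, inv_mul_eq_iff_eq_mul,
      mul_inv_eq_iff_eq_mul] at hw
    refine hr1 (hmeet r hrU (US_le_bor h (centralizer_US h (mul_mem hxU hxU) hx2 ?_)))
    exact Subgroup.mem_centralizer_singleton_iff.mpr hw
  -- the dihedral case
  push Not at hfour
  have hUS : ∀ x ∈ M, x ∈ US h → x ≠ 1 → x = z := by
    intro x hxM hxU hx1
    by_contra hne
    have hx2 : orderOf x = 2 := orderOf_eq_prime (by rw [sq]; exact hfour x hxM hxU) hx1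
    have e1 := invol_inverts h hU hk hx2 (hle hxM) hrU
    have e2 := invol_inverts h hU hk hz2 (hle hz') hrU
    have hxx : x⁻¹ = x := inv_eq_of_mul_eq_one_right (hfour x hxM hxU)
    have hcr : x * z * r = r * (x * z) := by
      calc x * z * r = x * (z * r * z⁻¹) * z := by group
        _ = (x * r * x⁻¹)⁻¹ * (x * z) := by rw [e2]; group
        _ = r * (x * z) := by rw [e1, inv_inv]
    refine hr1 (hmeet r hrU (US_le_bor h (centralizer_US h (mul_mem hxU (ZS_le_US h hzZ)) ?_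
      (Subgroup.mem_centralizer_singleton_iff.mpr hcr.symm))))
    intro e
    rw [mul_eq_one_iff_inv_eq, hxx] at e
    exact hne e
  have hbor : ∀ x ∈ M, x ∈ bor h → x ≠ 1 → x = z := fun x hxM hxb hx1 => by
    refine hUS x hxM (mem_US_of_pow_four h hxb (hmeet _ (pow_four_mem h hU hk (hle hxM)) ?_)) hx1
    exact pow_mem hxb 4
  have hP : ∀ P : Subgroup ↥(Cfsg.Sz F m), P ≤ M → IsPGroup 2 ↥P → z ∈ P → Nat.card ↥P ≤ 2 := by
    intro P hPM hP hzP
    have hPU := two_group_le_US h hP hzP (ZS_le_US h hzZ) hz1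
    refine le_trans (Nat.card_le_card_of_injective (fun x : ↥P => decide (x.1 = 1)) fun a b e => ?_)
      (by simp)
    have e' : (a.1 = 1) ↔ (b.1 = 1) := decide_eq_decide.mp e
    by_cases ha : a.1 = 1
    · exact Subtype.ext (ha.trans (e'.mp ha).symm)
    · exact Subtype.ext ((hUS _ (hPM a.2) (hPU a.2) ha).trans
        (hUS _ (hPM b.2) (hPU b.2) (fun e1 => ha (e'.mpr e1))).symm)
  have hno4 : ∀ x ∈ M, x ^ 4 = 1 → x * x = 1 := by
    intro x hxM h4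
    by_contra hne
    have ho : orderOf x = 4 := by
      have := orderOf_eq_prime_pow (p := 2) (n := 1) (x := x) (by simpa [sq] using hne) (by simpa using h4)
      simpa using this
    have hzc : IsPGroup 2 ↥(Subgroup.zpowers (⟨z, hz'⟩ : ↥M)) :=
      IsPGroup.of_card (n := 1) (by rw [Nat.card_zpowers, ← Subgroup.orderOf_coe, hz2, pow_one])
    obtain ⟨P, hP'⟩ := hzc.exists_le_sylow
    have hxc : IsPGroup 2 ↥(Subgroup.zpowers (⟨x, hxM⟩ : ↥M)) :=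
      IsPGroup.of_card (n := 2) (by rw [Nat.card_zpowers, ← Subgroup.orderOf_coe, ho]; norm_num)
    obtain ⟨Q, hQ'⟩ := hxc.exists_le_sylow
    have h1 : Nat.card ↥(P : Subgroup ↥M) ≤ 2 := by
      rw [← Subgroup.card_map_of_injective (f := M.subtype) M.subtype_injective]
      exact hP _ (Subgroup.map_subtype_le _) (P.isPGroup'.map _)
        ⟨⟨z, hz'⟩, hP' (Subgroup.mem_zpowers _), rfl⟩
    have h2 := Subgroup.card_le_of_le hQ'
    rw [Nat.card_zpowers, ← Subgroup.orderOf_coe, ho, ← Nat.card_congr (P.equiv Q).toEquiv] at h2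
    omega
  have helem : ∀ x ∈ M, x ≠ 1 → x ∈ U ∨ orderOf x = 2 := by
    intro x hxM hx1
    by_cases heven : 2 ∣ orderOf x
    · rcases cases_centralizer h hx1 with ⟨h4, -⟩ | ⟨-, hCk⟩
      · exact Or.inr (orderOf_eq_prime (by rw [sq]; exact hno4 x hxM h4) hx1)
      · exact absurd (heven.trans (Subgroup.orderOf_dvd_natCard _
          (Subgroup.mem_centralizer_singleton_iff.mpr rfl))) (comp_two_le h hCk).2
    · exact Or.inl (odd_mem h hU hk (hle hxM) heven)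
  -- choose the conjugating elements
  have hex : ∀ l : F, l ≠ 0 → ∃ σ, σ * z * σ⁻¹ = uS h 0 l ∧ σ ∈ bor h ∧
      σ ∉ Subgroup.normalizer (U : Set ↥(Cfsg.Sz F m)) := by
    intro l hl
    obtain ⟨l', hl'⟩ := mul_th_surjective h l
    have hl'0 : l' ≠ 0 := fun e => hl (by rw [← hl', e, zero_mul])
    obtain ⟨p, hp⟩ : ∃ p, uS h p 0 * dS h (Units.mk0 l' hl'0) ∉
        Subgroup.normalizer (U : Set ↥(Cfsg.Sz F m)) := by
      by_contra hall
      push Not at hall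
      obtain ⟨p, hp⟩ := exists_not_normalizer h hU hk (f := fun p => uS h p 0)
        (fun a b e => (uS_inj h e).1) (fun p => ⟨p, 0, rfl⟩)
      have h0 := hall 0
      rw [uS_zero h, one_mul] at h0
      exact hp (by simpa using mul_mem (hall p) (inv_mem h0))
    refine ⟨_, ?_, (mem_stab_inf_iff h).mpr ⟨_, _, _, rfl⟩, hp⟩
    rw [hzdef, conj_ZS h, Units.val_mk0, hl', mul_one]
  obtain ⟨l, hl0, hl1⟩ := exists_ne_zero_one h
  have hl' : (1 : F) + l ≠ 0 := fun e => hl1 (by linear_combination e - two_eq h)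
  obtain ⟨σ₂, s2, s2b, s2N⟩ := hex l hl0
  obtain ⟨σ₃, s3, s3b, s3N⟩ := hex (1 + l) hl'
  obtain ⟨g, g1, g2, g3⟩ := hb.tri (α := 1) (β := σ₂) (γ := σ₃) (x := z) (y := uS h 0 l)
    (by simpa using hz') (by rw [← s2, show σ₂⁻¹ * (σ₂ * z * σ₂⁻¹) * σ₂ = z by group]; exact hz')
    (by
      have e : z⁻¹ * uS h 0 l = uS h 0 (1 + l) := by
        rw [hzdef, uS_inv h, uS_mul h, th_zero h]; congr 1 <;> ring
      rw [e, ← s3, show σ₃⁻¹ * (σ₃ * z * σ₃⁻¹) * σ₃ = z by group]; exact hz')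
  rw [inv_one, one_mul, mul_one] at g1
  have hfixed : ∀ {σ : ↥(Cfsg.Sz F m)} {l : F}, σ * z * σ⁻¹ = uS h 0 l → σ ∈ bor h →
      σ⁻¹ * z * σ ∈ M → l = 1 := by
    intro σ l hs hσ hmem
    have hne : σ⁻¹ * z * σ ≠ 1 := fun e => hz1 (by
      calc z = σ * (σ⁻¹ * z * σ) * σ⁻¹ := by group
        _ = 1 := by rw [e]; group)
    have e := hbor _ hmem (mul_mem (mul_mem (inv_mem hσ) (US_le_bor h (ZS_le_US h hzZ))) hσ) hne
    have e' : σ * z * σ⁻¹ = z := by nth_rewrite 1 [← e]; group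
    rw [e', hzdef] at hs
    exact (uS_inj h hs).2.symm
  by_cases hg1 : g = 1
  · rw [hg1, inv_one, one_mul] at g3
    have := hfixed s3 s3b g3
    exact hl0 (by linear_combination this)
  have hodd : ∀ {σ c : ↥(Cfsg.Sz F m)}, c ∈ U → c ≠ 1 → σ⁻¹ * c * σ ∈ M →
      σ ∈ Subgroup.normalizer (U : Set ↥(Cfsg.Sz F m)) := by
    intro σ c hc hc1 hmem
    have ho : ¬ 2 ∣ orderOf (σ⁻¹ * c * σ) := by
      have := Cfsg.Lib.Invol.orderOf_conj_eq σ⁻¹ c
      rw [inv_inv] at this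
      rw [this]
      exact (comp_centralizer h hU hk hc hc1).1
    have hcU := odd_mem h hU hk (hle hmem) ho
    have := mem_normalizer_of_conj h hU hk (σ := σ⁻¹) hc hc1 (by rwa [inv_inv])
    exact inv_inv σ ▸ inv_mem this
  rcases helem g g1 hg1 with hgU | hg2
  · exact s2N (hodd hgU hg1 g2)
  by_cases hgz : g = z
  · rw [hgz] at g2
    exact hl1 (hfixed s2 s2b g2)
  have e1 := invol_inverts h hU hk hg2 (hle g1) hrU
  have e2 := invol_inverts h hU hk hz2 (hle hz') hrU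
  have hgg : g⁻¹ = g := inv_eq_of_mul_eq_one_right (by rw [← sq, ← hg2, pow_orderOf_eq_one])
  rw [hgg] at g3
  have hcr : g * z * r = r * (g * z) := by
    calc g * z * r = g * (z * r * z⁻¹) * z := by group
      _ = (g * r * g⁻¹)⁻¹ * (g * z) := by rw [e2]; group
      _ = r * (g * z) := by rw [e1, inv_inv]
  refine s3N (hodd (c := g * z) ?_ ?_ g3)
  · rw [(comp_centralizer h hU hk hrU hr1).2]
    exact Subgroup.mem_centralizer_singleton_iff.mpr hcr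
  · intro e
    rw [mul_eq_one_iff_inv_eq, hgg] at e
    exact hgz e

end Cfsg.Lib.Binary
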