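import Cfsg.Agent.Lib.Binary.SuzukiStab

/-!
# Suzuki groups: subfield subgroups do not act binarily

A suborbit of such a subgroup would give a binary action of the smaller Suzuki group whose
stabiliser contains a Sylow two-subgroup.
-/

set_option autoImplicit false

namespace Cfsg.Lib.Binary

open Cfsg Cfsg.Lib.Linear.Suz
open scoped Matrix LinearAlgebra.Projectivization

variable {F : Type*} [Field F] [Fintype F] {m : ℕ} (h : Params F m)
include h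

theorem card_fx {k : ℕ} {K : Type*} [Field K] [Fintype K] (g : Params K k)
    (hdiv : 2 * k + 1 ∣ 2 * m + 1) : Nat.card {x : F // Fx h k x} = 2 ^ (2 * k + 1) := by
  refine le_antisymm (fx_card_le h) ?_
  obtain ⟨φ⟩ := exists_field_hom h g hdiv
  rw [← g.card, ← Nat.card_eq_fintype_card]
  refine Nat.card_le_card_of_injective
    (fun a => (⟨φ a, by rw [Fx, ← map_pow, ← g.card, FiniteField.pow_card]⟩ : {x : F // Fx h k x})) ?_
  intro a b e
  exact φ.injective (congrArg Subtype.val e)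

/-- The points with coordinates in the subfield are permuted by the subfield subgroup. -/
theorem smul_rational {k : ℕ} {u : ↥(Cfsg.Sz F m)} (hu : u ∈ SubG h k) :
    ∀ p, (p = Cfsg.suzukiPointInfinity F ∨ ∃ x y, Fx h k x ∧ Fx h k y ∧ p = pA m x y) →
      (u.1 • p = Cfsg.suzukiPointInfinity F ∨ ∃ x y, Fx h k x ∧ Fx h k y ∧ u.1 • p = pA m x y) := by
  obtain ⟨R, hR⟩ : ∃ R : ℙ F (Fin 4 → F) → Prop, ∀ p, R p ↔
      (p = Cfsg.suzukiPointInfinity F ∨ ∃ x y, Fx h k x ∧ Fx h k y ∧ p = pA m x y) := ⟨_, fun p => Iff.rfl⟩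
  suffices hs : ∀ p, R p → R (u.1 • p) by
    intro p hp; exact (hR _).mp (hs p ((hR p).mpr hp))
  have hUS : ∀ a b, Fx h k a → Fx h k b → ∀ p, R p → R ((uS h a b).1 • p) := fun a b ha hb p hp => by
    rw [hR] at hp ⊢
    rcases hp with rfl | ⟨x, y, hx, hy, rfl⟩
    · exact Or.inl (uSL_inf a b)
    · exact Or.inr ⟨_, _, fx_add h hx ha, fx_add h (fx_add h hy (fx_mul h (fx_th h ha) hx)) hb,
        uSL_pA h a b x y⟩
  have hDS : ∀ κ : Fˣ, Fx h k (κ : F) → ∀ p, R p → R ((dS h κ).1 • p) := fun κ hκ p hp => by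
    rw [hR] at hp ⊢
    rcases hp with rfl | ⟨x, y, hx, hy, rfl⟩
    · exact Or.inl (dHom_inf κ)
    · exact Or.inr ⟨_, _, fx_mul h hκ hx, fx_mul h (fx_mul h hκ (fx_th h hκ)) hy, dHom_pA h κ x y⟩
  have hW : ∀ p, R p → R ((wS h).1 • p) := fun p hp => by
    rw [hR] at hp ⊢
    rcases hp with rfl | ⟨x, y, hx, hy, rfl⟩
    · exact Or.inr ⟨0, 0, fx_zero h, fx_zero h, wSL_inf h⟩
    · by_cases e : zc m x y = 0
      · obtain ⟨rfl, rfl⟩ := zc_eq_zero h e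
        exact Or.inl (wSL_zero h)
      · have hz : Fx h k (zc m x y) := fx_add h (fx_add h (fx_mul h hx hy)
          (fx_mul h (by rw [sq]; exact fx_mul h hx hx) (fx_th h hx))) (fx_th h hy)
        exact Or.inr ⟨_, _, fx_div h hy hz, fx_div h hx hz, wSL_pA h e⟩
  have hwi : (wS h)⁻¹ = wS h := inv_eq_of_mul_eq_one_right (wS_mul_self h)
  induction hu using Subgroup.closure_induction'' with
  | mem x hx =>
    rcases hx with ⟨a, b, ha, hb, rfl⟩ | ⟨κ, hκ, rfl⟩ | rfl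
    exacts [hUS a b ha hb, hDS κ hκ, hW]
  | inv_mem x hx =>
    rcases hx with ⟨a, b, ha, hb, rfl⟩ | ⟨κ, hκ, rfl⟩ | rfl
    · rw [uS_inv h]; exact hUS _ _ ha (fx_add h hb (fx_mul h (fx_th h ha) ha))
    · rw [← map_inv]; exact hDS _ (by rw [Units.val_inv_eq_inv_val]; exact fx_inv h hκ)
    · rw [hwi]; exact hW
  | one => intro p hp; rw [OneMemClass.coe_one, one_smul]; exact hp
  | mul x y _ _ hx hy => intro p hp; rw [Subgroup.coe_mul, mul_smul]; exact hx _ (hy p hp)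

theorem not_bin_SubG {k : ℕ} (hk : 1 ≤ k) (hdiv : 2 * k + 1 ∣ 2 * m + 1) (hne : SubG h k ≠ ⊤) :
    ¬ IsBin (SubG h k) := by
  classical
  intro hbin
  obtain ⟨K, iK, iK', g⟩ := exists_params_galois h k hk
  obtain ⟨ψ, hψ, hr⟩ := exists_sub_hom h g hdiv
  obtain ⟨b, hb⟩ : ∃ b : F, ¬ Fx h k b := by
    by_contra hall
    push Not at hall
    exact hne (eq_top_of_gens h _ (fun a b => uS_mem_SubG h (hall a) (hall b))
      (fun κ => dS_mem_SubG h (hall _)) (wS_mem_SubG h))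
  obtain ⟨s, hs⟩ : ∃ s, s = uS h 0 b := ⟨_, rfl⟩
  obtain ⟨D, hD⟩ : ∃ D, D = ((SubG h k).comap (MulAut.conj s⁻¹).toMonoidHom).subgroupOf (SubG h k) :=
    ⟨_, rfl⟩
  have hDmem : ∀ u : ↥(SubG h k), u ∈ D ↔ s⁻¹ * (u : ↥(Cfsg.Sz F m)) * s ∈ SubG h k := fun u => by
    simp [hD, Subgroup.mem_subgroupOf]
  have hDU : ∀ u : ↥(SubG h k), (u : ↥(Cfsg.Sz F m)) ∈ US h → u ∈ D := fun u hu => by
    rw [hDmem, mul_assoc, ((mem_ZS_iff_commute h).mp ⟨b, hs⟩).2 _ hu, inv_mul_cancel_left]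
    exact u.2
  have hDtop : (⟨wS h, wS_mem_SubG h⟩ : ↥(SubG h k)) ∉ D := fun hmem => by
    rw [hDmem] at hmem
    have := smul_rational h hmem (Cfsg.suzukiPointInfinity F) (Or.inl rfl)
    have e : (s⁻¹ * wS h * s).1 • Cfsg.suzukiPointInfinity F = pA m (0 : F) b := by
      rw [hs]
      show ((uSL m (0 : F) b)⁻¹ * wSL F * uSL m (0 : F) b) • _ = _
      rw [mul_smul, mul_smul, uSL_inf, wSL_inf h, uSL_inv h, uSL_pA h, th_zero h]
      congr 1 <;> ring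
    rw [e] at this
    rcases this with e' | ⟨x, y, -, hy, e'⟩
    · exact inf_ne_pA m _ _ e'.symm
    · exact hb ((pA_injective e').2 ▸ hy)
  obtain ⟨ε, hε⟩ : ∃ ε : ↥(Cfsg.Sz K k) ≃* ↥(SubG h k), ∀ x, (ε x : ↥(Cfsg.Sz F m)) = ψ x :=
    ⟨(MonoidHom.ofInjective hψ).trans (MulEquiv.subgroupCongr hr), fun x => rfl⟩
  obtain ⟨D', hD'⟩ : ∃ D', D' = D.map ε.symm.toMonoidHom := ⟨_, rfl⟩
  have hD'mem : ∀ x, x ∈ D' ↔ ε x ∈ D := fun x => by
    rw [hD']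
    exact Subgroup.mem_map_equiv
  have hbD' : IsBin D' := hD' ▸ (hD ▸ hbin.suborbit s).map ε.symm
  -- a Sylow subgroup inside `D'`
  obtain ⟨Q, hQ⟩ : ∃ Q : Subgroup ↥(Cfsg.Sz K k), Q = (US h).comap ψ := ⟨_, rfl⟩
  have hQD : Q ≤ D' := fun x hx => by
    rw [hQ, Subgroup.mem_comap] at hx
    exact (hD'mem x).mpr (hDU _ (by rw [hε]; exact hx))
  haveI : Fact (Nat.Prime 2) := ⟨Nat.prime_two⟩
  have hQp : IsPGroup 2 ↥Q := by
    rw [hQ]
    refine IsPGroup.comap_of_injective ?_ ψ hψ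
    exact IsPGroup.of_card (n := (2 * m + 1) * 2) (by rw [card_US h, ← pow_mul])
  obtain ⟨P, hP⟩ := hQp.exists_le_sylow
  obtain ⟨σ, hσ⟩ := sylow_conj g P
  have hQcard : (2 ^ (2 * k + 1)) ^ 2 ≤ Nat.card ↥Q := by
    rw [← card_fx h g hdiv, sq, ← Nat.card_prod]
    have hpre : ∀ z : {x : F // Fx h k x} × {x : F // Fx h k x}, ∃ q : ↥Q, ψ q = uS h z.1.1 z.2.1 := by
      intro z
      obtain ⟨q, hq⟩ := hr.ge (uS_mem_SubG h z.1.2 z.2.2)
      exact ⟨⟨q, hQ ▸ Subgroup.mem_comap.mpr (hq ▸ ⟨_, _, rfl⟩)⟩, hq⟩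
    choose f hf using hpre
    refine Nat.card_le_card_of_injective f fun z z' e => ?_
    have e' := uS_inj h ((hf z).symm.trans ((congrArg (fun q : ↥Q => ψ q) e).trans (hf z')))
    exact Prod.ext (Subtype.ext e'.1) (Subtype.ext e'.2)
  have hPQ : (P : Subgroup ↥(Cfsg.Sz K k)) = Q := by
    refine (Subgroup.eq_of_le_of_card_ge hP ?_).symm
    rw [hσ, Subgroup.card_map_of_injective (f := (MulAut.conj σ).toMonoidHom) (MulAut.conj σ).injective,
      card_US g]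
    exact hQcard
  obtain ⟨D'', hD''⟩ : ∃ D'', D'' = D'.map (MulAut.conj σ⁻¹).toMonoidHom := ⟨_, rfl⟩
  have hbD : IsBin D'' := hD'' ▸ hbD'.conj g σ⁻¹
  have hUD : US g ≤ D'' := fun u hu => by
    refine hD'' ▸ ⟨σ * u * σ⁻¹, hQD (hPQ.le (hσ.ge ⟨u, hu, rfl⟩)), ?_⟩
    show σ⁻¹ * (σ * u * σ⁻¹) * σ⁻¹⁻¹ = u
    group
  rcases overgroup_US g hUD with hle | htop
  · have e := eq_ZS_of_bin_le_bor g hle one_ne_zero (hUD ⟨0, 1, rfl⟩) hbD
    obtain ⟨c, hc⟩ : uS g 1 0 ∈ ZS g := e ▸ hUD ⟨1, 0, rfl⟩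
    exact one_ne_zero (uS_inj g hc).1
  · refine hDtop ?_
    have hmem : σ⁻¹ * ε.symm ⟨wS h, wS_mem_SubG h⟩ * σ⁻¹⁻¹ ∈ D'' := by rw [htop]; trivial
    rw [hD''] at hmem
    have := (Subgroup.mem_map_iff_mem (f := (MulAut.conj σ⁻¹).toMonoidHom) (MulAut.conj σ⁻¹).injective).mp hmem
    rw [hD'mem, MulEquiv.apply_symm_apply] at this
    exact this

end Cfsg.Lib.Binary
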