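import Cfsg.Agent.Lib.Binary.SuzukiOdd
import Cfsg.Agent.Lib.Binary.SuzukiNormalizer
import Cfsg.Agent.Lib.Binary.SuzukiSub

/-!
# Suzuki groups: the binary coset actions
-/

set_option autoImplicit false

namespace Cfsg.Lib.Binary

open Cfsg Cfsg.Lib.Linear.Suz
open scoped Matrix LinearAlgebra.Projectivization

variable {F : Type*} [Field F] [Fintype F] {m : ℕ} (h : Params F m)
include h

/-- The binary coset actions of a Suzuki group. -/
theorem suzuki_bin_iff {M : Subgroup ↥(Cfsg.Sz F m)} (hM : M ≠ ⊤) :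
    IsBin M ↔ M = ⊥ ∨ ∃ σ, M = (ZS h).map (MulAut.conj σ).toMonoidHom := by
  classical
  haveI : Fact (Nat.Prime 2) := ⟨Nat.prime_two⟩
  refine ⟨fun hb => ?_, ?_⟩
  · by_cases h2 : 2 ∣ Nat.card ↥M
    · obtain ⟨z, hz⟩ := exists_prime_orderOf_dvd_card' 2 h2
      obtain ⟨σ, hσ⟩ := involution_conj h (z := z.1) (by rw [Subgroup.orderOf_coe, hz])
      obtain ⟨N, hN⟩ : ∃ N, N = M.map (MulAut.conj σ).toMonoidHom := ⟨_, rfl⟩
      have hzN : uS h 0 1 ∈ N := hN ▸ ⟨z.1, z.2, hσ⟩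
      have hbN : IsBin N := hN ▸ hb.conj h σ
      have hNtop : N ≠ ⊤ := fun e => hM (by
        rw [eq_top_iff]
        intro x _
        have hx : σ * x * σ⁻¹ ∈ N := by rw [e]; trivial
        rw [hN] at hx
        exact (Subgroup.mem_map_iff_mem (f := (MulAut.conj σ).toMonoidHom) (MulAut.conj σ).injective).mp hx)
      by_cases hle : N ≤ bor h
      · refine Or.inr ⟨σ⁻¹, ?_⟩
        rw [← eq_ZS_of_bin_le_bor h hle one_ne_zero hzN hbN, hN, Subgroup.map_map]
        refine (Subgroup.map_id M).symm.trans ?_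
        congr 1
        ext x
        simp [MulAut.conj_apply, mul_assoc]
      exfalso
      rcases subgroup_cases h N with ⟨g, hg⟩ | ⟨U, hU, hk, hUle⟩ | ⟨k, g, hk, hdiv, e⟩
      · refine hle fun x hx => ?_
        have hgb : g ∈ bor h := by
          have h1 := hg _ hzN
          have h0 : uS h 0 1 ≠ 1 := uS_zero_ne_one h one_ne_zero
          obtain ⟨a, b, e⟩ := mem_US_of_pow_four h h1 (by
            rw [conj_pow, pow_four_of_mem_US h ⟨0, 1, rfl⟩, mul_one, mul_inv_cancel])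
          exact mem_bor_of_conj h ⟨0, 1, rfl⟩ h0 ⟨a, b, e⟩
        have := mul_mem (mul_mem (inv_mem hgb) (hg x hx)) hgb
        rwa [show g⁻¹ * (g * x * g⁻¹) * g = x by group] at this
      · exact not_bin_of_le_normalizer h hU hk hUle hzN hle hbN
      · refine not_bin_SubG h hk hdiv (fun e' => hNtop ?_) ?_
        · rw [e, e', Subgroup.map_top_of_surjective _ (MulAut.conj g).surjective]
        · have := hbN.conj h g⁻¹
          rwa [e, Subgroup.map_map, show (MulAut.conj g⁻¹).toMonoidHom.comp (MulAut.conj g).toMonoidHom =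
            MonoidHom.id _ by ext x; simp [MulAut.conj_apply, mul_assoc], Subgroup.map_id] at this
    · exact Or.inl (eq_bot_of_bin_odd h h2 hb)
  · rintro (rfl | ⟨σ, rfl⟩)
    · exact isBin_bot
    · exact (isBin_ZS h).conj h σ

theorem sylow_center_iff {M : Subgroup ↥(Cfsg.Sz F m)} :
    (∃ σ, M = (ZS h).map (MulAut.conj σ).toMonoidHom) ↔
      ∃ P : Sylow 2 ↥(Cfsg.Sz F m), M = (Subgroup.center (P : Subgroup ↥(Cfsg.Sz F m))).map
        (P : Subgroup ↥(Cfsg.Sz F m)).subtype := by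
  constructor
  · rintro ⟨σ, rfl⟩
    obtain ⟨P⟩ := (inferInstance : Nonempty (Sylow 2 ↥(Cfsg.Sz F m)))
    obtain ⟨τ, hτ⟩ := sylow_conj h P
    refine ⟨(σ * τ⁻¹) • P, (center_sylow_eq h ?_).symm⟩
    rw [show (((σ * τ⁻¹) • P : Sylow 2 ↥(Cfsg.Sz F m)) : Subgroup ↥(Cfsg.Sz F m)) =
      (P : Subgroup ↥(Cfsg.Sz F m)).map (MulAut.conj (σ * τ⁻¹)).toMonoidHom from rfl, hτ, Subgroup.map_map]
    congr 1
    ext x
    simp [MulAut.conj_apply, mul_assoc]
  · rintro ⟨P, rfl⟩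
    obtain ⟨τ, hτ⟩ := sylow_conj h P
    exact ⟨τ, center_sylow_eq h hτ⟩

end Cfsg.Lib.Binary
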