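import Cfsg.Agent.Lib.Binary.SuzukiStab
import Cfsg.Agent.Lib.Binary.SuzukiCount

/-!
# Suzuki groups: a binary stabiliser of odd order is trivial
-/

set_option autoImplicit false

namespace Cfsg.Lib.Binary

open Cfsg Cfsg.Lib.Linear.Suz
open scoped Matrix LinearAlgebra.Projectivization

variable {F : Type*} [Field F] [Fintype F] {m : ℕ} (h : Params F m)
include h

theorem commutator_mem_US {x y : ↥(Cfsg.Sz F m)} (hx : x ∈ bor h) (hy : y ∈ bor h) :
    y * x * (x * y)⁻¹ ∈ US h := by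
  obtain ⟨a, b, k, rfl⟩ := (mem_stab_inf_iff h).mp hx
  obtain ⟨c, d, l, rfl⟩ := (mem_stab_inf_iff h).mp hy
  have e : ∀ (a b c d : F) (k l : Fˣ), ∃ p r,
      uS h a b * dS h k * (uS h c d * dS h l) = uS h p r * dS h (k * l) := fun a b c d k l => by
    refine ⟨a + (k : F) * c, b + (k : F) * th m (k : F) * d + th m a * ((k : F) * c), ?_⟩
    rw [mul_assoc, ← mul_assoc (dS h k), dS_mul_uS h, mul_assoc, ← map_mul, ← mul_assoc, uS_mul h]
  obtain ⟨p, r, e1⟩ := e c d a b l k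
  obtain ⟨p', r', e2⟩ := e a b c d k l
  rw [e1, e2, mul_comm k l, show uS h p r * dS h (l * k) * (uS h p' r' * dS h (l * k))⁻¹ =
    uS h p r * (uS h p' r')⁻¹ by group]
  exact mul_mem ⟨p, r, rfl⟩ (inv_mem ⟨p', r', rfl⟩)

/-- The elements of an odd order subgroup commute. -/
theorem commute_of_odd {M : Subgroup ↥(Cfsg.Sz F m)} (hodd : ¬ 2 ∣ Nat.card ↥M)
    {x y : ↥(Cfsg.Sz F m)} (hx : x ∈ M) (hy : y ∈ M) : y * x = x * y := by
  have hord : ∀ z ∈ M, ¬ 2 ∣ orderOf z := fun z hz hdvd =>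
    hodd (hdvd.trans (Subgroup.orderOf_dvd_natCard M hz))
  rcases subgroup_cases h M with ⟨g, hg⟩ | ⟨U, hU, hk, hle⟩ | ⟨k, g, -, -, e⟩
  · obtain ⟨c, hc⟩ : ∃ c, c = y * x * (x * y)⁻¹ := ⟨_, rfl⟩
    have hcM : c ∈ M := hc ▸ mul_mem (mul_mem hy hx) (inv_mem (mul_mem hx hy))
    have hc4 : (g * c * g⁻¹) ^ 4 = 1 := by
      refine pow_four_of_mem_US h ?_
      have := commutator_mem_US h (hg x hx) (hg y hy)
      rwa [show g * y * g⁻¹ * (g * x * g⁻¹) * (g * x * g⁻¹ * (g * y * g⁻¹))⁻¹ =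
        g * (y * x * (x * y)⁻¹) * g⁻¹ by group, ← hc] at this
    rw [conj_pow, mul_inv_eq_one, mul_eq_left] at hc4
    have hd : orderOf c ∣ 1 := by
      have h2 : Nat.Coprime (orderOf c) (2 ^ 2) :=
        Nat.Coprime.pow_right 2 (Nat.prime_two.coprime_iff_not_dvd.mpr (hord c hcM)).symm
      rw [← h2]
      exact Nat.dvd_gcd dvd_rfl (orderOf_dvd_of_pow_eq_one hc4)
    rw [Nat.dvd_one, orderOf_eq_one_iff, hc, mul_inv_eq_one] at hd
    exact hd
  · have hxU := odd_mem h hU hk (hle hx) (hord x hx)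
    have hyU := odd_mem h hU hk (hle hy) (hord y hy)
    letI := hU.commGroup
    exact congrArg Subtype.val (mul_comm (⟨y, hyU⟩ : ↥U) ⟨x, hxU⟩)
  · exfalso
    have hmem : g * wS h * g⁻¹ ∈ M := e ▸ ⟨wS h, wS_mem_SubG h, rfl⟩
    refine hord _ hmem ?_
    have hw : wS h ≠ 1 := fun e' => inf_ne_pA m (0 : F) 0 (by
      rw [← wSL_inf h, show wSL F = 1 from congrArg Subtype.val e', one_smul])
    rw [Cfsg.Lib.Invol.orderOf_conj_eq, orderOf_eq_prime (p := 2) (by rw [sq, wS_mul_self h]) hw]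

theorem exists_far_conjugates {x : ↥(Cfsg.Sz F m)} (hx1 : x ≠ 1) (hodd : ¬ 2 ∣ orderOf x) :
    ∃ u v : ↥(Cfsg.Sz F m), x = (u * x * u⁻¹) * (v * x * v⁻¹) ∧
      u * x * u⁻¹ ∉ Subgroup.centralizer ({x} : Set ↥(Cfsg.Sz F m)) := by
  classical
  haveI : Finite ↥(Cfsg.Sz F m) := inferInstance
  haveI := Fintype.ofFinite ↥(Cfsg.Sz F m)
  by_cases hf : Fpf h x
  · exact exists_far_product h hf
  obtain ⟨σ, k, hk, hσ⟩ : ∃ σ k, k ≠ 1 ∧ σ * x * σ⁻¹ = dS h k := by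
    rcases classify h hx1 hf with ⟨-, σ, hσ⟩ | ⟨-, σ, k, hσ⟩
    · exfalso
      have h4 := pow_four_of_mem_US h hσ
      rw [conj_pow, mul_inv_eq_one, mul_eq_left] at h4
      have h2 : Nat.Coprime (orderOf x) (2 ^ 2) :=
        Nat.Coprime.pow_right 2 (Nat.prime_two.coprime_iff_not_dvd.mpr hodd).symm
      exact hx1 (orderOf_eq_one_iff.mp
        (Nat.dvd_one.mp (h2 ▸ Nat.dvd_gcd dvd_rfl (orderOf_dvd_of_pow_eq_one h4))))
    · exact ⟨σ, k, fun e => hx1 (by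
        rw [e, map_one, eq_comm, mul_inv_eq_one, mul_eq_left] at hσ; exact hσ), hσ.symm⟩
  have hord : 2 < orderOf x := by
    have h1 : orderOf x ≠ 1 := fun e => hx1 (orderOf_eq_one_iff.mp e)
    have := orderOf_pos x
    omega
  obtain ⟨u, v, huv⟩ := Cfsg.Lib.SuzChar.exists_product h (x := x) (g := x) hord hx1
  refine ⟨u, v, huv, fun hmem => hk ?_⟩
  rw [Subgroup.mem_centralizer_singleton_iff] at hmem
  have hxx : dS h k ≠ 1 := fun e => hk (dS_injective h (e.trans (map_one _).symm))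
  have hcent : ∀ a, a * x = x * a → ∃ l, σ * a * σ⁻¹ = dS h l := fun a ha => by
    obtain ⟨l, hl⟩ : σ * a * σ⁻¹ ∈ (dS h).range := by
      rw [← centralizer_DS h ⟨k, rfl⟩ hxx, Subgroup.mem_centralizer_singleton_iff, ← hσ,
        show σ * a * σ⁻¹ * (σ * x * σ⁻¹) = σ * (a * x) * σ⁻¹ by group, ha]
      group
    exact ⟨l, hl.symm⟩
  obtain ⟨l, hl⟩ := hcent _ hmem
  obtain ⟨j, hj⟩ := hcent (v * x * v⁻¹) (by
    rw [eq_inv_mul_of_mul_eq huv.symm]
    calc (u * x * u⁻¹)⁻¹ * x * x = (u * x * u⁻¹)⁻¹ * (x * (u * x * u⁻¹)) * (u * x * u⁻¹)⁻¹ * x := by group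
      _ = x * (u * x * u⁻¹)⁻¹ * x := by rw [← hmem]; group
      _ = _ := by group)
  have hlk : ∀ (w : ↥(Cfsg.Sz F m)) (l : Fˣ), σ * (w * x * w⁻¹) * σ⁻¹ = dS h l → l = k ∨ l = k⁻¹ := by
    intro w l e
    rcases DS_conj h hk (l := l) (n := σ * w * σ⁻¹) (by rw [← hσ, ← e]; group) with ⟨-, -, e'⟩ | ⟨-, -, e'⟩
    exacts [Or.inl e', Or.inr e']
  have hmul : l * j = k := dS_injective h (by
    rw [map_mul, ← hl, ← hj, ← hσ]
    nth_rewrite 3 [huv]
    group)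
  rcases hlk u l hl with rfl | rfl <;> rcases hlk v j hj with rfl | rfl
  · exact mul_eq_left.mp hmul
  · rw [mul_inv_cancel] at hmul; exact hmul.symm
  · rw [inv_mul_cancel] at hmul; exact hmul.symm
  · by_contra hk'
    have h3 : k ^ 3 = 1 := by
      rw [← mul_inv_rev, inv_eq_iff_mul_eq_one] at hmul
      rw [pow_succ, sq]; exact hmul
    have ho : orderOf (dS h k) = 3 := by
      haveI : Fact (Nat.Prime 3) := ⟨Nat.prime_three⟩
      exact orderOf_eq_prime (by rw [← map_pow, h3, map_one]) hxx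
    exact three_not_dvd h (ho ▸ orderOf_dvd_natCard (dS h k))

/-- A binary stabiliser of odd order is trivial. -/
theorem eq_bot_of_bin_odd {M : Subgroup ↥(Cfsg.Sz F m)} (hodd : ¬ 2 ∣ Nat.card ↥M) (hb : IsBin M) :
    M = ⊥ := by
  classical
  by_contra hne
  obtain ⟨x, hxM, hx1⟩ := (Subgroup.bot_or_exists_ne_one M).resolve_left hne
  have hxo : ¬ 2 ∣ orderOf x := fun hd => hodd (hd.trans (Subgroup.orderOf_dvd_natCard M hxM))
  obtain ⟨u, v, huv, hfar⟩ := exists_far_conjugates h hx1 hxo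
  have hMC : ∀ y ∈ M, y * x = x * y := fun y hy => commute_of_odd h hodd hxM hy
  obtain ⟨a, ha⟩ : ∃ a, a = u * x * u⁻¹ := ⟨_, rfl⟩
  obtain ⟨b, hb'⟩ : ∃ b, b = v * x * v⁻¹ := ⟨_, rfl⟩
  rw [← ha] at huv hfar
  rw [← hb'] at huv
  obtain ⟨g, hg1, hg2, hg3⟩ := hb.tri (α := 1) (β := u) (γ := v) (x := x) (y := a)
    (by simpa using hxM) (by rw [ha, show u⁻¹ * (u * x * u⁻¹) * u = x by group]; exact hxM)
    (by
      rw [show x⁻¹ * a = b⁻¹ by rw [huv]; group, hb', show v⁻¹ * (v * x * v⁻¹)⁻¹ * v = x⁻¹ by group]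
      exact inv_mem hxM)
  rw [inv_one, one_mul, mul_one] at hg1
  by_cases hg : g = 1
  · rw [hg, inv_one, one_mul] at hg3
    refine hfar (Subgroup.mem_centralizer_singleton_iff.mpr ?_)
    have hcb : b * x = x * b := by
      rw [hb']
      have e := hMC _ hg3
      calc v * x * v⁻¹ * x = v * (x * (v⁻¹ * x * v)) * v⁻¹ := by group
        _ = x * (v * x * v⁻¹) := by rw [← e]; group
    have e : a = x * b⁻¹ := by rw [huv]; group
    rw [e]
    calc x * b⁻¹ * x = x * b⁻¹ * (x * b) * b⁻¹ := by group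
      _ = x * (x * b⁻¹) := by rw [← hcb]; group
  · -- the centraliser of `g` is that of `x`
    have hgx := hMC g hg1
    obtain ⟨hc1, hc2⟩ := comp_of_elem h hx1 hxo
    have hgC : g ∈ Subgroup.centralizer ({x} : Set ↥(Cfsg.Sz F m)) :=
      Subgroup.mem_centralizer_singleton_iff.mpr hgx
    have hUg := (comp_centralizer h hc1 hc2 hgC hg).2
    have hag : a * g = g * a := by
      have e := hMC _ hg2
      rw [ha]
      calc u * x * u⁻¹ * g = u * (x * (u⁻¹ * g * u)) * u⁻¹ := by group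
        _ = g * (u * x * u⁻¹) := by rw [← e]; group
    exact hfar (hUg ▸ Subgroup.mem_centralizer_singleton_iff.mpr hag)

end Cfsg.Lib.Binary
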