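import Cfsg.Agent.Lib.Binary.SuzukiTools
import Cfsg.Agent.Lib.Binary.FieldLemma

/-!
# Suzuki groups: binary stabilisers inside a point stabiliser

The only subgroup of a point stabiliser containing an involution and acting binarily is the centre
of the Sylow subgroup.
-/

set_option autoImplicit false

namespace Cfsg.Lib.Binary

open Cfsg Cfsg.Lib.Linear.Suz
open scoped Matrix LinearAlgebra.Projectivization

variable {F : Type*} [Field F] [Fintype F] {m : ℕ} (h : Params F m)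
include h

theorem IsBin.conj {M : Subgroup ↥(Cfsg.Sz F m)} (hb : IsBin M) (σ : ↥(Cfsg.Sz F m)) :
    IsBin (M.map (MulAut.conj σ).toMonoidHom) := by
  have := h.pos
  exact hb.map (MulAut.conj σ)

theorem smul_of_conj_bor {σ g : ↥(Cfsg.Sz F m)} (hg : σ⁻¹ * g * σ ∈ bor h) :
    g.1 • (σ.1 • Cfsg.suzukiPointInfinity F) = σ.1 • Cfsg.suzukiPointInfinity F := by
  have e : (σ.1⁻¹ * g.1 * σ.1) • Cfsg.suzukiPointInfinity F = Cfsg.suzukiPointInfinity F := hg
  rwa [mul_smul, mul_smul, inv_smul_eq_iff] at e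

/-- A stabiliser inside a point stabiliser that contains an involution and a diagonal element
does not act binarily. -/
theorem not_bin_of_diag {M : Subgroup ↥(Cfsg.Sz F m)} (hM : M ≤ bor h) {e : F} (he : e ≠ 0)
    (hz : uS h 0 e ∈ M) {κ : Fˣ} (hκ : κ ≠ 1) (hc : dS h κ ∈ M) : ¬ IsBin M := by
  intro hb
  obtain ⟨τ, hτ⟩ : ∃ τ, τ = uS h (1 : F) 1 * wS h := ⟨_, rfl⟩
  have hz1 : zc m (1 : F) 1 = 1 := by
    simp only [zc, th_one h, mul_one, one_pow]; linear_combination two_eq h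
  have hA : τ.1 • Cfsg.suzukiPointInfinity F = pA m (1 : F) 1 := by
    rw [hτ]
    show (uSL m (1 : F) 1 * wSL F) • _ = _
    rw [mul_smul, wSL_inf h, uSL_zero_pt h]
  have hwA : wSL F • pA m (1 : F) 1 = pA m 1 1 := by
    rw [wSL_pA h (by rw [hz1]; exact one_ne_zero), hz1, div_one]
  have hww : wS h * wS h = 1 := wS_mul_self h
  have hw1 : wS h ≠ 1 := fun e' => inf_ne_pA m (0 : F) 0 (by
    rw [← wSL_inf h, show wSL F = 1 from congrArg Subtype.val e', one_smul])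
  obtain ⟨e', he', hv⟩ : ∃ e', e' ≠ 0 ∧ τ⁻¹ * wS h * τ = uS h 0 e' := by
    refine stab_coords_two h (g := τ⁻¹ * wS h * τ) ?_ ?_
    · show (τ.1⁻¹ * wSL F * τ.1) • Cfsg.suzukiPointInfinity F = Cfsg.suzukiPointInfinity F
      rw [mul_smul, mul_smul, hA, hwA, ← hA, inv_smul_smul]
    · refine orderOf_eq_prime ?_ fun e1 => hw1 ?_
      · rw [sq, show τ⁻¹ * wS h * τ * (τ⁻¹ * wS h * τ) = τ⁻¹ * (wS h * wS h) * τ by group, hww]
        group
      · calc wS h = τ * (τ⁻¹ * wS h * τ) * τ⁻¹ := by group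
          _ = 1 := by rw [e1]; group
  obtain ⟨l0, hl0⟩ := mul_th_surjective h (e' / e)
  have hl00 : l0 ≠ 0 := fun e1 => div_ne_zero he' he (by rw [← hl0, e1, zero_mul])
  obtain ⟨ν, hν⟩ : ∃ ν : Fˣ, (ν : F) = l0 := ⟨Units.mk0 l0 hl00, rfl⟩
  have hνe : dS h ν * uS h 0 e = uS h 0 e' * dS h ν := by
    rw [dS_mul_uS h, mul_zero, hν, hl0, div_mul_cancel₀ _ he]
  obtain ⟨σ₁, hσ₁⟩ : ∃ σ₁, σ₁ = τ * dS h ν := ⟨_, rfl⟩
  have h1 : σ₁⁻¹ * wS h * σ₁ = uS h 0 e := by
    rw [hσ₁, show (τ * dS h ν)⁻¹ * wS h * (τ * dS h ν) = (dS h ν)⁻¹ * ((τ⁻¹ * wS h * τ) * dS h ν) by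
      group, hv, ← hνe, inv_mul_cancel_left]
  -- a square root
  obtain ⟨μ, hμ⟩ : ∃ μ : Fˣ, μ⁻¹ * μ⁻¹ = κ := by
    haveI := charP_two h
    obtain ⟨r, hr⟩ := FiniteField.isSquare_of_char_two (ringChar.eq F 2) (κ : F)
    have hr0 : r ≠ 0 := left_ne_zero_of_mul (hr ▸ κ.ne_zero)
    exact ⟨(Units.mk0 r hr0)⁻¹, Units.ext (by simp [← hr])⟩
  have hμ1 : μ ≠ 1 := fun e1 => hκ (by rw [← hμ, e1, inv_one, one_mul])
  have h2 : dS h μ * wS h * (dS h μ)⁻¹ = wS h * dS h κ := by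
    rw [← inv_inv μ, ← wS_conj h, mul_assoc, ← map_inv, inv_inv, ← map_mul, hμ]
  obtain ⟨g, hg1, hg2, hg3⟩ := hb.tri (α := σ₁) (β := dS h μ * σ₁) (γ := 1) (x := wS h)
    (y := wS h * dS h κ) (by rw [h1]; exact hz)
    (by rw [← h2, show (dS h μ * σ₁)⁻¹ * (dS h μ * wS h * (dS h μ)⁻¹) * (dS h μ * σ₁) =
      σ₁⁻¹ * wS h * σ₁ by group, h1]; exact hz)
    (by rw [inv_one, one_mul, mul_one, inv_mul_cancel_left]; exact hc)
  have hσA : σ₁.1 • Cfsg.suzukiPointInfinity F = pA m (1 : F) 1 := by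
    rw [hσ₁]
    show (τ.1 * dHom F m ν) • _ = _
    rw [mul_smul, dHom_inf, hA]
  have hgA : g.1 • pA m (1 : F) 1 = pA m 1 1 := by
    have := smul_of_conj_bor h (hM hg1)
    rwa [hσA] at this
  have hgB : g.1 • (dHom F m μ • pA m (1 : F) 1) = dHom F m μ • pA m 1 1 := by
    have := smul_of_conj_bor h (hM hg2)
    change g.1 • ((dHom F m μ * σ₁.1) • _) = (dHom F m μ * σ₁.1) • _ at this
    rwa [mul_smul, hσA] at this
  have hg0 : g.1 • Cfsg.suzukiPointInfinity F = pA m (0 : F) 0 := by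
    have e1 : (g⁻¹ * wS h).1 • Cfsg.suzukiPointInfinity F = Cfsg.suzukiPointInfinity F := by
      have := hM hg3
      rw [inv_one, one_mul, mul_one] at this
      exact this
    change (g.1⁻¹ * wSL F) • _ = _ at e1
    rw [mul_smul, wSL_inf h, inv_smul_eq_iff] at e1
    exact e1.symm
  obtain ⟨p, r, l, hpl⟩ := (mem_stab_inf_iff h (g := wS h * g)).mp (by
    show (wSL F * g.1) • Cfsg.suzukiPointInfinity F = Cfsg.suzukiPointInfinity F
    rw [mul_smul, hg0, wSL_zero h])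
  have hpl' : wSL F * g.1 = uSL m p r * dHom F m l := congrArg Subtype.val hpl
  have eA : (uSL m p r * dHom F m l) • pA m (1 : F) 1 = pA m 1 1 := by
    rw [← hpl', mul_smul, hgA, hwA]
  have hμt : th m (μ : F) ≠ 0 := fun e1 => μ.ne_zero ((th_eq_zero h).mp e1)
  have hzB : zc m (μ : F) ((μ : F) * th m (μ : F)) = (μ : F) ^ 2 * th m (μ : F) := by
    rw [zc, th_mul h, th_th h]; linear_combination (μ : F) ^ 2 * th m (μ : F) * two_eq h
  have eB : (uSL m p r * dHom F m l) • (dHom F m μ • pA m (1 : F) 1) =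
      pA m ((μ : F)⁻¹) (((μ : F) * th m (μ : F))⁻¹) := by
    rw [← hpl', mul_smul, hgB, dHom_pA h, mul_one, mul_one,
      wSL_pA h (by rw [hzB]; exact mul_ne_zero (pow_ne_zero 2 μ.ne_zero) hμt), hzB]
    have := μ.ne_zero
    congr 1 <;> field_simp
  rw [mul_smul, dHom_pA h, uSL_pA h] at eA
  rw [dHom_pA h μ, mul_smul, dHom_pA h, uSL_pA h] at eB
  obtain ⟨a1, a2⟩ := pA_injective eA
  obtain ⟨b1, b2⟩ := pA_injective eB
  have two := two_eq h
  have hp : p = 1 + (l : F) := by linear_combination a1 - (l : F) * two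
  have hlμ : (l : F) * μ = 1 := by
    have hμ' : (μ : F) - 1 ≠ 0 := sub_ne_zero.mpr fun e1 => hμ1 (Units.ext e1)
    refine mul_left_cancel₀ hμ' ?_
    simp only [hp, mul_one] at b1
    linear_combination (μ : F) * b1 + mul_inv_cancel₀ μ.ne_zero - ((μ : F) + (l : F) * μ - 1) * two
  have hμi : (μ : F)⁻¹ = (l : F) := inv_eq_of_mul_eq_one_left hlμ
  rw [mul_inv, ← th_inv h, hμi] at b2
  simp only [hp, th_add h, th_one h, mul_one] at a2 b2
  have hl : ((l : F) - 1) * (th m (l : F) - 1) = 0 := by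
    have e2 : (l : F) * th m (l : F) * ((μ : F) * th m (μ : F)) = 1 := by
      rw [mul_mul_mul_comm, hlμ, one_mul, ← th_mul h, hlμ, th_one h]
    linear_combination a2 - b2 + e2 + (1 + th m (l : F)) * hlμ - ((l : F) * th m (l : F) + (l : F) + th m (l : F)) * two + two + (1 + th m (l : F)) * two
  rcases mul_eq_zero.mp hl with e1 | e1
  · rw [sub_eq_zero.mp e1, one_mul] at hlμ
    exact hμ1 (Units.ext hlμ)
  · have hl1 : (l : F) = 1 := th_injective h ((sub_eq_zero.mp e1).trans (th_one h).symm)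
    rw [hl1, one_mul] at hlμ
    exact hμ1 (Units.ext hlμ)

/-- The Sylow subgroup itself does not act binarily. -/
theorem not_bin_US : ¬ IsBin (US h) := by
  classical
  intro hb
  have hwi : (wS h)⁻¹ = wS h := inv_eq_of_mul_eq_one_right (wS_mul_self h)
  obtain ⟨σ, hσ⟩ : ∃ σ : F × F → ↥(Cfsg.Sz F m), ∀ p, σ p = uS h p.1 p.2 * wS h := ⟨_, fun p => rfl⟩
  have hpt : ∀ p : F × F, (σ p).1 • Cfsg.suzukiPointInfinity F = pA m p.1 p.2 := fun p => by
    rw [hσ]
    show (uSL m p.1 p.2 * wSL F) • _ = _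
    rw [mul_smul, wSL_inf h, uSL_zero_pt h]
  obtain ⟨f, hf⟩ : ∃ f : (F × F) × {ab : F × F // ab ≠ 0} → ↥(Cfsg.Sz F m),
      ∀ z, f z = σ z.1 * uS h z.2.1.1 z.2.1.2 * (σ z.1)⁻¹ := ⟨_, fun z => rfl⟩
  obtain ⟨z, z', hne, hz⟩ : ∃ z z', z ≠ z' ∧ (QuotientGroup.mk (f z) : _ ⧸ US h) = QuotientGroup.mk (f z') := by
    by_contra hcon
    push Not at hcon
    have hinj : Function.Injective fun z => (QuotientGroup.mk (f z) : _ ⧸ US h) := fun z z' e => by
      by_contra hne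
      exact hcon z z' hne e
    have hle := Nat.card_le_card_of_injective _ hinj
    have hc1 : Nat.card {ab : F × F // ab ≠ 0} = (2 ^ (2 * m + 1)) ^ 2 - 1 := by
      rw [Nat.card_eq_fintype_card, Fintype.card_subtype_compl, Fintype.card_subtype_eq,
        Fintype.card_prod, h.card, sq]
    rw [← Subgroup.index_eq_card, Nat.card_prod, Nat.card_prod, hc1,
      Nat.card_eq_fintype_card, h.card] at hle
    have hmul := (US h).index_mul_card
    rw [card_US h, card_Sz' h] at hmul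
    have hq := q_ge h
    obtain ⟨q, hqdef⟩ : ∃ q, q = 2 ^ (2 * m + 1) := ⟨_, rfl⟩
    rw [← hqdef] at hle hmul hq
    have hidx : (US h).index = (q ^ 2 + 1) * (q - 1) :=
      Nat.eq_of_mul_eq_mul_right (by positivity : 0 < q ^ 2) (hmul.trans (by ring))
    rw [hidx] at hle
    have h1 : q * q * (q ^ 2 - 1) = q * q * ((q + 1) * (q - 1)) := by
      congr 1
      simpa using Nat.sq_sub_sq q 1
    rw [h1] at hle
    have h2 : q ^ 2 + 1 < q * q * (q + 1) := by nlinarith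
    have h3 := Nat.mul_lt_mul_of_pos_right h2 (show 0 < q - 1 by omega)
    rw [mul_assoc] at h3
    omega
  have hco : ∀ z : (F × F) × {ab : F × F // ab ≠ 0}, (σ z.1)⁻¹ * f z * σ z.1 ∈ US h := fun z =>
    ⟨z.2.1.1, z.2.1.2, by rw [hf]; group⟩
  have hf1 : ∀ z, f z ≠ 1 := fun z e => z.2.2 (by
    rw [hf, mul_inv_eq_one, mul_eq_left, ← uS_zero h] at e
    exact Prod.ext (uS_inj h e).1 (uS_inj h e).2)
  have hfix : ∀ (z : (F × F) × {ab : F × F // ab ≠ 0}) {g : ↥(Cfsg.Sz F m)},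
      (σ z.1)⁻¹ * g * σ z.1 ∈ US h → g.1 • pA m z.1.1 z.1.2 = pA m z.1.1 z.1.2 := fun z g hg => by
    have := smul_of_conj_bor h (US_le_bor h hg)
    rwa [hpt] at this
  have huniq : ∀ {g : ↥(Cfsg.Sz F m)}, g ∈ US h → g ≠ 1 → ∀ p : F × F,
      g.1 • pA m p.1 p.2 ≠ pA m p.1 p.2 := fun {g} hg hne p e => by
    obtain ⟨a, b, rfl⟩ := hg
    exact inf_ne_pA m p.1 p.2 (fix_unique h hne (mem_pA m _ _) e).symm
  have hzz : (f z)⁻¹ * f z' ∈ US h := QuotientGroup.eq.mp hz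
  have hp : z.1 ≠ z'.1 := fun e => by
    have h1 : (σ z.1)⁻¹ * ((f z)⁻¹ * f z') * σ z.1 ∈ US h := by
      have := mul_mem (inv_mem (hco z)) (e ▸ hco z')
      rwa [show ((σ z.1)⁻¹ * f z * σ z.1)⁻¹ * ((σ z.1)⁻¹ * f z' * σ z.1) =
        (σ z.1)⁻¹ * ((f z)⁻¹ * f z') * σ z.1 by group] at this
    by_cases hd : (f z)⁻¹ * f z' = 1
    · rw [inv_mul_eq_one, hf, hf, ← e, mul_left_inj, mul_right_inj] at hd
      exact hne (Prod.ext e (Subtype.ext (Prod.ext (uS_inj h hd).1 (uS_inj h hd).2)))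
    · exact huniq hzz hd _ (hfix z h1)
  obtain ⟨g, hg1, hg2, hg3⟩ := hb.tri (γ := 1) (hco z) (hco z') (by simpa using hzz)
  have hg : g = 1 := by
    by_contra hg0
    obtain ⟨c, d, hcd⟩ := hg1
    have hne1 : uS h c d ≠ 1 := fun e => hg0 (by
      calc g = σ z.1 * ((σ z.1)⁻¹ * g * σ z.1) * (σ z.1)⁻¹ := by group
        _ = 1 := by rw [hcd, e]; group)
    have e2 := fix_unique h hne1 (mem_Sz_iff.mp ((σ z.1)⁻¹).2 _ (mem_pA m z'.1.1 z'.1.2)) (by
      rw [show uSL m c d = (σ z.1).1⁻¹ * g.1 * (σ z.1).1 from (congrArg Subtype.val hcd).symm]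
      show ((σ z.1).1⁻¹ * g.1 * (σ z.1).1) • ((σ z.1).1⁻¹ • pA m z'.1.1 z'.1.2) =
        (σ z.1).1⁻¹ • pA m z'.1.1 z'.1.2
      rw [mul_smul, mul_smul, smul_inv_smul, hfix z' hg2])
    change (σ z.1).1⁻¹ • pA m z'.1.1 z'.1.2 = _ at e2
    rw [inv_smul_eq_iff, hpt] at e2
    exact hp (Prod.ext (pA_injective e2).1 (pA_injective e2).2).symm
  rw [hg, inv_one, one_mul, one_mul, mul_one] at hg3
  exact huniq hg3 (hf1 z) _ (hfix z (hco z))

theorem dS_conj_inv (k : Fˣ) (a b : F) :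
    (dS h k)⁻¹ * uS h a b * dS h k =
      uS h ((k : F)⁻¹ * a) (((k : F) * th m (k : F))⁻¹ * b) := by
  rw [← map_inv, dS_mul_uS h, map_inv, inv_mul_cancel_right, Units.val_inv_eq_inv_val, th_inv h,
    mul_inv]

/-- Conjugating by a unipotent element moves the centre coordinate along a hyperplane. -/
theorem uS_conj_first (p A B : F) :
    uS h p 0 * uS h A B * (uS h p 0)⁻¹ = uS h A (B + (th m p * A + th m A * p)) := by
  rw [uS_inv h, uS_mul h, uS_mul h, th_add h]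
  congr 1
  · linear_combination p * two_eq h
  · linear_combination (th m p * p) * two_eq h

/-- Two of the hyperplanes together span the field. -/
theorem exists_hyperplanes {A B : F} (hA : A ≠ 0) (hB : B ≠ 0) (hne : A ≠ B) (c : F) :
    ∃ p r, th m p * A + th m A * p + (th m r * B + th m B * r) = c := by
  classical
  obtain ⟨f, hf⟩ : ∃ f : F →+ F, ∀ r, f r = th m r + r :=
    ⟨AddMonoidHom.mk' (fun r => th m r + r) (fun x y => by rw [th_add h]; ring), fun r => rfl⟩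
  have hker : (f.ker : Set F) = {0, 1} := by
    ext r
    simp only [SetLike.mem_coe, AddMonoidHom.mem_ker, hf, Set.mem_insert_iff, Set.mem_singleton_iff]
    refine ⟨fun e => th_eq_self h (by linear_combination e - r * two_eq h), ?_⟩
    rintro (rfl | rfl)
    · rw [th_zero h, add_zero]
    · rw [th_one h, add_self h]
  have hidx : f.range.index = 2 := by
    have h1 : f.ker.index = Nat.card ↥f.range := AddSubgroup.index_ker f
    have h2 := f.ker.index_mul_card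
    have h3 : Nat.card ↥f.ker = 2 := by
      rw [← SetLike.coe_sort_coe, hker, Nat.card_coe_set_eq, Set.ncard_pair zero_ne_one]
    have h4 := f.range.index_mul_card
    rw [h1, h3] at h2
    have h5 : 0 < Nat.card ↥f.range := Nat.card_pos
    exact Nat.eq_of_mul_eq_mul_right h5 (by rw [h4, ← h2, mul_comm])
  obtain ⟨d, hd⟩ : ∃ d, d = B * th m B / (A * th m A) := ⟨_, rfl⟩
  have hA' : A * th m A ≠ 0 := mul_ne_zero hA fun e => hA ((th_eq_zero h).mp e)
  have hd0 : d ≠ 0 := hd ▸ div_ne_zero (mul_ne_zero hB fun e => hB ((th_eq_zero h).mp e)) hA'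
  have hd1 : d ≠ 1 := fun e => hne (mul_th_inj h (by rw [hd, div_eq_one_iff_eq hA'] at e; exact e.symm))
  obtain ⟨u, hu⟩ : ∃ u, u = c / (A * th m A) := ⟨_, rfl⟩
  obtain ⟨s, t, hst⟩ : ∃ s t, f s + d * f t = u := by
    by_cases hu' : u ∈ f.range
    · obtain ⟨s, hs⟩ := hu'
      exact ⟨s, 0, by rw [map_zero, mul_zero, add_zero, hs]⟩
    obtain ⟨t, ht⟩ : ∃ t, d * f t ∉ f.range := by
      by_contra hall
      push Not at hall
      have hin : ∀ x, x ∈ f.range → d * x ∈ f.range := by rintro _ ⟨t, rfl⟩; exact hall t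
      obtain ⟨M, hM⟩ : ∃ M : ↥f.range → ↥f.range, ∀ x, (M x : F) = d * x :=
        ⟨fun x => ⟨d * x, hin x x.2⟩, fun x => rfl⟩
      have hMs : Function.Surjective M := Finite.injective_iff_surjective.mp fun x y e =>
        Subtype.ext (mul_left_cancel₀ hd0 (by rw [← hM, ← hM, e]))
      have key : ∀ x : F, (1 + d) * x ∈ f.range := fun x => by
        rw [add_mul, one_mul, AddSubgroup.add_mem_iff_of_index_two hidx]
        refine ⟨hin x, fun hx => ?_⟩
        obtain ⟨⟨y, hy⟩, e⟩ := hMs ⟨d * x, hx⟩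
        have := congrArg Subtype.val e
        rw [hM] at this
        rwa [← mul_left_cancel₀ hd0 this]
      have htop : f.range = ⊤ := eq_top_iff.mpr fun z _ => by
        have := key ((1 + d)⁻¹ * z)
        rwa [mul_inv_cancel_left₀] at this
        exact fun e => hd1 (by linear_combination e - two_eq h)
      rw [htop, AddSubgroup.index_top] at hidx
      omega
    obtain ⟨s, hs⟩ := (AddSubgroup.add_mem_iff_of_index_two hidx).mpr (iff_of_false hu' ht)
    exact ⟨s, t, by rw [hs]; linear_combination d * f t * two_eq h⟩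
  refine ⟨A * s, B * t, ?_⟩
  have hcu : A * th m A * u = c := by rw [hu, mul_div_cancel₀ _ hA']
  have hdA : A * th m A * d = B * th m B := by rw [hd, mul_div_cancel₀ _ hA']
  rw [← hcu, ← hst, hf, hf, th_mul h, th_mul h]
  linear_combination -(th m t + t) * hdA

/-- A binary stabiliser made of unipotent elements is the centre of the Sylow subgroup. -/
theorem eq_ZS_of_bin_le_US {M : Subgroup ↥(Cfsg.Sz F m)} (hM : M ≤ US h) {e : F} (he : e ≠ 0)
    (hz : uS h 0 e ∈ M) (hb : IsBin M) : M = ZS h := by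
  classical
  haveI := charP_two h
  have two := two_eq h
  obtain ⟨V, hV⟩ : ∃ V : AddSubgroup F, ∀ a, a ∈ V ↔ ∃ b, uS h a b ∈ M :=
    ⟨{ carrier := {a | ∃ b, uS h a b ∈ M}
       zero_mem' := ⟨0, by rw [uS_zero h]; exact one_mem M⟩
       add_mem' := fun {x y} ⟨b, hx⟩ ⟨d, hy⟩ => ⟨b + d + th m x * y, by
         rw [← uS_mul h]; exact mul_mem hx hy⟩
       neg_mem' := fun {x} hx => by rwa [neg_eq h] }, fun a => Iff.rfl⟩
  obtain ⟨W, hW⟩ : ∃ W : AddSubgroup F, ∀ b, b ∈ W ↔ uS h 0 b ∈ M :=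
    ⟨{ carrier := {b | uS h 0 b ∈ M}
       zero_mem' := by rw [Set.mem_setOf_eq, uS_zero h]; exact one_mem M
       add_mem' := fun {x y} hx hy => by
         have := mul_mem (show uS h 0 x ∈ M from hx) hy
         rwa [uS_mul h, th_zero h, zero_mul, add_zero, add_zero] at this
       neg_mem' := fun {x} hx => by rwa [neg_eq h] }, fun b => Iff.rfl⟩
  have hW0 : W ≠ ⊥ := fun e' => he (by rwa [← hW, e', AddSubgroup.mem_bot] at hz)
  by_cases hV0 : V = ⊥
  · by_cases hWT : W = ⊤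
    · ext g
      constructor
      · intro hg
        obtain ⟨a, b, rfl⟩ := hM hg
        have ha : a ∈ V := (hV a).mpr ⟨b, hg⟩
        rw [hV0, AddSubgroup.mem_bot] at ha
        exact ⟨b, by rw [ha]⟩
      · rintro ⟨b, rfl⟩
        rw [← hW, hWT]; trivial
    exfalso
    obtain ⟨l, μ, x, hl, hμ, hx, ⟨a, ha, b, hb', hxab⟩, hno⟩ := exists_nondistrib (p := 2) W hW0 hWT
    obtain ⟨l', hl'⟩ := mul_th_surjective h l
    obtain ⟨μ', hμ'⟩ := mul_th_surjective h μ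
    have hl'0 : l' ≠ 0 := fun e' => hl (by rw [← hl', e', zero_mul])
    have hμ'0 : μ' ≠ 0 := fun e' => hμ (by rw [← hμ', e', zero_mul])
    obtain ⟨g, hg1, hg2, hg3⟩ := hb.tri (α := 1) (β := dS h (Units.mk0 l' hl'0))
      (γ := dS h (Units.mk0 μ' hμ'0)) (x := uS h 0 x) (y := uS h 0 (l * a))
      (by simpa using (hW x).mp hx)
      (by rw [dS_conj_inv h, Units.val_mk0, hl', mul_zero, inv_mul_cancel_left₀ hl]; exact (hW a).mp ha)
      (by
        rw [uS_inv h, uS_mul h, dS_conj_inv h, Units.val_mk0, hμ', th_zero h, zero_mul, add_zero,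
          add_zero, add_zero, mul_zero, hxab,
          show l * a + μ * b + l * a = μ * b by linear_combination l * a * two,
          inv_mul_cancel_left₀ hμ]
        exact (hW b).mp hb')
    rw [inv_one, one_mul, mul_one] at hg1
    obtain ⟨g0, g1, rfl⟩ := hM hg1
    have hg0 : g0 ∈ V := (hV g0).mpr ⟨g1, hg1⟩
    rw [hV0, AddSubgroup.mem_bot] at hg0
    subst hg0
    rw [dS_conj_inv h, Units.val_mk0, hl', mul_zero] at hg2
    rw [uS_inv h, uS_mul h, dS_conj_inv h, Units.val_mk0, hμ', th_zero h, zero_mul, add_zero,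
      add_zero, add_zero, mul_zero] at hg3
    refine hno (l⁻¹ * g1) ((hW _).mpr hg2) (μ⁻¹ * (g1 + x)) ((hW _).mpr hg3) ?_ ?_
    · rw [mul_inv_cancel_left₀ hl]; exact (hW _).mpr hg1
    · rw [mul_inv_cancel_left₀ hl, mul_inv_cancel_left₀ hμ]
      linear_combination -g1 * two
  by_cases hVT : V = ⊤
  · exfalso
    refine not_bin_US h ?_
    suffices e' : M = US h by rw [← e']; exact hb
    refine le_antisymm hM ?_
    rintro _ ⟨a, b, rfl⟩
    have hWall : ∀ c, uS h 0 c ∈ M := fun c => by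
      obtain ⟨t, ht⟩ := mul_th_surjective h c
      obtain ⟨d, hd⟩ := (hV t).mp (hVT ▸ AddSubgroup.mem_top t)
      have := mul_mem hd hd
      rwa [uS_mul h, add_self h, add_self h, zero_add, mul_comm, ht] at this
    obtain ⟨d, hd⟩ := (hV a).mp (hVT ▸ AddSubgroup.mem_top a)
    have := mul_mem hd (hWall (b - d))
    rwa [uS_mul h, add_zero, mul_zero, add_zero, add_sub_cancel] at this
  exfalso
  obtain ⟨l, μ, x, hl, hμ, hx, ⟨a, ha, b, hb', hxab⟩, hno⟩ := exists_nondistrib (p := 2) V hV0 hVT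
  have hA : l * a ≠ 0 := fun e' => hno 0 V.zero_mem b hb' (by rw [mul_zero]; exact V.zero_mem)
    (by rw [hxab, e', mul_zero, sub_zero, zero_add])
  have hB : μ * b ≠ 0 := fun e' => hno a ha 0 V.zero_mem (by rwa [hxab, e', add_zero] at hx)
    (by rw [hxab, e', mul_zero, add_zero, sub_self])
  have hAB : l * a ≠ μ * b := fun e' => hno 0 V.zero_mem 0 V.zero_mem (by rw [mul_zero]; exact V.zero_mem)
    (by rw [hxab, ← e']; linear_combination l * a * two)
  obtain ⟨c, hc⟩ := (hV x).mp hx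
  obtain ⟨ca, hca⟩ := (hV a).mp ha
  obtain ⟨cb, hcb⟩ := (hV b).mp hb'
  obtain ⟨p, r, hpr⟩ := exists_hyperplanes h hA hB hAB
    (c - l * th m l * ca - μ * th m μ * cb - th m (l * a) * (μ * b))
  obtain ⟨σ₂, hσ₂⟩ : ∃ σ, σ = uS h p 0 * dS h (Units.mk0 l hl) := ⟨_, rfl⟩
  obtain ⟨σ₃, hσ₃⟩ : ∃ σ, σ = uS h r 0 * dS h (Units.mk0 μ hμ) := ⟨_, rfl⟩
  have hy : σ₂ * uS h a ca * σ₂⁻¹ =
      uS h (l * a) (l * th m l * ca + (th m p * (l * a) + th m (l * a) * p)) := by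
    rw [hσ₂, mul_assoc (uS h p 0), dS_mul_uS h, Units.val_mk0, ← uS_conj_first h p]; group
  have hw : σ₃ * uS h b cb * σ₃⁻¹ =
      uS h (μ * b) (μ * th m μ * cb + (th m r * (μ * b) + th m (μ * b) * r)) := by
    rw [hσ₃, mul_assoc (uS h r 0), dS_mul_uS h, Units.val_mk0, ← uS_conj_first h r]; group
  have hprod : σ₂ * uS h a ca * σ₂⁻¹ * (σ₃ * uS h b cb * σ₃⁻¹) = uS h x c := by
    rw [hy, hw, uS_mul h, ← hxab]
    congr 1
    linear_combination hpr
  obtain ⟨g, hg1, hg2, hg3⟩ := hb.tri (α := 1) (β := σ₂) (γ := σ₃) (x := uS h x c)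
    (y := σ₂ * uS h a ca * σ₂⁻¹) (by simpa using hc)
    (by rw [show σ₂⁻¹ * (σ₂ * uS h a ca * σ₂⁻¹) * σ₂ = uS h a ca by group]; exact hca)
    (by rw [← hprod, show σ₃⁻¹ * ((σ₂ * uS h a ca * σ₂⁻¹ * (σ₃ * uS h b cb * σ₃⁻¹))⁻¹ *
      (σ₂ * uS h a ca * σ₂⁻¹)) * σ₃ = (uS h b cb)⁻¹ by group]; exact inv_mem hcb)
  rw [inv_one, one_mul, mul_one] at hg1
  obtain ⟨v, v', rfl⟩ := hM hg1
  have key : ∀ {k : Fˣ} {p u u' : F} {σ : ↥(Cfsg.Sz F m)}, σ = uS h p 0 * dS h k →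
      σ⁻¹ * uS h u u' * σ ∈ M → (k : F)⁻¹ * u ∈ V := fun {k p u u' σ} hσ hmem => by
    rw [hσ, mul_inv_rev, show (dS h k)⁻¹ * (uS h p 0)⁻¹ * uS h u u' * (uS h p 0 * dS h k) =
      (dS h k)⁻¹ * ((uS h p 0)⁻¹ * uS h u u' * uS h p 0) * dS h k by group, uS_inv h, uS_mul h,
      uS_mul h, dS_conj_inv h, show p + u + p = u by linear_combination p * two] at hmem
    exact (hV _).mpr ⟨_, hmem⟩
  have hv2 := key hσ₂ hg2
  rw [uS_inv h, uS_mul h] at hg3
  have hv3 := key hσ₃ hg3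
  rw [Units.val_mk0] at hv2 hv3
  refine hno (l⁻¹ * v) hv2 (μ⁻¹ * (v + x)) hv3 ?_ ?_
  · rw [mul_inv_cancel_left₀ hl]; exact (hV v).mpr ⟨v', hg1⟩
  · rw [mul_inv_cancel_left₀ hl, mul_inv_cancel_left₀ hμ]
    linear_combination -v * two

/-- A binary stabiliser fixing a point and containing a central involution is the centre. -/
theorem eq_ZS_of_bin_le_bor {M : Subgroup ↥(Cfsg.Sz F m)} (hM : M ≤ bor h) {e : F} (he : e ≠ 0)
    (hz : uS h 0 e ∈ M) (hb : IsBin M) : M = ZS h := by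
  by_cases hUS : M ≤ US h
  · exact eq_ZS_of_bin_le_US h hUS he hz hb
  exfalso
  obtain ⟨g, hg, hgU⟩ := SetLike.not_le_iff_exists.mp hUS
  obtain ⟨a, b, κ, rfl⟩ := (mem_stab_inf_iff h).mp (hM hg)
  have hκ : κ ≠ 1 := fun e' => hgU ⟨a, b, by rw [e', map_one, mul_one]⟩
  have two := two_eq h
  have hκ' : (κ : F) ≠ 1 := fun e' => hκ (Units.ext e')
  have hne1 : 1 + (κ : F) ≠ 0 := fun e' => hκ' (by linear_combination e' - two)
  have hne2 : 1 + (κ : F) * th m (κ : F) ≠ 0 := fun e' =>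
    mul_th_ne_one h hκ' (by linear_combination e' - two)
  obtain ⟨X, hX⟩ : ∃ X, X = a / (1 + (κ : F)) := ⟨_, rfl⟩
  obtain ⟨Y, hY⟩ : ∃ Y, Y = (b + th m a * ((κ : F) * X)) / (1 + (κ : F) * th m (κ : F)) := ⟨_, rfl⟩
  have hXY : uS h a b * dS h κ * uS h X Y = uS h X Y * dS h κ := by
    rw [mul_assoc, dS_mul_uS h, ← mul_assoc, uS_mul h]
    congr 2
    · rw [hX]; field_simp; linear_combination (a * (κ : F)) * two
    · rw [eq_div_iff hne2] at hY
      linear_combination (-1 : F) * hY + ((κ : F) * th m (κ : F) * Y) * two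
  refine not_bin_of_diag h (M := M.map (MulAut.conj (uS h X Y)⁻¹).toMonoidHom) ?_ he ?_ hκ ?_
    (hb.conj h _)
  · rintro _ ⟨w, hw, rfl⟩
    have hu : uS h X Y ∈ bor h := US_le_bor h ⟨X, Y, rfl⟩
    exact mul_mem (mul_mem (inv_mem hu) (hM hw)) (inv_mem (inv_mem hu))
  · refine ⟨_, hz, ?_⟩
    show (uS h X Y)⁻¹ * uS h 0 e * (uS h X Y)⁻¹⁻¹ = uS h 0 e
    have := conj_ZS h X Y e 1
    rw [map_one, mul_one, Units.val_one, th_one h, one_mul, one_mul] at this
    conv_lhs => rw [← this]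
    group
  · refine ⟨_, hg, ?_⟩
    show (uS h X Y)⁻¹ * (uS h a b * dS h κ) * (uS h X Y)⁻¹⁻¹ = dS h κ
    rw [inv_inv, mul_assoc, hXY, inv_mul_cancel_left]

end Cfsg.Lib.Binary
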