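import Cfsg.Agent.Lib.Binary.Basic
import Cfsg.Agent.Lib.Linear.Suzuki.CompFacts
import Cfsg.Agent.Lib.Linear.Suzuki.Subgroups
import Cfsg.Agent.Lib.Linear.Suzuki.Sylow

/-!
# Suzuki groups: elementary facts for binary actions, and the binary action with stabiliser `ZS`
-/

set_option autoImplicit false

namespace Cfsg.Lib.Binary

open Cfsg Cfsg.Lib.Linear.Suz
open scoped Matrix LinearAlgebra.Projectivization

variable {F : Type*} [Field F] [Fintype F] {m : ℕ} (h : Params F m)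

/-- The stabiliser of the point at infinity. -/
abbrev bor (_h : Params F m) : Subgroup ↥(Cfsg.Sz F m) :=
  MulAction.stabilizer ↥(Cfsg.Sz F m) (Cfsg.suzukiPointInfinity F)

include h

theorem US_le_bor : US h ≤ bor h := by
  rintro _ ⟨a, b, rfl⟩
  exact uSL_inf a b

theorem ZS_le_US : ZS h ≤ US h := by
  rintro _ ⟨b, rfl⟩
  exact ⟨0, b, rfl⟩

theorem mem_bor_of_conj {σ u : ↥(Cfsg.Sz F m)} (hu : u ∈ US h) (hne : u ≠ 1)
    (hv : σ * u * σ⁻¹ ∈ US h) : σ ∈ bor h :=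
  conj_mem_stab h hu hv hne rfl

theorem conj_mem_ZS {σ z : ↥(Cfsg.Sz F m)} (hσ : σ ∈ bor h) (hz : z ∈ ZS h) :
    σ * z * σ⁻¹ ∈ ZS h := by
  obtain ⟨a, b, k, rfl⟩ := (mem_stab_inf_iff h).mp hσ
  obtain ⟨c, rfl⟩ := hz
  exact ⟨_, conj_ZS h a b c k⟩

theorem uS_zero_ne_one {b : F} (hb : b ≠ 0) : uS h 0 b ≠ 1 := fun e =>
  hb (uS_inj h (e.trans (uS_zero h).symm)).2

theorem ZS_sq {z : ↥(Cfsg.Sz F m)} (hz : z ∈ ZS h) : z * z = 1 := by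
  obtain ⟨b, rfl⟩ := hz
  rw [uS_mul h, th_zero h, zero_mul, add_zero, add_zero, add_self h, uS_zero h]

/-- Conjugates of `ZS` meet trivially or coincide: membership form. -/
theorem ZS_TI {σ τ u x : ↥(Cfsg.Sz F m)} (hu : u ≠ 1) (h1 : σ⁻¹ * u * σ ∈ US h)
    (h2 : τ⁻¹ * u * τ ∈ US h) (hx : σ⁻¹ * x * σ ∈ ZS h) : τ⁻¹ * x * τ ∈ ZS h := by
  have hb : τ⁻¹ * σ ∈ bor h := by
    refine mem_bor_of_conj h h1 (fun e => hu ?_) ?_
    · calc u = σ * (σ⁻¹ * u * σ) * σ⁻¹ := by group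
        _ = 1 := by rw [e]; group
    · rwa [show τ⁻¹ * σ * (σ⁻¹ * u * σ) * (τ⁻¹ * σ)⁻¹ = τ⁻¹ * u * τ by group]
  have := conj_mem_ZS h hb hx
  rwa [show τ⁻¹ * σ * (σ⁻¹ * x * σ) * (τ⁻¹ * σ)⁻¹ = τ⁻¹ * x * τ by group] at this

theorem isBin_ZS : IsBin (ZS h) := by
  intro n a b hn hp
  let Z := ZS h
  have hdiv : ∀ {g g' : ↥(Cfsg.Sz F m)} {i : Fin n}, Sends Z g (a i) (b i) → Sends Z g' (a i) (b i) →
      (a i)⁻¹ * (g⁻¹ * g') * a i ∈ Z := fun {g g' i} h1 h2 => by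
    have := mul_mem (inv_mem h1) h2
    rwa [show ((b i)⁻¹ * g * a i)⁻¹ * ((b i)⁻¹ * g' * a i) = (a i)⁻¹ * (g⁻¹ * g') * a i by group] at this
  have hstep : ∀ {g u : ↥(Cfsg.Sz F m)} {i : Fin n}, Sends Z (g * u) (a i) (b i) →
      (a i)⁻¹ * u * a i ∈ Z → Sends Z g (a i) (b i) := fun {g u i} h1 h2 => by
    have := mul_mem h1 (inv_mem h2)
    rwa [show (b i)⁻¹ * (g * u) * a i * ((a i)⁻¹ * u * a i)⁻¹ = (b i)⁻¹ * g * a i by group] at this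
  obtain ⟨i₀, hi₀⟩ : ∃ i₀ : Fin n, (i₀ : ℕ) = 0 := ⟨⟨0, by omega⟩, rfl⟩
  by_cases hall : ∀ i x, (a i₀)⁻¹ * x * a i₀ ∈ Z → (a i)⁻¹ * x * a i ∈ Z
  · obtain ⟨i₁, hi₁⟩ : ∃ i₁ : Fin n, i₁ ≠ i₀ := ⟨⟨1, by omega⟩, fun e => by simp [← e] at hi₀⟩
    obtain ⟨g, hg0, -⟩ := hp i₀ i₁ hi₁.symm
    refine ⟨g, fun i => ?_⟩
    by_cases hi : i = i₀
    · rw [hi]; exact hg0
    obtain ⟨g', h1, h2⟩ := hp i₀ i (Ne.symm hi)
    exact hstep (by rwa [mul_inv_cancel_left]) (hall i _ (hdiv hg0 h1))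
  push Not at hall
  obtain ⟨i₁, x, hx0, hx1⟩ := hall
  have hi₁ : i₁ ≠ i₀ := fun e => hx1 (e ▸ hx0)
  -- the two stabilisers meet trivially
  have htriv : ∀ u, (a i₀)⁻¹ * u * a i₀ ∈ Z → (a i₁)⁻¹ * u * a i₁ ∈ Z → u = 1 := fun u h1 h2 => by
    by_contra hu
    exact hx1 (ZS_TI h hu (ZS_le_US h h1) (ZS_le_US h h2) hx0)
  obtain ⟨g, hg0, hg1⟩ := hp i₀ i₁ hi₁.symm
  refine ⟨g, fun k => ?_⟩
  by_cases hk0 : k = i₀
  · rw [hk0]; exact hg0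
  by_cases hk1 : k = i₁
  · rw [hk1]; exact hg1
  obtain ⟨g₂, h20, h2k⟩ := hp i₀ k (Ne.symm hk0)
  obtain ⟨g₃, h31, h3k⟩ := hp i₁ k (Ne.symm hk1)
  obtain ⟨u, hu⟩ : ∃ u, u = g⁻¹ * g₂ := ⟨_, rfl⟩
  obtain ⟨v, hv⟩ : ∃ v, v = g⁻¹ * g₃ := ⟨_, rfl⟩
  have hu0 : (a i₀)⁻¹ * u * a i₀ ∈ Z := hu ▸ hdiv hg0 h20
  have hv1 : (a i₁)⁻¹ * v * a i₁ ∈ Z := hv ▸ hdiv hg1 h31
  have hwk : (a k)⁻¹ * (u⁻¹ * v) * a k ∈ Z := by
    rw [hu, hv, show (g⁻¹ * g₂)⁻¹ * (g⁻¹ * g₃) = g₂⁻¹ * g₃ by group]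
    exact hdiv h2k h3k
  by_cases hu1 : u = 1
  · rwa [inv_mul_eq_one.mp (hu.symm.trans hu1)]
  by_cases hv1' : v = 1
  · rwa [inv_mul_eq_one.mp (hv.symm.trans hv1')]
  exfalso
  by_cases huv : u = v
  · exact hu1 (htriv u hu0 (huv ▸ hv1))
  -- three involutions whose product relation forces commuting
  have hsq : ∀ {i : Fin n} {z : ↥(Cfsg.Sz F m)}, (a i)⁻¹ * z * a i ∈ Z → z * z = 1 := fun {i z} hz => by
    have := ZS_sq h hz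
    calc z * z = a i * (((a i)⁻¹ * z * a i) * ((a i)⁻¹ * z * a i)) * (a i)⁻¹ := by group
      _ = 1 := by rw [this]; group
  have hcomm : v * u = u * v := by
    have e := hsq hwk
    rw [inv_eq_of_mul_eq_one_right (hsq hu0)] at e
    calc v * u = u⁻¹ * ((u * v) * (u * v)) * v⁻¹ := by group
      _ = u * v := by
        rw [e, inv_eq_of_mul_eq_one_right (hsq hu0), inv_eq_of_mul_eq_one_right (hsq hv1)]; group
  obtain ⟨u', hu'⟩ : ∃ u', u' = (a i₀)⁻¹ * u * a i₀ := ⟨_, rfl⟩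
  have hvU : (a i₀)⁻¹ * v * a i₀ ∈ US h := by
    refine centralizer_US h (u := u') (ZS_le_US h (hu' ▸ hu0)) (fun e => hu1 ?_) ?_
    · calc u = a i₀ * u' * (a i₀)⁻¹ := by rw [hu']; group
        _ = 1 := by rw [e]; group
    · rw [Subgroup.mem_centralizer_singleton_iff, hu',
        show (a i₀)⁻¹ * v * a i₀ * ((a i₀)⁻¹ * u * a i₀) = (a i₀)⁻¹ * (v * u) * a i₀ by group, hcomm]
      group
  exact hv1' (htriv v (ZS_TI h hv1' (ZS_le_US h hv1) hvU hv1) hv1)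

theorem mem_ZS_iff_commute {x : ↥(Cfsg.Sz F m)} :
    x ∈ ZS h ↔ x ∈ US h ∧ ∀ u ∈ US h, u * x = x * u := by
  refine ⟨fun hx => ⟨ZS_le_US h hx, ?_⟩, ?_⟩
  · obtain ⟨b, rfl⟩ := hx
    rintro _ ⟨c, d, rfl⟩
    rw [uS_mul h, uS_mul h, th_zero h, zero_mul, mul_zero, add_zero, zero_add, add_zero, add_comm d,
      add_zero]
  · rintro ⟨⟨a, b, rfl⟩, hc⟩
    obtain ⟨k, hk0, hk1⟩ := exists_ne_zero_one h
    have key : ∀ c, th m c * a = th m a * c := fun c => by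
      have e := hc (uS h c 0) ⟨c, 0, rfl⟩
      rw [uS_mul h, uS_mul h] at e
      have := (uS_inj h e).2
      linear_combination this
    have h1 := key 1
    rw [th_one h, one_mul, mul_one] at h1
    rcases th_eq_self h h1.symm with rfl | rfl
    · exact ⟨b, rfl⟩
    · have hk := key k
      rw [th_one h, one_mul, mul_one] at hk
      rcases th_eq_self h hk with e | e
      exacts [absurd e hk0, absurd e hk1]

theorem center_sylow_eq {P : Sylow 2 ↥(Cfsg.Sz F m)} {σ : ↥(Cfsg.Sz F m)}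
    (e : (P : Subgroup ↥(Cfsg.Sz F m)) = (US h).map (MulAut.conj σ).toMonoidHom) :
    (Subgroup.center (P : Subgroup ↥(Cfsg.Sz F m))).map (P : Subgroup ↥(Cfsg.Sz F m)).subtype =
      (ZS h).map (MulAut.conj σ).toMonoidHom := by
  ext x
  simp only [Subgroup.mem_map, Subgroup.mem_center_iff, Subgroup.coe_subtype,
    MulEquiv.coe_toMonoidHom, MulAut.conj_apply]
  constructor
  · rintro ⟨⟨x, hx⟩, hc, rfl⟩
    obtain ⟨y, hy, hyx⟩ := e.le hx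
    change σ * y * σ⁻¹ = x at hyx
    refine ⟨y, (mem_ZS_iff_commute h).mpr ⟨hy, fun u hu => ?_⟩, hyx⟩
    have := congrArg Subtype.val (hc ⟨σ * u * σ⁻¹, e.ge ⟨u, hu, rfl⟩⟩)
    simp only [Subgroup.coe_mul, ← hyx] at this
    calc u * y = σ⁻¹ * (σ * u * σ⁻¹ * (σ * y * σ⁻¹)) * σ := by group
      _ = y * u := by rw [this]; group
  · rintro ⟨y, hy, rfl⟩
    refine ⟨⟨σ * y * σ⁻¹, e.ge ⟨y, ZS_le_US h hy, rfl⟩⟩, fun ⟨w, hw⟩ => Subtype.ext ?_, rfl⟩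
    obtain ⟨u, hu, rfl⟩ := e.le hw
    show σ * u * σ⁻¹ * (σ * y * σ⁻¹) = σ * y * σ⁻¹ * (σ * u * σ⁻¹)
    rw [show σ * u * σ⁻¹ * (σ * y * σ⁻¹) = σ * (u * y) * σ⁻¹ by group,
      ((mem_ZS_iff_commute h).mp hy).2 u hu]
    group

end Cfsg.Lib.Binary
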